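import Cfsg.Agent.Mon.CBd1
import Cfsg.Agent.Mon.CertPar

/-! The Monster programme: steps of the double coset enumeration, level B. -/

set_option autoImplicit false
set_option maxRecDepth 20000
set_option linter.unusedSectionVars false

namespace Cfsg.Lib.Mon.CB

open Cfsg.Lib.Mon.Cert

variable {X : Type*} [Group X] (C : Cx Cert.PB X) (H : Cert.HB C)
include H

theorem np0 : C.Np (n0, m0) := Cx.np (by decide +kernel)
theorem np1 : C.Np (n1, m1) := Cx.np (by decide +kernel)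
theorem np2 : C.Np (n2, m2) := Cx.np (by decide +kernel)
theorem np3 : C.Np (n3, m3) := Cx.np (by decide +kernel)
theorem np4 : C.Np (n4, m4) := Cx.np (by decide +kernel)
theorem np5 : C.Np (n5, m5) := Cx.np (by decide +kernel)
theorem np6 : C.Np (n6, m6) := Cx.np (by decide +kernel)
theorem np7 : C.Np (n7, m7) := Cx.np (by decide +kernel)
theorem np8 : C.Np (n8, m8) := Cx.np (by decide +kernel)
theorem np9 : C.Np (n9, m9) := Cx.np (by decide +kernel)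
theorem np10 : C.Np (n10, m10) := Cx.np (by decide +kernel)
theorem np11 : C.Np (n11, m11) := Cx.np (by decide +kernel)
theorem np12 : C.Np (n12, m12) := Cx.np (by decide +kernel)
theorem np13 : C.Np (n13, m13) := Cx.np (by decide +kernel)
theorem np14 : C.Np (n14, m14) := Cx.np (by decide +kernel)
theorem np15 : C.Np (n15, m15) := Cx.np (by decide +kernel)
theorem np16 : C.Np (n16, m16) := Cx.np (by decide +kernel)
theorem np17 : C.Np (n17, m17) := Cx.np (by decide +kernel)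
theorem np18 : C.Np (n18, m18) := Cx.np (by decide +kernel)
theorem np19 : C.Np (n19, m19) := Cx.np (by decide +kernel)
theorem np20 : C.Np (n20, m20) := Cx.np (by decide +kernel)
theorem np21 : C.Np (n21, m21) := Cx.np (by decide +kernel)
theorem np22 : C.Np (n22, m22) := Cx.np (by decide +kernel)
theorem np23 : C.Np (n23, m23) := Cx.np (by decide +kernel)
theorem hNL : C.NpL NL :=
  .cons (np0 C H) <| .cons (np1 C H) <| .cons (np2 C H) <| .cons (np3 C H) <| .cons (np4 C H) <| .cons (np5 C H) <| .cons (np6 C H) <| .cons (np7 C H) <| .cons (np8 C H) <| .cons (np9 C H) <| .cons (np10 C H) <| .cons (np11 C H) <| .cons (np12 C H) <| .cons (np13 C H) <| .cons (np14 C H) <| .cons (np15 C H) <| .cons (np16 C H) <| .cons (np17 C H) <| .cons (np18 C H) <| .cons (np19 C H) <| .cons (np20 C H) <| .cons (np21 C H) <| .cons (np22 C H) <| .cons (np23 C H) <| .nil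
theorem t0 : C.Tr a0 b0 c0 := H.t0.same (by decide +kernel)
theorem t1 : C.Tr a1 b1 c1 := H.t1.same (by decide +kernel)
theorem t2 : C.Tr a2 b2 c1 := (t1 C H).mv (np0 C H) (by decide +kernel)
theorem t3 : C.Tr a3 b3 c1 := (t1 C H).mv (np1 C H) (by decide +kernel)
theorem t4 : C.Tr a4 b4 c1 := (t1 C H).mv (np2 C H) (by decide +kernel)
theorem t5 : C.Tr a5 b5 c1 := (t1 C H).mv (np3 C H) (by decide +kernel)
theorem t6 : C.Tr a6 b6 c1 := (t1 C H).mv (np4 C H) (by decide +kernel)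
theorem t7 : C.Tr a7 b7 c1 := (t1 C H).mv (np5 C H) (by decide +kernel)
theorem t8 : C.Tr a8 b8 c1 := (t1 C H).mv (np6 C H) (by decide +kernel)
theorem t9 : C.Tr a9 b9 c1 := (t1 C H).mv (np7 C H) (by decide +kernel)
theorem t11 : C.Tr a11 b11 c1 := (t1 C H).mv (np9 C H) (by decide +kernel)
theorem t12 : C.Tr a12 b12 c1 := (t1 C H).mv (np10 C H) (by decide +kernel)
theorem t13 : C.Tr a13 b13 c1 := (t1 C H).mv (np11 C H) (by decide +kernel)
theorem t14 : C.Tr a14 b14 c1 := (t1 C H).mv (np12 C H) (by decide +kernel)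
theorem t15 : C.Tr a15 b15 c1 := (t1 C H).mv (np13 C H) (by decide +kernel)
theorem t16 : C.Tr a16 b16 c1 := (t1 C H).mv (np14 C H) (by decide +kernel)
theorem t17 : C.Tr a17 b17 c1 := (t1 C H).mv (np15 C H) (by decide +kernel)
theorem t18 : C.Tr a18 b18 c1 := (t1 C H).mv (np16 C H) (by decide +kernel)
theorem t19 : C.Tr a19 b19 c1 := (t1 C H).mv (np17 C H) (by decide +kernel)
theorem t20 : C.Tr a20 b20 c1 := (t1 C H).mv (np18 C H) (by decide +kernel)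
theorem t22 : C.Tr a22 b22 c1 := (t1 C H).mv (np20 C H) (by decide +kernel)
theorem t23 : C.Tr a23 b23 c1 := (t1 C H).mv (np21 C H) (by decide +kernel)
theorem t24 : C.Tr a24 b24 c1 := (t1 C H).mv (np22 C H) (by decide +kernel)
theorem f0 : C.Fa 0 g0 1 h0 := Cx.define (r := rB1) rfl (by decide +kernel)
theorem f1 : C.Fa 1 g1 0 h1 := (f0 C H).rev (by decide +kernel)
theorem hs0 : C.St 0 s0 := Cx.load (by decide +kernel)
theorem hs1 : C.St 0 s1 := Cx.load (by decide +kernel)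
theorem hs2 : C.St 0 s2 := Cx.load (by decide +kernel)
theorem hpool0 : C.StL 0 pool0 :=
  (Cx.StL.cons (hs0 C H) <| Cx.StL.cons (hs1 C H) <| Cx.StL.cons (hs2 C H) <| Cx.StL.nil).pool [(2, 0), (2, 3), (4, 0), (3, 1), (3, 1), (0, 3), (1, 3), (2, 3), (0, 3), (3, 1), (3, 1), (0, 3), (3, 0), (2, 3), (2, 3), (2, 3), (3, 2), (1, 3), (1, 3), (3, 0), (3, 2), (0, 3), (0, 3), (3, 2), (0, 3), (0, 3), (3, 0), (3, 2)] [11, 10, 9, 8, 7, 6, 5, 4, 3, 2, 1, 0] (by decide +kernel)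
theorem f2 : C.Fa 1 g2 1 h2 := (f0 C H).tri (hNL C H) [] (t6 C H) (f0 C H) (hpool0 C H) [11, 4] (by decide +kernel)
theorem f3 : C.Fa 1 g3 1 h3 := (f0 C H).tri (hNL C H) [] (t0 C H) (f0 C H) (hpool0 C H) [0, 10, 8, 7] (by decide +kernel)
theorem f4 : C.Fa 1 g4 2 h4 := Cx.define (r := rB2) rfl (by decide +kernel)
theorem f5 : C.Fa 2 g5 1 h5 := (f4 C H).rev (by decide +kernel)
theorem hs31 : C.St 1 s31 := (f0 C H).coin (f0 C H) (hpool0 C H) [11, 8, 11, 3, 1, 3] (by decide +kernel)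
theorem hs32 : C.St 1 s32 := (f0 C H).coin (f0 C H) (hpool0 C H) [1, 3, 2, 11, 2, 1] (by decide +kernel)
theorem hpool1 : C.StL 1 pool1 :=
  (Cx.StL.cons (hs31 C H) <| Cx.StL.cons (hs32 C H) <| Cx.StL.nil).pool [(0, 0), (2, 1), (0, 2), (4, 0), (1, 3), (3, 2), (3, 2), (3, 1), (3, 0), (2, 3), (0, 3), (3, 0), (0, 3), (3, 1), (3, 0), (3, 0), (0, 3), (2, 3), (1, 3), (3, 1), (3, 0), (3, 0), (1, 3), (3, 1), (3, 0), (1, 3), (2, 3), (2, 3)] [11, 10, 9, 8, 7, 6, 5, 4, 3, 2, 1, 0] (by decide +kernel)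
theorem f7 : C.Fa 2 g7 2 h7 := (f4 C H).tri (hNL C H) [] (t0 C H) (f4 C H) (hpool1 C H) [1, 3, 4, 0] (by decide +kernel)
theorem f8 : C.Fa 1 g8 3 h8 := Cx.define (r := rB3) rfl (by decide +kernel)
theorem f9 : C.Fa 3 g9 1 h9 := (f8 C H).rev (by decide +kernel)
theorem f11 : C.Fa 2 g11 3 h11 := (f4 C H).tri (hNL C H) [] (t5 C H) (f8 C H) (hpool1 C H) [5, 0, 8] (by decide +kernel)
theorem f12 : C.Fa 3 g12 2 h12 := (f11 C H).rev (by decide +kernel)
theorem hs61 : C.St 2 s61 := (f4 C H).coin (f4 C H) (hpool1 C H) [2, 0, 1, 0] (by decide +kernel)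
theorem hs62 : C.St 2 s62 := (f4 C H).coin (f4 C H) (hpool1 C H) [1, 0, 1, 10] (by decide +kernel)
theorem hs63 : C.St 2 s63 := (f4 C H).coin (f4 C H) (hpool1 C H) [4, 11, 0, 0, 2] (by decide +kernel)
theorem f6 : C.Fa 1 g6 2 h6 := (f2 C H).tri (hNL C H) [] (t8 C H) (f4 C H) (hpool1 C H) [8, 1] (by decide +kernel)
theorem hs92 : C.St 2 s92 := (f6 C H).coin (f4 C H) (hpool1 C H) [6, 6, 11] (by decide +kernel)
theorem hpool2 : C.StL 2 pool2 :=
  (Cx.StL.cons (hs61 C H) <| Cx.StL.cons (hs62 C H) <| Cx.StL.cons (hs63 C H) <| Cx.StL.cons (hs92 C H) <| Cx.StL.nil).pool [(0, 2), (2, 3), (1, 4), (0, 6), (3, 2), (3, 0), (0, 3), (0, 3), (3, 1), (3, 1), (0, 3), (1, 3), (3, 2), (3, 0), (3, 1), (0, 3), (3, 2), (0, 3), (3, 1), (3, 1), (1, 3), (2, 3), (0, 3), (3, 0), (2, 3), (3, 0), (3, 0), (3, 1)] [11, 10, 9, 8, 7, 6, 5, 4, 3, 2, 1, 0] (by decide +kernel)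
theorem f13 : C.Fa 3 g13 3 h13 := (f11 C H).tri (hNL C H) [] (t19 C H) (f11 C H) (hpool2 C H) [3, 1, 11] (by decide +kernel)
theorem f14 : C.Fa 3 g14 3 h14 := (f11 C H).tri (hNL C H) [] (t0 C H) (f11 C H) (hpool2 C H) [2, 5, 0] (by decide +kernel)
theorem hs121 : C.St 3 s121 := (f8 C H).coin (f8 C H) (hpool1 C H) [11, 0, 7, 9, 8] (by decide +kernel)
theorem hs122 : C.St 3 s122 := (f8 C H).coin (f8 C H) (hpool1 C H) [8, 10, 0, 2, 7] (by decide +kernel)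
theorem hs123 : C.St 3 s123 := (f8 C H).coin (f8 C H) (hpool1 C H) [11, 7, 7, 3, 1] (by decide +kernel)
theorem hs124 : C.St 3 s124 := (f8 C H).coin (f8 C H) (hpool1 C H) [3, 2, 6, 1, 7] (by decide +kernel)
theorem f10 : C.Fa 1 g10 3 h10 := (f2 C H).tri (hNL C H) [17] (t4 C H) (f8 C H) (hpool1 C H) [2, 0] (by decide +kernel)
theorem hs153 : C.St 3 s153 := (f10 C H).coin (f8 C H) (hpool1 C H) [4, 4, 11] (by decide +kernel)
theorem hpool3 : C.StL 3 pool3 :=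
  (Cx.StL.cons (hs121 C H) <| Cx.StL.cons (hs122 C H) <| Cx.StL.cons (hs123 C H) <| Cx.StL.cons (hs124 C H) <| Cx.StL.cons (hs153 C H) <| Cx.StL.nil).pool [(3, 0), (5, 2), (4, 0), (6, 7), (8, 2), (4, 2), (4, 3), (4, 0), (4, 1), (3, 4), (4, 2), (4, 2), (3, 4), (2, 4), (0, 4), (2, 4), (3, 4), (4, 1), (0, 4), (1, 4), (4, 2), (4, 0), (4, 0), (4, 1), (0, 4), (4, 3), (4, 1), (2, 4), (0, 4), (4, 2)] [11, 10, 9, 8, 7, 6, 5, 4, 3, 2, 1, 0] (by decide +kernel)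
theorem f15 : C.Fa 3 g15 3 h15 := (f14 C H).tri' (hNL C H) [] (t12 C H) (f14 C H) (hpool3 C H) [3, 8, 5] (by decide +kernel)
theorem f16 : C.Fa 1 g16 4 h16 := Cx.define (r := rB4) rfl (by decide +kernel)
theorem f17 : C.Fa 4 g17 1 h17 := (f16 C H).rev (by decide +kernel)
theorem f18 : C.Fa 3 g18 4 h18 := (f8 C H).tri (hNL C H) [2] (t5 C H) (f16 C H) (hpool1 C H) [1] (by decide +kernel)
theorem f19 : C.Fa 4 g19 3 h19 := (f18 C H).rev (by decide +kernel)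
theorem f20 : C.Fa 4 g20 4 h20 := (f16 C H).tri (hNL C H) [] (t19 C H) (f16 C H) (hpool1 C H) [6, 7] (by decide +kernel)
theorem f21 : C.Fa 2 g21 4 h21 := (f12 C H).tri (hNL C H) [] (t24 C H) (f18 C H) (hpool3 C H) [5, 7, 5] (by decide +kernel)
theorem f22 : C.Fa 4 g22 2 h22 := (f21 C H).rev (by decide +kernel)
theorem f23 : C.Fa 4 g23 4 h23 := (f18 C H).tri (hNL C H) [] (t23 C H) (f18 C H) (hpool3 C H) [11, 0, 0] (by decide +kernel)
theorem hs184 : C.St 4 s184 := (f16 C H).coin (f16 C H) (hpool1 C H) [1, 3, 4, 11] (by decide +kernel)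
theorem hs185 : C.St 4 s185 := (f16 C H).coin (f16 C H) (hpool1 C H) [6, 11, 3, 7, 2] (by decide +kernel)
theorem hpool4 : C.StL 4 pool4 :=
  (Cx.StL.cons (hs184 C H) <| Cx.StL.cons (hs185 C H) <| Cx.StL.nil).pool [(0, 1), (2, 2), (2, 1), (4, 2), (1, 3), (3, 0), (3, 1), (3, 0), (1, 3), (3, 0), (3, 2), (2, 3), (2, 3), (3, 0), (0, 3), (1, 3), (2, 3), (3, 1), (3, 1), (3, 1), (3, 2), (2, 3), (3, 1), (1, 3), (2, 3), (1, 3), (1, 3), (3, 2)] [11, 10, 9, 8, 7, 6, 5, 4, 3, 2, 1, 0] (by decide +kernel)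
theorem f24 : C.Fa 4 g24 4 h24 := (f20 C H).tri (hNL C H) [0] (t5 C H) (f20 C H) (hpool4 C H) [0, 10] (by decide +kernel)
theorem f25 : C.Fa 4 g25 4 h25 := (f24 C H).tri' (hNL C H) [9] (t11 C H) (f24 C H) (hpool4 C H) [0, 2] (by decide +kernel)
theorem f26 : C.Fa 2 g26 5 h26 := Cx.define (r := rB5) rfl (by decide +kernel)
theorem f27 : C.Fa 5 g27 2 h27 := (f26 C H).rev (by decide +kernel)
theorem f28 : C.Fa 4 g28 5 h28 := (f21 C H).tri (hNL C H) [] (t7 C H) (f26 C H) (hpool2 C H) [0, 1, 5] (by decide +kernel)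
theorem f29 : C.Fa 5 g29 4 h29 := (f28 C H).rev (by decide +kernel)
theorem f30 : C.Fa 5 g30 5 h30 := (f26 C H).tri (hNL C H) [] (t24 C H) (f26 C H) (hpool2 C H) [3, 11, 0] (by decide +kernel)
theorem hs214 : C.St 5 s214 := (f26 C H).coin (f26 C H) (hpool2 C H) [2, 11, 10, 10, 8] (by decide +kernel)
theorem hs215 : C.St 5 s215 := (f26 C H).coin (f26 C H) (hpool2 C H) [5, 7, 4, 11, 0] (by decide +kernel)
theorem hpool5 : C.StL 5 pool5 :=
  (Cx.StL.cons (hs214 C H) <| Cx.StL.cons (hs215 C H) <| Cx.StL.nil).pool [(0, 1), (2, 2), (1, 2), (4, 1), (3, 1), (0, 3), (0, 3), (2, 3), (3, 1), (3, 2), (0, 3), (1, 3), (1, 3), (3, 1), (1, 3), (1, 3), (1, 3), (3, 1), (3, 2), (3, 0), (0, 3), (1, 3), (3, 0), (3, 1), (3, 0), (3, 0), (3, 0), (3, 2)] [11, 10, 9, 8, 7, 6, 5, 4, 3, 2, 1, 0] (by decide +kernel)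
theorem f31 : C.Fa 5 g31 5 h31 := (f30 C H).tri' (hNL C H) [0] (t11 C H) (f30 C H) (hpool5 C H) [9] (by decide +kernel)
theorem f32 : C.Fa 3 g32 5 h32 := (f11 C H).tri (hNL C H) [] (t2 C H) (f26 C H) (hpool2 C H) [1, 6, 10, 9] (by decide +kernel)
theorem f33 : C.Fa 5 g33 3 h33 := (f32 C H).rev (by decide +kernel)
theorem f34 : C.Fa 5 g34 5 h34 := (f26 C H).tri (hNL C H) [] (t0 C H) (f26 C H) (hpool2 C H) [1, 1, 1, 1] (by decide +kernel)
theorem f35 : C.Fa 5 g35 5 h35 := (f28 C H).tri (hNL C H) [] (t4 C H) (f28 C H) (hpool4 C H) [2, 7, 11, 8] (by decide +kernel)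
theorem f36 : C.Fa 5 g36 5 h36 := (f26 C H).tri (hNL C H) [11] (t11 C H) (f26 C H) (hpool2 C H) [4, 6] (by decide +kernel)
theorem f37 : C.Fa 4 g37 5 h37 := (f18 C H).tri (hNL C H) [] (t8 C H) (f32 C H) (hpool3 C H) [9, 1, 8, 5] (by decide +kernel)
theorem f38 : C.Fa 5 g38 4 h38 := (f37 C H).rev (by decide +kernel)
theorem f39 : C.Fa 5 g39 5 h39 := (f32 C H).tri (hNL C H) [] (t7 C H) (f32 C H) (hpool3 C H) [10, 3, 4, 7] (by decide +kernel)
theorem f40 : C.Fa 5 g40 5 h40 := (f38 C H).tri' (hNL C H) [] (t3 C H) (f37 C H) (hpool4 C H) [7, 10] (by decide +kernel)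
theorem f41 : C.Fa 3 g41 6 h41 := Cx.define (r := rB6) rfl (by decide +kernel)
theorem f42 : C.Fa 6 g42 3 h42 := (f41 C H).rev (by decide +kernel)
theorem f46 : C.Fa 4 g46 6 h46 := (f19 C H).tri' (hNL C H) [] (t22 C H) (f41 C H) (hpool3 C H) [7, 4] (by decide +kernel)
theorem f47 : C.Fa 6 g47 4 h47 := (f46 C H).rev (by decide +kernel)
theorem f48 : C.Fa 6 g48 6 h48 := (f41 C H).tri (hNL C H) [20] (t15 C H) (f41 C H) (hpool3 C H) [4] (by decide +kernel)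
theorem f49 : C.Fa 6 g49 6 h49 := (f42 C H).tri' (hNL C H) [] (t15 C H) (f41 C H) (hpool3 C H) [10, 0, 7] (by decide +kernel)
theorem f50 : C.Fa 5 g50 6 h50 := (f37 C H).tri (hNL C H) [] (t2 C H) (f46 C H) (hpool4 C H) [1, 6, 9] (by decide +kernel)
theorem f51 : C.Fa 6 g51 5 h51 := (f50 C H).rev (by decide +kernel)
theorem f52 : C.Fa 5 g52 6 h52 := (f39 C H).tri (hNL C H) [] (t9 C H) (f50 C H) (hpool5 C H) [6, 7, 3] (by decide +kernel)
theorem f53 : C.Fa 6 g53 5 h53 := (f52 C H).rev (by decide +kernel)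
theorem f54 : C.Fa 6 g54 6 h54 := (f41 C H).tri (hNL C H) [] (t0 C H) (f41 C H) (hpool3 C H) [0, 7, 9, 6] (by decide +kernel)
theorem f55 : C.Fa 4 g55 7 h55 := Cx.define (r := rB7) rfl (by decide +kernel)
theorem f56 : C.Fa 7 g56 4 h56 := (f55 C H).rev (by decide +kernel)
theorem f59 : C.Fa 5 g59 7 h59 := (f28 C H).tri (hNL C H) [17] (t17 C H) (f55 C H) (hpool4 C H) [7] (by decide +kernel)
theorem f60 : C.Fa 7 g60 5 h60 := (f59 C H).rev (by decide +kernel)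
theorem f61 : C.Fa 7 g61 7 h61 := (f56 C H).tri' (hNL C H) [12] (t12 C H) (f55 C H) (hpool4 C H) [1] (by decide +kernel)
theorem f62 : C.Fa 4 g62 8 h62 := Cx.define (r := rB8) rfl (by decide +kernel)
theorem f63 : C.Fa 8 g63 4 h63 := (f62 C H).rev (by decide +kernel)
theorem f65 : C.Fa 5 g65 8 h65 := (f37 C H).tri (hNL C H) [] (t23 C H) (f62 C H) (hpool4 C H) [6, 4, 3] (by decide +kernel)
theorem f66 : C.Fa 8 g66 5 h66 := (f65 C H).rev (by decide +kernel)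
theorem f67 : C.Fa 7 g67 8 h67 := (f56 C H).tri' (hNL C H) [] (t18 C H) (f62 C H) (hpool4 C H) [1, 0, 5] (by decide +kernel)
theorem f68 : C.Fa 8 g68 7 h68 := (f67 C H).rev (by decide +kernel)
theorem f69 : C.Fa 8 g69 8 h69 := (f62 C H).tri (hNL C H) [] (t18 C H) (f62 C H) (hpool4 C H) [6, 10, 0] (by decide +kernel)
theorem f70 : C.Fa 5 g70 8 h70 := (f39 C H).tri' (hNL C H) [] (t6 C H) (f65 C H) (hpool5 C H) [1, 2, 4] (by decide +kernel)
theorem f71 : C.Fa 8 g71 5 h71 := (f70 C H).rev (by decide +kernel)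
theorem f72 : C.Fa 6 g72 8 h72 := (f52 C H).tri (hNL C H) [] (t20 C H) (f65 C H) (hpool5 C H) [3, 3] (by decide +kernel)
theorem f73 : C.Fa 8 g73 6 h73 := (f72 C H).rev (by decide +kernel)
theorem f74 : C.Fa 8 g74 8 h74 := (f65 C H).tri (hNL C H) [9] (t17 C H) (f65 C H) (hpool5 C H) [8] (by decide +kernel)
theorem f75 : C.Fa 8 g75 8 h75 := (f65 C H).tri (hNL C H) [] (t4 C H) (f70 C H) (hpool5 C H) [2, 8, 4] (by decide +kernel)
theorem hs456 : C.St 8 s456 := (f62 C H).coin (f62 C H) (hpool4 C H) [5, 1, 0, 4, 10] (by decide +kernel)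
theorem hs457 : C.St 8 s457 := (f62 C H).coin (f62 C H) (hpool4 C H) [8, 5, 8, 0, 5] (by decide +kernel)
theorem hs458 : C.St 8 s458 := (f62 C H).coin (f62 C H) (hpool4 C H) [5, 1, 0, 0, 3, 11] (by decide +kernel)
theorem f64 : C.Fa 4 g64 8 h64 := (f23 C H).tri (hNL C H) [] (t8 C H) (f62 C H) (hpool4 C H) [6, 3, 3] (by decide +kernel)
theorem hs487 : C.St 8 s487 := (f64 C H).coin (f62 C H) (hpool4 C H) [3, 8, 11, 3] (by decide +kernel)
theorem hpool8 : C.StL 8 pool8 :=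
  (Cx.StL.cons (hs456 C H) <| Cx.StL.cons (hs457 C H) <| Cx.StL.cons (hs458 C H) <| Cx.StL.cons (hs487 C H) <| Cx.StL.nil).pool [(0, 2), (2, 3), (4, 1), (2, 6), (2, 3), (3, 2), (0, 3), (1, 3), (3, 2), (3, 2), (0, 3), (0, 3), (3, 0), (0, 3), (0, 3), (2, 3), (2, 3), (3, 2), (1, 3), (0, 3), (3, 2), (2, 3), (3, 0), (3, 1), (2, 3), (0, 3), (1, 3), (1, 3)] [11, 10, 9, 8, 7, 6, 5, 4, 3, 2, 1, 0] (by decide +kernel)
theorem f76 : C.Fa 8 g76 5 h76 := (f69 C H).tri' (hNL C H) [] (t11 C H) (f71 C H) (hpool8 C H) [11, 11, 11] (by decide +kernel)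
theorem f77 : C.Fa 5 g77 8 h77 := (f76 C H).rev (by decide +kernel)
theorem f78 : C.Fa 8 g78 8 h78 := (f76 C H).tri' (hNL C H) [] (t11 C H) (f77 C H) (hpool5 C H) [1, 1, 6] (by decide +kernel)
theorem f79 : C.Fa 8 g79 8 h79 := (f75 C H).tri' (hNL C H) [] (t18 C H) (f75 C H) (hpool8 C H) [11, 5, 9] (by decide +kernel)
theorem f80 : C.Fa 8 g80 8 h80 := (f70 C H).tri (hNL C H) [] (t20 C H) (f70 C H) (hpool5 C H) [0, 3, 8, 7] (by decide +kernel)
theorem f81 : C.Fa 5 g81 9 h81 := Cx.define (r := rB9) rfl (by decide +kernel)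
theorem f82 : C.Fa 9 g82 5 h82 := (f81 C H).rev (by decide +kernel)
theorem f84 : C.Fa 6 g84 9 h84 := (f50 C H).tri (hNL C H) [] (t22 C H) (f81 C H) (hpool5 C H) [5, 0, 1] (by decide +kernel)
theorem f85 : C.Fa 9 g85 6 h85 := (f84 C H).rev (by decide +kernel)
theorem f86 : C.Fa 7 g86 9 h86 := (f59 C H).tri (hNL C H) [] (t6 C H) (f81 C H) (hpool5 C H) [0, 5, 2] (by decide +kernel)
theorem f87 : C.Fa 9 g87 7 h87 := (f86 C H).rev (by decide +kernel)
theorem f88 : C.Fa 8 g88 9 h88 := (f65 C H).tri (hNL C H) [] (t16 C H) (f81 C H) (hpool5 C H) [5, 2, 11] (by decide +kernel)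
theorem f89 : C.Fa 9 g89 8 h89 := (f88 C H).rev (by decide +kernel)
theorem f90 : C.Fa 9 g90 8 h90 := (f81 C H).tri (hNL C H) [2] (t24 C H) (f70 C H) (hpool5 C H) [5] (by decide +kernel)
theorem f91 : C.Fa 8 g91 9 h91 := (f90 C H).rev (by decide +kernel)
theorem hs368 : C.St 7 s368 := (f55 C H).coin (f55 C H) (hpool4 C H) [0, 11, 7, 2] (by decide +kernel)
theorem hs369 : C.St 7 s369 := (f55 C H).coin (f55 C H) (hpool4 C H) [10, 4, 0, 5] (by decide +kernel)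
theorem f57 : C.Fa 4 g57 7 h57 := (f23 C H).tri (hNL C H) [] (t4 C H) (f55 C H) (hpool4 C H) [0, 4] (by decide +kernel)
theorem hs398 : C.St 7 s398 := (f57 C H).coin (f55 C H) (hpool4 C H) [8, 5, 7] (by decide +kernel)
theorem f58 : C.Fa 4 g58 7 h58 := (f23 C H).tri (hNL C H) [] (t2 C H) (f55 C H) (hpool4 C H) [0, 5, 5, 6] (by decide +kernel)
theorem hs427 : C.St 7 s427 := (f58 C H).coin (f55 C H) (hpool4 C H) [1, 11, 8] (by decide +kernel)
theorem hpool7 : C.StL 7 pool7 :=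
  (Cx.StL.cons (hs368 C H) <| Cx.StL.cons (hs369 C H) <| Cx.StL.cons (hs398 C H) <| Cx.StL.cons (hs427 C H) <| Cx.StL.nil).pool [(3, 0), (2, 3), (1, 4), (6, 0), (3, 0), (2, 3), (3, 1), (3, 2), (2, 3), (2, 3), (0, 3), (0, 3), (3, 1), (1, 3), (3, 2), (3, 2), (3, 1), (3, 0), (2, 3), (3, 2), (1, 3), (2, 3), (0, 3), (0, 3), (1, 3), (3, 2), (2, 3), (1, 3)] [11, 10, 9, 8, 7, 6, 5, 4, 3, 2, 1, 0] (by decide +kernel)
theorem f92 : C.Fa 9 g92 9 h92 := (f87 C H).tri' (hNL C H) [] (t3 C H) (f86 C H) (hpool7 C H) [5, 10, 5] (by decide +kernel)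
theorem f93 : C.Fa 9 g93 9 h93 := (f86 C H).tri (hNL C H) [] (t2 C H) (f86 C H) (hpool7 C H) [2, 7] (by decide +kernel)
theorem hs516 : C.St 9 s516 := (f81 C H).coin (f81 C H) (hpool5 C H) [5, 2, 11, 9, 9] (by decide +kernel)
theorem hs517 : C.St 9 s517 := (f81 C H).coin (f81 C H) (hpool5 C H) [8, 7, 10, 7, 9, 1] (by decide +kernel)
theorem hs518 : C.St 9 s518 := (f81 C H).coin (f81 C H) (hpool5 C H) [11, 0, 0, 7, 4, 6] (by decide +kernel)
theorem hs519 : C.St 9 s519 := (f81 C H).coin (f81 C H) (hpool5 C H) [6, 11, 9, 10, 9, 5] (by decide +kernel)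
theorem f83 : C.Fa 5 g83 9 h83 := (f39 C H).tri (hNL C H) [5] (t13 C H) (f81 C H) (hpool5 C H) [8] (by decide +kernel)
theorem hs548 : C.St 9 s548 := (f83 C H).coin (f81 C H) (hpool5 C H) [0, 10, 3, 4] (by decide +kernel)
theorem hpool9 : C.StL 9 pool9 :=
  (Cx.StL.cons (hs516 C H) <| Cx.StL.cons (hs517 C H) <| Cx.StL.cons (hs518 C H) <| Cx.StL.cons (hs519 C H) <| Cx.StL.cons (hs548 C H) <| Cx.StL.nil).pool [(3, 0), (0, 2), (4, 0), (1, 6), (0, 8), (4, 3), (2, 4), (4, 3), (4, 3), (4, 2), (3, 4), (3, 4), (1, 4), (0, 4), (1, 4), (2, 4), (2, 4), (1, 4), (3, 4), (4, 3), (4, 0), (4, 2), (0, 4), (4, 3), (3, 4), (1, 4), (3, 4), (4, 1), (0, 4), (2, 4)] [11, 10, 9, 8, 7, 6, 5, 4, 3, 2, 1, 0] (by decide +kernel)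
theorem f94 : C.Fa 9 g94 9 h94 := (f92 C H).tri (hNL C H) [] (t15 C H) (f92 C H) (hpool9 C H) [3, 1, 2] (by decide +kernel)
theorem f95 : C.Fa 9 g95 9 h95 := (f81 C H).tri (hNL C H) [1] (t3 C H) (f81 C H) (hpool5 C H) [7, 7, 7] (by decide +kernel)
theorem hs244 : C.St 6 s244 := (f41 C H).coin (f41 C H) (hpool3 C H) [11, 5, 11, 10] (by decide +kernel)
theorem hs245 : C.St 6 s245 := (f41 C H).coin (f41 C H) (hpool3 C H) [8, 8, 8, 8] (by decide +kernel)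
theorem hs246 : C.St 6 s246 := (f41 C H).coin (f41 C H) (hpool3 C H) [11, 3, 11, 3] (by decide +kernel)
theorem f43 : C.Fa 3 g43 6 h43 := (f13 C H).tri (hNL C H) [] (t14 C H) (f41 C H) (hpool3 C H) [8, 6, 6, 9] (by decide +kernel)
theorem hs275 : C.St 6 s275 := (f43 C H).coin (f41 C H) (hpool3 C H) [6, 11, 3, 1] (by decide +kernel)
theorem f44 : C.Fa 3 g44 6 h44 := (f13 C H).tri (hNL C H) [] (t6 C H) (f41 C H) (hpool3 C H) [2, 6, 2, 6] (by decide +kernel)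
theorem hs304 : C.St 6 s304 := (f44 C H).coin (f41 C H) (hpool3 C H) [6, 1, 7, 9] (by decide +kernel)
theorem f45 : C.Fa 3 g45 6 h45 := (f13 C H).tri (hNL C H) [16] (t11 C H) (f41 C H) (hpool3 C H) [3, 1, 3, 10] (by decide +kernel)
theorem hs335 : C.St 6 s335 := (f45 C H).coin (f41 C H) (hpool3 C H) [8, 6] (by decide +kernel)
theorem hpool6 : C.StL 6 pool6 :=
  (Cx.StL.cons (hs244 C H) <| Cx.StL.cons (hs245 C H) <| Cx.StL.cons (hs246 C H) <| Cx.StL.cons (hs275 C H) <| Cx.StL.cons (hs304 C H) <| Cx.StL.cons (hs335 C H) <| Cx.StL.nil).pool [(0, 3), (2, 5), (4, 0), (0, 6), (8, 0), (10, 0), (5, 1), (0, 5), (5, 4), (1, 5), (5, 3), (4, 5), (5, 3), (5, 3), (5, 1), (3, 5), (5, 4), (1, 5), (3, 5), (5, 4), (5, 3), (1, 5), (3, 5), (5, 0), (5, 2), (5, 2), (5, 3), (4, 5), (5, 4), (0, 5), (3, 5), (2, 5)] [11, 10, 9, 8, 7, 6, 5, 4, 3, 2, 1, 0] (by decide +kernel)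
theorem hFL : C.FaL FL :=
  .cons (f0 C H) <| .cons (f1 C H) <| .cons (f2 C H) <| .cons (f3 C H) <| .cons (f4 C H) <| .cons (f5 C H) <|
  .cons (f7 C H) <| .cons (f8 C H) <| .cons (f9 C H) <| .cons (f11 C H) <| .cons (f12 C H) <| .cons (f13 C H) <|
  .cons (f14 C H) <| .cons (f15 C H) <| .cons (f16 C H) <| .cons (f17 C H) <| .cons (f18 C H) <| .cons (f19 C H) <|
  .cons (f20 C H) <| .cons (f21 C H) <| .cons (f22 C H) <| .cons (f23 C H) <| .cons (f24 C H) <| .cons (f25 C H) <|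
  .cons (f26 C H) <| .cons (f27 C H) <| .cons (f28 C H) <| .cons (f29 C H) <| .cons (f30 C H) <| .cons (f31 C H) <|
  .cons (f32 C H) <| .cons (f33 C H) <| .cons (f34 C H) <| .cons (f35 C H) <| .cons (f36 C H) <| .cons (f37 C H) <|
  .cons (f38 C H) <| .cons (f39 C H) <| .cons (f40 C H) <| .cons (f41 C H) <| .cons (f42 C H) <| .cons (f46 C H) <|
  .cons (f47 C H) <| .cons (f48 C H) <| .cons (f49 C H) <| .cons (f50 C H) <| .cons (f51 C H) <| .cons (f52 C H) <|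
  .cons (f53 C H) <| .cons (f54 C H) <| .cons (f55 C H) <| .cons (f56 C H) <| .cons (f59 C H) <| .cons (f60 C H) <|
  .cons (f61 C H) <| .cons (f62 C H) <| .cons (f63 C H) <| .cons (f65 C H) <| .cons (f66 C H) <| .cons (f67 C H) <|
  .cons (f68 C H) <| .cons (f69 C H) <| .cons (f70 C H) <| .cons (f71 C H) <| .cons (f72 C H) <| .cons (f73 C H) <|
  .cons (f74 C H) <| .cons (f75 C H) <| .cons (f76 C H) <| .cons (f77 C H) <| .cons (f78 C H) <| .cons (f79 C H) <|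
  .cons (f80 C H) <| .cons (f81 C H) <| .cons (f82 C H) <| .cons (f84 C H) <| .cons (f85 C H) <| .cons (f86 C H) <|
  .cons (f87 C H) <| .cons (f88 C H) <| .cons (f89 C H) <| .cons (f90 C H) <| .cons (f91 C H) <| .cons (f92 C H) <|
  .cons (f93 C H) <| .cons (f94 C H) <| .cons (f95 C H) <| .nil

end Cfsg.Lib.Mon.CB
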