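import Cfsg.Agent.Mon.CDd1
import Cfsg.Agent.Mon.CertPar

/-! The Monster programme: steps of the double coset enumeration, level D. -/

set_option autoImplicit false
set_option maxRecDepth 20000
set_option linter.unusedSectionVars false

namespace Cfsg.Lib.Mon.CD

open Cfsg.Lib.Mon.Cert

variable {X : Type*} [Group X] (C : Cx Cert.PD X) (H : Cert.HD C)
include H

theorem np0 : C.Np (n0, m0) := Cx.np (by decide +kernel)
theorem np1 : C.Np (n1, m1) := Cx.np (by decide +kernel)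
theorem np2 : C.Np (n2, m2) := Cx.np (by decide +kernel)
theorem np3 : C.Np (n3, m3) := Cx.np (by decide +kernel)
theorem np4 : C.Np (n4, m4) := Cx.np (by decide +kernel)
theorem np5 : C.Np (n5, m5) := Cx.np (by decide +kernel)
theorem np6 : C.Np (n6, m6) := Cx.np (by decide +kernel)
theorem np7 : C.Np (n7, m7) := Cx.np (by decide +kernel)
theorem np8 : C.Np (n8, m8) := Cx.np (by decide +kernel)
theorem np9 : C.Np (n9, m9) := Cx.np (by decide +kernel)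
theorem np10 : C.Np (n10, m10) := Cx.np (by decide +kernel)
theorem np11 : C.Np (n11, m11) := Cx.np (by decide +kernel)
theorem np12 : C.Np (n12, m12) := Cx.np (by decide +kernel)
theorem np13 : C.Np (n13, m13) := Cx.np (by decide +kernel)
theorem np14 : C.Np (n14, m14) := Cx.np (by decide +kernel)
theorem np15 : C.Np (n15, m15) := Cx.np (by decide +kernel)
theorem hNL : C.NpL NL :=
  .cons (np0 C H) <| .cons (np1 C H) <| .cons (np2 C H) <| .cons (np3 C H) <| .cons (np4 C H) <| .cons (np5 C H) <| .cons (np6 C H) <| .cons (np7 C H) <| .cons (np8 C H) <| .cons (np9 C H) <| .cons (np10 C H) <| .cons (np11 C H) <| .cons (np12 C H) <| .cons (np13 C H) <| .cons (np14 C H) <| .cons (np15 C H) <| .nil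
theorem t0 : C.Tr a0 b0 c0 := H.t0.same (by decide +kernel)
theorem t1 : C.Tr a1 b1 c1 := H.t1.same (by decide +kernel)
theorem t2 : C.Tr a2 b2 c0 := (t0 C H).mv (np0 C H) (by decide +kernel)
theorem t3 : C.Tr a3 b3 c0 := (t0 C H).mv (np1 C H) (by decide +kernel)
theorem t8 : C.Tr a8 b8 c0 := (t0 C H).mv (np6 C H) (by decide +kernel)
theorem t10 : C.Tr a10 b10 c0 := (t0 C H).mv (np8 C H) (by decide +kernel)
theorem t13 : C.Tr a13 b13 c0 := (t0 C H).mv (np11 C H) (by decide +kernel)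
theorem t16 : C.Tr a16 b16 c0 := (t0 C H).mv (np14 C H) (by decide +kernel)
theorem t17 : C.Tr a17 b17 c0 := (t0 C H).mv (np15 C H) (by decide +kernel)
theorem f0 : C.Fa 0 g0 1 h0 := Cx.define (r := rD1) rfl (by decide +kernel)
theorem f1 : C.Fa 1 g1 0 h1 := (f0 C H).rev (by decide +kernel)
theorem hs0 : C.St 0 s0 := Cx.load (by decide +kernel)
theorem hs1 : C.St 0 s1 := Cx.load (by decide +kernel)
theorem hs2 : C.St 0 s2 := Cx.load (by decide +kernel)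
theorem hpool0 : C.StL 0 pool0 :=
  (Cx.StL.cons (hs0 C H) <| Cx.StL.cons (hs1 C H) <| Cx.StL.cons (hs2 C H) <| Cx.StL.nil).pool [(0, 1), (2, 0), (4, 1), (1, 3), (3, 0), (1, 3), (3, 1), (3, 2), (3, 0), (3, 2), (1, 3), (2, 3), (1, 3), (1, 3), (0, 3), (3, 0), (2, 3), (2, 3), (2, 3), (2, 3), (3, 0), (3, 2), (2, 3), (2, 3), (2, 3), (3, 1), (2, 3), (3, 1)] [11, 10, 9, 8, 7, 6, 5, 4, 3, 2, 1, 0] (by decide +kernel)
theorem f2 : C.Fa 1 g2 1 h2 := (f0 C H).tri (hNL C H) [] (t3 C H) (f0 C H) (hpool0 C H) [0, 6, 11] (by decide +kernel)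
theorem f3 : C.Fa 1 g3 1 h3 := (f0 C H).tri (hNL C H) [] (t1 C H) (f0 C H) (hpool0 C H) [2, 3, 11, 0] (by decide +kernel)
theorem f4 : C.Fa 1 g4 2 h4 := Cx.define (r := rD2) rfl (by decide +kernel)
theorem f5 : C.Fa 2 g5 1 h5 := (f4 C H).rev (by decide +kernel)
theorem hs31 : C.St 1 s31 := (f0 C H).coin (f0 C H) (hpool0 C H) [6, 9, 8, 4, 9] (by decide +kernel)
theorem hs32 : C.St 1 s32 := (f0 C H).coin (f0 C H) (hpool0 C H) [8, 5, 2, 10, 3] (by decide +kernel)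
theorem hpool1 : C.StL 1 pool1 :=
  (Cx.StL.cons (hs31 C H) <| Cx.StL.cons (hs32 C H) <| Cx.StL.nil).pool [(0, 1), (0, 2), (0, 2), (4, 0), (3, 1), (3, 2), (1, 3), (3, 1), (1, 3), (3, 2), (3, 1), (3, 1), (3, 0), (3, 0), (3, 0), (3, 0), (0, 3), (3, 0), (3, 0), (1, 3), (3, 2), (1, 3), (3, 1), (0, 3), (0, 3), (1, 3), (3, 2), (3, 1)] [11, 10, 9, 8, 7, 6, 5, 4, 3, 2, 1, 0] (by decide +kernel)
theorem hs61 : C.St 2 s61 := (f4 C H).coin (f4 C H) (hpool1 C H) [6] (by decide +kernel)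
theorem hs62 : C.St 2 s62 := (f4 C H).coin (f4 C H) (hpool1 C H) [10] (by decide +kernel)
theorem f6 : C.Fa 1 g6 2 h6 := (f2 C H).tri (hNL C H) [9] (t17 C H) (f4 C H) Cx.StL.nil [] (by decide +kernel)
theorem hs91 : C.St 2 s91 := (f6 C H).coin (f4 C H) Cx.StL.nil [] (by decide +kernel)
theorem hpool2 : C.StL 2 pool2 :=
  (Cx.StL.cons (hs61 C H) <| Cx.StL.cons (hs62 C H) <| Cx.StL.cons (hs91 C H) <| Cx.StL.nil).pool [(0, 0), (2, 3), (4, 2), (0, 3), (0, 3), (3, 2), (3, 2), (3, 2), (3, 1), (3, 1), (3, 2), (3, 0), (0, 3), (0, 3), (1, 3), (3, 1), (3, 0), (1, 3), (1, 3), (3, 1), (1, 3), (1, 3), (3, 0), (3, 1), (1, 3), (3, 1), (3, 2), (3, 1)] [11, 10, 9, 8, 7, 6, 5, 4, 3, 2, 1, 0] (by decide +kernel)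
theorem f7 : C.Fa 1 g7 1 h7 := (f4 C H).tri' (hNL C H) [] (t1 C H) (f5 C H) (hpool2 C H) [1, 7, 0, 5, 3] (by decide +kernel)
theorem f8 : C.Fa 1 g8 3 h8 := Cx.define (r := rD3) rfl (by decide +kernel)
theorem f9 : C.Fa 3 g9 1 h9 := (f8 C H).rev (by decide +kernel)
theorem f15 : C.Fa 3 g15 3 h15 := (f8 C H).tri (hNL C H) [] (t0 C H) (f8 C H) (hpool1 C H) [0, 6, 4] (by decide +kernel)
theorem f16 : C.Fa 1 g16 4 h16 := Cx.define (r := rD4) rfl (by decide +kernel)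
theorem f17 : C.Fa 4 g17 1 h17 := (f16 C H).rev (by decide +kernel)
theorem f19 : C.Fa 3 g19 4 h19 := (f8 C H).tri (hNL C H) [] (t2 C H) (f16 C H) (hpool1 C H) [3, 2, 1] (by decide +kernel)
theorem f20 : C.Fa 4 g20 3 h20 := (f19 C H).rev (by decide +kernel)
theorem f21 : C.Fa 4 g21 4 h21 := (f16 C H).tri (hNL C H) [] (t10 C H) (f16 C H) (hpool1 C H) [5, 2] (by decide +kernel)
theorem hs120 : C.St 3 s120 := (f8 C H).coin (f8 C H) (hpool1 C H) [7, 3] (by decide +kernel)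
theorem hs121 : C.St 3 s121 := (f8 C H).coin (f8 C H) (hpool1 C H) [9, 9, 3] (by decide +kernel)
theorem f10 : C.Fa 1 g10 3 h10 := (f3 C H).tri (hNL C H) [9] (t10 C H) (f8 C H) (hpool1 C H) [8] (by decide +kernel)
theorem hs150 : C.St 3 s150 := (f10 C H).coin (f8 C H) (hpool1 C H) [10, 1] (by decide +kernel)
theorem f11 : C.Fa 1 g11 3 h11 := (f7 C H).tri (hNL C H) [] (t13 C H) (f8 C H) (hpool1 C H) [0, 4, 0] (by decide +kernel)
theorem hs179 : C.St 3 s179 := (f11 C H).coin (f8 C H) (hpool1 C H) [0, 11] (by decide +kernel)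
theorem f12 : C.Fa 1 g12 3 h12 := (f2 C H).tri (hNL C H) [] (t1 C H) (f8 C H) (hpool1 C H) [11, 8, 11] (by decide +kernel)
theorem hs208 : C.St 3 s208 := (f12 C H).coin (f8 C H) (hpool1 C H) [10, 0] (by decide +kernel)
theorem f13 : C.Fa 3 g13 1 h13 := (f9 C H).tri' (hNL C H) [] (t16 C H) (f2 C H) (hpool1 C H) [7, 2, 6] (by decide +kernel)
theorem f14 : C.Fa 1 g14 3 h14 := (f13 C H).rev (by decide +kernel)
theorem hs239 : C.St 3 s239 := (f14 C H).coin (f8 C H) (hpool1 C H) [0, 5, 0] (by decide +kernel)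
theorem hpool3 : C.StL 3 pool3 :=
  (Cx.StL.cons (hs120 C H) <| Cx.StL.cons (hs121 C H) <| Cx.StL.cons (hs150 C H) <| Cx.StL.cons (hs179 C H) <| Cx.StL.cons (hs208 C H) <| Cx.StL.cons (hs239 C H) <| Cx.StL.nil).pool [(0, 5), (5, 2), (0, 4), (6, 7), (9, 8), (10, 0), (5, 4), (0, 5), (1, 5), (2, 5), (5, 4), (0, 5), (4, 5), (5, 3), (5, 3), (5, 4), (4, 5), (3, 5), (0, 5), (5, 0), (5, 3), (5, 1), (5, 3), (5, 0), (1, 5), (5, 3), (5, 1), (0, 5), (1, 5), (5, 3), (3, 5), (5, 0)] [11, 10, 9, 8, 7, 6, 5, 4, 3, 2, 1, 0] (by decide +kernel)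
theorem f22 : C.Fa 4 g22 4 h22 := (f20 C H).tri' (hNL C H) [] (t2 C H) (f19 C H) (hpool3 C H) [4, 11, 8] (by decide +kernel)
theorem hs272 : C.St 4 s272 := (f16 C H).coin (f16 C H) (hpool1 C H) [8, 2, 5, 4] (by decide +kernel)
theorem hs273 : C.St 4 s273 := (f16 C H).coin (f16 C H) (hpool1 C H) [8, 2, 8, 10] (by decide +kernel)
theorem f18 : C.Fa 1 g18 4 h18 := (f2 C H).tri (hNL C H) [] (t8 C H) (f16 C H) (hpool1 C H) [2, 2, 7] (by decide +kernel)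
theorem hs302 : C.St 4 s302 := (f18 C H).coin (f16 C H) (hpool1 C H) [0, 6] (by decide +kernel)
theorem hpool4 : C.StL 4 pool4 :=
  (Cx.StL.cons (hs272 C H) <| Cx.StL.cons (hs273 C H) <| Cx.StL.cons (hs302 C H) <| Cx.StL.nil).pool [(2, 0), (3, 2), (2, 4), (3, 1), (0, 3), (3, 0), (3, 2), (0, 3), (2, 3), (3, 2), (0, 3), (1, 3), (3, 1), (0, 3), (3, 1), (3, 2), (2, 3), (3, 1), (1, 3), (0, 3), (3, 2), (0, 3), (3, 1), (0, 3), (0, 3), (3, 2), (1, 3), (1, 3)] [11, 10, 9, 8, 7, 6, 5, 4, 3, 2, 1, 0] (by decide +kernel)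
theorem hFL : C.FaL FL :=
  .cons (f0 C H) <| .cons (f1 C H) <| .cons (f2 C H) <| .cons (f3 C H) <| .cons (f4 C H) <| .cons (f5 C H) <|
  .cons (f7 C H) <| .cons (f8 C H) <| .cons (f9 C H) <| .cons (f15 C H) <| .cons (f16 C H) <| .cons (f17 C H) <|
  .cons (f19 C H) <| .cons (f20 C H) <| .cons (f21 C H) <| .cons (f22 C H) <| .nil

end Cfsg.Lib.Mon.CD
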