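import Cfsg.Agent.Mon.CEd1
import Cfsg.Agent.Mon.CertPar

/-! The Monster programme: steps of the double coset enumeration, level E. -/

set_option autoImplicit false
set_option maxRecDepth 20000
set_option linter.unusedSectionVars false

namespace Cfsg.Lib.Mon.CE

open Cfsg.Lib.Mon.Cert

variable {X : Type*} [Group X] (C : Cx Cert.PE X) (H : Cert.HE C)
include H

theorem np0 : C.Np (n0, m0) := Cx.np (by decide +kernel)
theorem np1 : C.Np (n1, m1) := Cx.np (by decide +kernel)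
theorem np2 : C.Np (n2, m2) := Cx.np (by decide +kernel)
theorem np3 : C.Np (n3, m3) := Cx.np (by decide +kernel)
theorem np4 : C.Np (n4, m4) := Cx.np (by decide +kernel)
theorem np5 : C.Np (n5, m5) := Cx.np (by decide +kernel)
theorem np6 : C.Np (n6, m6) := Cx.np (by decide +kernel)
theorem np7 : C.Np (n7, m7) := Cx.np (by decide +kernel)
theorem np8 : C.Np (n8, m8) := Cx.np (by decide +kernel)
theorem np9 : C.Np (n9, m9) := Cx.np (by decide +kernel)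
theorem np10 : C.Np (n10, m10) := Cx.np (by decide +kernel)
theorem np11 : C.Np (n11, m11) := Cx.np (by decide +kernel)
theorem np12 : C.Np (n12, m12) := Cx.np (by decide +kernel)
theorem np13 : C.Np (n13, m13) := Cx.np (by decide +kernel)
theorem np14 : C.Np (n14, m14) := Cx.np (by decide +kernel)
theorem np15 : C.Np (n15, m15) := Cx.np (by decide +kernel)
theorem np16 : C.Np (n16, m16) := Cx.np (by decide +kernel)
theorem np17 : C.Np (n17, m17) := Cx.np (by decide +kernel)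
theorem np18 : C.Np (n18, m18) := Cx.np (by decide +kernel)
theorem np19 : C.Np (n19, m19) := Cx.np (by decide +kernel)
theorem np20 : C.Np (n20, m20) := Cx.np (by decide +kernel)
theorem np21 : C.Np (n21, m21) := Cx.np (by decide +kernel)
theorem np22 : C.Np (n22, m22) := Cx.np (by decide +kernel)
theorem np23 : C.Np (n23, m23) := Cx.np (by decide +kernel)
theorem hNL : C.NpL NL :=
  .cons (np0 C H) <| .cons (np1 C H) <| .cons (np2 C H) <| .cons (np3 C H) <| .cons (np4 C H) <| .cons (np5 C H) <| .cons (np6 C H) <| .cons (np7 C H) <| .cons (np8 C H) <| .cons (np9 C H) <| .cons (np10 C H) <| .cons (np11 C H) <| .cons (np12 C H) <| .cons (np13 C H) <| .cons (np14 C H) <| .cons (np15 C H) <| .cons (np16 C H) <| .cons (np17 C H) <| .cons (np18 C H) <| .cons (np19 C H) <| .cons (np20 C H) <| .cons (np21 C H) <| .cons (np22 C H) <| .cons (np23 C H) <| .nil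
theorem t0 : C.Tr a0 b0 c0 := H.t0.same (by decide +kernel)
theorem t1 : C.Tr a1 b1 c1 := H.t1.same (by decide +kernel)
theorem t2 : C.Tr a2 b2 c1 := (t1 C H).mv (np0 C H) (by decide +kernel)
theorem t3 : C.Tr a3 b3 c1 := (t1 C H).mv (np1 C H) (by decide +kernel)
theorem t4 : C.Tr a4 b4 c1 := (t1 C H).mv (np2 C H) (by decide +kernel)
theorem t5 : C.Tr a5 b5 c1 := (t1 C H).mv (np3 C H) (by decide +kernel)
theorem t6 : C.Tr a6 b6 c1 := (t1 C H).mv (np4 C H) (by decide +kernel)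
theorem t10 : C.Tr a10 b10 c1 := (t1 C H).mv (np8 C H) (by decide +kernel)
theorem t11 : C.Tr a11 b11 c1 := (t1 C H).mv (np9 C H) (by decide +kernel)
theorem t15 : C.Tr a15 b15 c1 := (t1 C H).mv (np13 C H) (by decide +kernel)
theorem t17 : C.Tr a17 b17 c1 := (t1 C H).mv (np15 C H) (by decide +kernel)
theorem t24 : C.Tr a24 b24 c1 := (t1 C H).mv (np22 C H) (by decide +kernel)
theorem f0 : C.Fa 0 g0 0 h0 := Cx.base H.tau (by decide +kernel)
theorem f1 : C.Fa 0 g1 1 h1 := Cx.define (r := rE1) rfl (by decide +kernel)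
theorem f2 : C.Fa 1 g2 0 h2 := (f1 C H).rev (by decide +kernel)
theorem hs0 : C.St 0 s0 := Cx.load (by decide +kernel)
theorem hs1 : C.St 0 s1 := Cx.load (by decide +kernel)
theorem hs2 : C.St 0 s2 := Cx.load (by decide +kernel)
theorem hpool0 : C.StL 0 pool0 :=
  (Cx.StL.cons (hs0 C H) <| Cx.StL.cons (hs1 C H) <| Cx.StL.cons (hs2 C H) <| Cx.StL.nil).pool [(1, 0), (1, 2), (4, 2), (2, 3), (3, 1), (2, 3), (3, 2), (3, 0), (3, 1), (2, 3), (0, 3), (3, 0), (2, 3), (1, 3), (0, 3), (1, 3), (3, 1), (0, 3), (3, 2), (1, 3), (3, 1), (1, 3), (2, 3), (3, 1), (1, 3), (0, 3), (2, 3), (3, 2)] [11, 10, 9, 8, 7, 6, 5, 4, 3, 2, 1, 0] (by decide +kernel)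
theorem f3 : C.Fa 1 g3 1 h3 := (f2 C H).tri' (hNL C H) [] (t3 C H) (f1 C H) (hpool0 C H) [6, 6, 2] (by decide +kernel)
theorem f4 : C.Fa 1 g4 1 h4 := (f1 C H).tri (hNL C H) [] (t0 C H) (f1 C H) (hpool0 C H) [1, 0, 3, 11, 9] (by decide +kernel)
theorem f5 : C.Fa 0 g5 2 h5 := Cx.define (r := rE2) rfl (by decide +kernel)
theorem f6 : C.Fa 2 g6 0 h6 := (f5 C H).rev (by decide +kernel)
theorem f8 : C.Fa 2 g8 2 h8 := (f5 C H).tri (hNL C H) [] (t15 C H) (f5 C H) (hpool0 C H) [4, 9, 1] (by decide +kernel)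
theorem f9 : C.Fa 2 g9 1 h9 := (f5 C H).tri (hNL C H) [] (t17 C H) (f1 C H) (hpool0 C H) [6, 1] (by decide +kernel)
theorem f10 : C.Fa 1 g10 2 h10 := (f9 C H).rev (by decide +kernel)
theorem hs61 : C.St 2 s61 := (f5 C H).coin (f5 C H) (hpool0 C H) [8, 2, 8, 2] (by decide +kernel)
theorem hs62 : C.St 2 s62 := (f5 C H).coin (f5 C H) (hpool0 C H) [5, 2, 10, 6, 7] (by decide +kernel)
theorem hs63 : C.St 2 s63 := (f5 C H).coin (f5 C H) (hpool0 C H) [10, 2, 0, 3, 3] (by decide +kernel)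
theorem f7 : C.Fa 0 g7 2 h7 := (f0 C H).tri (hNL C H) [0] (t6 C H) (f5 C H) (hpool0 C H) [9, 0, 1] (by decide +kernel)
theorem hs92 : C.St 2 s92 := (f7 C H).coin (f5 C H) (hpool0 C H) [9, 0, 1] (by decide +kernel)
theorem hpool2 : C.StL 2 pool2 :=
  (Cx.StL.cons (hs61 C H) <| Cx.StL.cons (hs62 C H) <| Cx.StL.cons (hs63 C H) <| Cx.StL.cons (hs92 C H) <| Cx.StL.nil).pool [(3, 0), (2, 4), (4, 0), (2, 6), (3, 1), (3, 1), (3, 2), (3, 0), (1, 3), (2, 3), (3, 0), (2, 3), (3, 2), (1, 3), (0, 3), (1, 3), (0, 3), (1, 3), (2, 3), (1, 3), (3, 0), (3, 1), (2, 3), (3, 0), (3, 0), (3, 1), (2, 3), (2, 3)] [11, 10, 9, 8, 7, 6, 5, 4, 3, 2, 1, 0] (by decide +kernel)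
theorem f11 : C.Fa 1 g11 1 h11 := (f9 C H).tri (hNL C H) [] (t5 C H) (f9 C H) (hpool2 C H) [6, 2, 10] (by decide +kernel)
theorem hs31 : C.St 1 s31 := (f1 C H).coin (f1 C H) (hpool0 C H) [6, 3, 8, 2, 6] (by decide +kernel)
theorem hs32 : C.St 1 s32 := (f1 C H).coin (f1 C H) (hpool0 C H) [6, 1, 5, 1, 9] (by decide +kernel)
theorem hpool1 : C.StL 1 pool1 :=
  (Cx.StL.cons (hs31 C H) <| Cx.StL.cons (hs32 C H) <| Cx.StL.nil).pool [(0, 1), (2, 2), (0, 2), (0, 4), (2, 3), (3, 2), (0, 3), (1, 3), (3, 2), (2, 3), (2, 3), (3, 1), (3, 0), (3, 0), (3, 0), (3, 0), (0, 3), (3, 0), (3, 0), (1, 3), (3, 2), (1, 3), (3, 1), (0, 3), (0, 3), (1, 3), (3, 2), (3, 1)] [11, 10, 9, 8, 7, 6, 5, 4, 3, 2, 1, 0] (by decide +kernel)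
theorem f12 : C.Fa 2 g12 2 h12 := (f9 C H).tri' (hNL C H) [] (t17 C H) (f10 C H) (hpool1 C H) [5, 11] (by decide +kernel)
theorem f13 : C.Fa 2 g13 3 h13 := Cx.define (r := rE3) rfl (by decide +kernel)
theorem f14 : C.Fa 3 g14 2 h14 := (f13 C H).rev (by decide +kernel)
theorem f16 : C.Fa 1 g16 3 h16 := (f10 C H).tri' (hNL C H) [] (t4 C H) (f13 C H) (hpool2 C H) [2, 2, 8] (by decide +kernel)
theorem f17 : C.Fa 3 g17 1 h17 := (f16 C H).rev (by decide +kernel)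
theorem f18 : C.Fa 3 g18 3 h18 := (f13 C H).tri (hNL C H) [] (t10 C H) (f13 C H) (hpool2 C H) [0, 8, 10, 3] (by decide +kernel)
theorem f19 : C.Fa 3 g19 3 h19 := (f14 C H).tri' (hNL C H) [] (t24 C H) (f13 C H) (hpool2 C H) [2, 6, 1, 5] (by decide +kernel)
theorem f20 : C.Fa 3 g20 3 h20 := (f13 C H).tri (hNL C H) [11] (t2 C H) (f13 C H) (hpool2 C H) [0, 5] (by decide +kernel)
theorem f21 : C.Fa 1 g21 4 h21 := Cx.define (r := rE4) rfl (by decide +kernel)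
theorem f22 : C.Fa 4 g22 1 h22 := (f21 C H).rev (by decide +kernel)
theorem f24 : C.Fa 3 g24 4 h24 := (f16 C H).tri (hNL C H) [] (t2 C H) (f21 C H) (hpool1 C H) [1, 3, 4, 5] (by decide +kernel)
theorem f25 : C.Fa 4 g25 3 h25 := (f24 C H).rev (by decide +kernel)
theorem f26 : C.Fa 4 g26 4 h26 := (f21 C H).tri (hNL C H) [] (t0 C H) (f21 C H) (hpool1 C H) [6, 11, 6, 11] (by decide +kernel)
theorem f27 : C.Fa 4 g27 4 h27 := (f21 C H).tri (hNL C H) [] (t1 C H) (f21 C H) (hpool1 C H) [0, 6, 6, 6] (by decide +kernel)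
theorem hs121 : C.St 3 s121 := (f13 C H).coin (f13 C H) (hpool2 C H) [0, 5, 0, 5] (by decide +kernel)
theorem hs122 : C.St 3 s122 := (f13 C H).coin (f13 C H) (hpool2 C H) [8, 4, 8, 6, 11] (by decide +kernel)
theorem hs123 : C.St 3 s123 := (f13 C H).coin (f13 C H) (hpool2 C H) [6, 1, 11, 5, 0] (by decide +kernel)
theorem f15 : C.Fa 2 g15 3 h15 := (f12 C H).tri (hNL C H) [9] (t11 C H) (f13 C H) (hpool2 C H) [3, 10, 1, 1] (by decide +kernel)
theorem hs152 : C.St 3 s152 := (f15 C H).coin (f13 C H) (hpool2 C H) [1, 1] (by decide +kernel)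
theorem hpool3 : C.StL 3 pool3 :=
  (Cx.StL.cons (hs121 C H) <| Cx.StL.cons (hs122 C H) <| Cx.StL.cons (hs123 C H) <| Cx.StL.cons (hs152 C H) <| Cx.StL.nil).pool [(3, 0), (2, 0), (4, 1), (6, 0), (3, 2), (3, 1), (3, 1), (0, 3), (3, 2), (3, 2), (2, 3), (3, 2), (3, 2), (3, 1), (3, 2), (3, 0), (1, 3), (0, 3), (3, 2), (2, 3), (3, 1), (3, 2), (3, 0), (3, 2), (3, 0), (1, 3), (2, 3), (1, 3)] [11, 10, 9, 8, 7, 6, 5, 4, 3, 2, 1, 0] (by decide +kernel)
theorem f28 : C.Fa 4 g28 4 h28 := (f24 C H).tri (hNL C H) [] (t4 C H) (f24 C H) (hpool3 C H) [6, 2, 2, 3] (by decide +kernel)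
theorem hs181 : C.St 4 s181 := (f21 C H).coin (f21 C H) (hpool1 C H) [9, 6, 11, 10] (by decide +kernel)
theorem hs182 : C.St 4 s182 := (f21 C H).coin (f21 C H) (hpool1 C H) [11, 6, 11, 6] (by decide +kernel)
theorem hs183 : C.St 4 s183 := (f21 C H).coin (f21 C H) (hpool1 C H) [5, 10, 9, 10, 7] (by decide +kernel)
theorem hs184 : C.St 4 s184 := (f21 C H).coin (f21 C H) (hpool1 C H) [2, 1, 2, 6, 11] (by decide +kernel)
theorem hs185 : C.St 4 s185 := (f21 C H).coin (f21 C H) (hpool1 C H) [8, 1, 1, 11, 3] (by decide +kernel)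
theorem f23 : C.Fa 1 g23 4 h23 := (f11 C H).tri (hNL C H) [] (t3 C H) (f21 C H) (hpool1 C H) [8, 7, 2, 8] (by decide +kernel)
theorem hs216 : C.St 4 s216 := (f23 C H).coin (f21 C H) (hpool1 C H) [5, 9, 4] (by decide +kernel)
theorem hpool4 : C.StL 4 pool4 :=
  (Cx.StL.cons (hs181 C H) <| Cx.StL.cons (hs182 C H) <| Cx.StL.cons (hs183 C H) <| Cx.StL.cons (hs184 C H) <| Cx.StL.cons (hs185 C H) <| Cx.StL.cons (hs216 C H) <| Cx.StL.nil).pool [(5, 0), (2, 3), (4, 7), (6, 1), (2, 8), (1, 10), (5, 1), (5, 4), (5, 1), (3, 5), (5, 3), (5, 0), (3, 5), (2, 5), (3, 5), (0, 5), (5, 2), (1, 5), (2, 5), (5, 3), (3, 5), (4, 5), (0, 5), (5, 0), (3, 5), (4, 5), (0, 5), (5, 3), (5, 1), (0, 5), (5, 4), (1, 5)] [11, 10, 9, 8, 7, 6, 5, 4, 3, 2, 1, 0] (by decide +kernel)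
theorem hFL : C.FaL FL :=
  .cons (f0 C H) <| .cons (f1 C H) <| .cons (f2 C H) <| .cons (f3 C H) <| .cons (f4 C H) <| .cons (f5 C H) <|
  .cons (f6 C H) <| .cons (f8 C H) <| .cons (f9 C H) <| .cons (f10 C H) <| .cons (f11 C H) <| .cons (f12 C H) <|
  .cons (f13 C H) <| .cons (f14 C H) <| .cons (f16 C H) <| .cons (f17 C H) <| .cons (f18 C H) <| .cons (f19 C H) <|
  .cons (f20 C H) <| .cons (f21 C H) <| .cons (f22 C H) <| .cons (f24 C H) <| .cons (f25 C H) <| .cons (f26 C H) <|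
  .cons (f27 C H) <| .cons (f28 C H) <| .nil

end Cfsg.Lib.Mon.CE
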