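import Cfsg.Agent.Mon.CMd1
import Cfsg.Agent.Mon.CertPar

/-! The Monster programme: steps of the double coset enumeration, level M. -/

set_option autoImplicit false
set_option maxRecDepth 20000
set_option linter.unusedSectionVars false

namespace Cfsg.Lib.Mon.CM

open Cfsg.Lib.Mon.Cert

variable {X : Type*} [Group X] (C : Cx Cert.PM X) (H : Cert.HM C)
include H

theorem np0 : C.Np (n0, m0) := Cx.np (by decide +kernel)
theorem np1 : C.Np (n1, m1) := Cx.np (by decide +kernel)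
theorem np2 : C.Np (n2, m2) := Cx.np (by decide +kernel)
theorem np3 : C.Np (n3, m3) := Cx.np (by decide +kernel)
theorem np4 : C.Np (n4, m4) := Cx.np (by decide +kernel)
theorem np5 : C.Np (n5, m5) := Cx.np (by decide +kernel)
theorem np6 : C.Np (n6, m6) := Cx.np (by decide +kernel)
theorem np7 : C.Np (n7, m7) := Cx.np (by decide +kernel)
theorem np8 : C.Np (n8, m8) := Cx.np (by decide +kernel)
theorem np9 : C.Np (n9, m9) := Cx.np (by decide +kernel)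
theorem np10 : C.Np (n10, m10) := Cx.np (by decide +kernel)
theorem np11 : C.Np (n11, m11) := Cx.np (by decide +kernel)
theorem np12 : C.Np (n12, m12) := Cx.np (by decide +kernel)
theorem np13 : C.Np (n13, m13) := Cx.np (by decide +kernel)
theorem np14 : C.Np (n14, m14) := Cx.np (by decide +kernel)
theorem np15 : C.Np (n15, m15) := Cx.np (by decide +kernel)
theorem np16 : C.Np (n16, m16) := Cx.np (by decide +kernel)
theorem np17 : C.Np (n17, m17) := Cx.np (by decide +kernel)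
theorem np18 : C.Np (n18, m18) := Cx.np (by decide +kernel)
theorem np19 : C.Np (n19, m19) := Cx.np (by decide +kernel)
theorem np20 : C.Np (n20, m20) := Cx.np (by decide +kernel)
theorem np21 : C.Np (n21, m21) := Cx.np (by decide +kernel)
theorem np22 : C.Np (n22, m22) := Cx.np (by decide +kernel)
theorem np23 : C.Np (n23, m23) := Cx.np (by decide +kernel)
theorem np24 : C.Np (n24, m24) := Cx.np (by decide +kernel)
theorem np25 : C.Np (n25, m25) := Cx.np (by decide +kernel)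
theorem np26 : C.Np (n26, m26) := Cx.np (by decide +kernel)
theorem np27 : C.Np (n27, m27) := Cx.np (by decide +kernel)
theorem np28 : C.Np (n28, m28) := Cx.np (by decide +kernel)
theorem np29 : C.Np (n29, m29) := Cx.np (by decide +kernel)
theorem np30 : C.Np (n30, m30) := Cx.np (by decide +kernel)
theorem np31 : C.Np (n31, m31) := Cx.np (by decide +kernel)
theorem hNL : C.NpL NL :=
  .cons (np0 C H) <| .cons (np1 C H) <| .cons (np2 C H) <| .cons (np3 C H) <| .cons (np4 C H) <| .cons (np5 C H) <| .cons (np6 C H) <| .cons (np7 C H) <| .cons (np8 C H) <| .cons (np9 C H) <| .cons (np10 C H) <| .cons (np11 C H) <| .cons (np12 C H) <| .cons (np13 C H) <| .cons (np14 C H) <| .cons (np15 C H) <| .cons (np16 C H) <| .cons (np17 C H) <| .cons (np18 C H) <| .cons (np19 C H) <| .cons (np20 C H) <| .cons (np21 C H) <| .cons (np22 C H) <| .cons (np23 C H) <| .cons (np24 C H) <| .cons (np25 C H) <| .cons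 (np26 C H) <| .cons (np27 C H) <| .cons (np28 C H) <| .cons (np29 C H) <| .cons (np30 C H) <| .cons (np31 C H) <| .nil
theorem t0 : C.Tr a0 b0 c0 := H.t0.same (by decide +kernel)
theorem t1 : C.Tr a1 b1 c1 := H.t1.same (by decide +kernel)
theorem t2 : C.Tr a2 b2 c1 := (t1 C H).mv (np0 C H) (by decide +kernel)
theorem t3 : C.Tr a3 b3 c1 := (t1 C H).mv (np1 C H) (by decide +kernel)
theorem t4 : C.Tr a4 b4 c1 := (t1 C H).mv (np2 C H) (by decide +kernel)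
theorem t5 : C.Tr a5 b5 c1 := (t1 C H).mv (np3 C H) (by decide +kernel)
theorem t6 : C.Tr a6 b6 c1 := (t1 C H).mv (np4 C H) (by decide +kernel)
theorem t7 : C.Tr a7 b7 c1 := (t1 C H).mv (np5 C H) (by decide +kernel)
theorem t8 : C.Tr a8 b8 c1 := (t1 C H).mv (np6 C H) (by decide +kernel)
theorem t9 : C.Tr a9 b9 c1 := (t1 C H).mv (np7 C H) (by decide +kernel)
theorem t10 : C.Tr a10 b10 c1 := (t1 C H).mv (np8 C H) (by decide +kernel)
theorem t11 : C.Tr a11 b11 c1 := (t1 C H).mv (np9 C H) (by decide +kernel)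
theorem t12 : C.Tr a12 b12 c1 := (t1 C H).mv (np10 C H) (by decide +kernel)
theorem t13 : C.Tr a13 b13 c1 := (t1 C H).mv (np11 C H) (by decide +kernel)
theorem t14 : C.Tr a14 b14 c1 := (t1 C H).mv (np12 C H) (by decide +kernel)
theorem t15 : C.Tr a15 b15 c1 := (t1 C H).mv (np13 C H) (by decide +kernel)
theorem t16 : C.Tr a16 b16 c1 := (t1 C H).mv (np14 C H) (by decide +kernel)
theorem t17 : C.Tr a17 b17 c1 := (t1 C H).mv (np15 C H) (by decide +kernel)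
theorem t18 : C.Tr a18 b18 c1 := (t1 C H).mv (np16 C H) (by decide +kernel)
theorem t19 : C.Tr a19 b19 c1 := (t1 C H).mv (np17 C H) (by decide +kernel)
theorem t20 : C.Tr a20 b20 c1 := (t1 C H).mv (np18 C H) (by decide +kernel)
theorem t21 : C.Tr a21 b21 c1 := (t1 C H).mv (np19 C H) (by decide +kernel)
theorem t22 : C.Tr a22 b22 c1 := (t1 C H).mv (np20 C H) (by decide +kernel)
theorem t23 : C.Tr a23 b23 c1 := (t1 C H).mv (np21 C H) (by decide +kernel)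
theorem t24 : C.Tr a24 b24 c1 := (t1 C H).mv (np22 C H) (by decide +kernel)
theorem t25 : C.Tr a25 b25 c1 := (t1 C H).mv (np23 C H) (by decide +kernel)
theorem t26 : C.Tr a26 b26 c1 := (t1 C H).mv (np24 C H) (by decide +kernel)
theorem t27 : C.Tr a27 b27 c1 := (t1 C H).mv (np25 C H) (by decide +kernel)
theorem t28 : C.Tr a28 b28 c1 := (t1 C H).mv (np26 C H) (by decide +kernel)
theorem t29 : C.Tr a29 b29 c1 := (t1 C H).mv (np27 C H) (by decide +kernel)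
theorem t30 : C.Tr a30 b30 c1 := (t1 C H).mv (np28 C H) (by decide +kernel)
theorem t31 : C.Tr a31 b31 c1 := (t1 C H).mv (np29 C H) (by decide +kernel)
theorem t32 : C.Tr a32 b32 c1 := (t1 C H).mv (np30 C H) (by decide +kernel)
theorem t33 : C.Tr a33 b33 c1 := (t1 C H).mv (np31 C H) (by decide +kernel)
theorem f0 : C.Fa 0 g0 0 h0 := Cx.base H.tau (by decide +kernel)
theorem f1 : C.Fa 0 g1 1 h1 := Cx.define (r := rM1) rfl (by decide +kernel)
theorem f2 : C.Fa 1 g2 0 h2 := (f1 C H).rev (by decide +kernel)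
theorem hs0 : C.St 0 s0 := Cx.load (by decide +kernel)
theorem hs1 : C.St 0 s1 := Cx.load (by decide +kernel)
theorem hs2 : C.St 0 s2 := Cx.load (by decide +kernel)
theorem hpool0 : C.StL 0 pool0 :=
  (Cx.StL.cons (hs0 C H) <| Cx.StL.cons (hs1 C H) <| Cx.StL.cons (hs2 C H) <| Cx.StL.nil).pool [(2, 0), (2, 0), (4, 1), (3, 0), (3, 2), (3, 0), (2, 3), (1, 3), (1, 3), (2, 3), (0, 3), (2, 3), (3, 0), (3, 0), (3, 0), (2, 3), (1, 3), (3, 2), (1, 3), (3, 1), (3, 0), (2, 3), (3, 0), (2, 3), (3, 2), (2, 3), (3, 0), (2, 3), (3, 1), (3, 1), (1, 3), (3, 0)] [15, 14, 13, 12, 11, 10, 9, 8, 7, 6, 5, 4, 3, 2, 1, 0] (by decide +kernel)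
theorem f4 : C.Fa 1 g4 1 h4 := (f1 C H).tri (hNL C H) [] (t0 C H) (f1 C H) (hpool0 C H) [6, 6, 6, 6] (by decide +kernel)
theorem f5 : C.Fa 1 g5 1 h5 := (f1 C H).tri (hNL C H) [] (t16 C H) (f1 C H) (hpool0 C H) [12, 2, 3, 11, 7] (by decide +kernel)
theorem f6 : C.Fa 0 g6 2 h6 := Cx.define (r := rM2) rfl (by decide +kernel)
theorem f7 : C.Fa 2 g7 0 h7 := (f6 C H).rev (by decide +kernel)
theorem f8 : C.Fa 2 g8 2 h8 := (f6 C H).tri (hNL C H) [] (t0 C H) (f6 C H) (hpool0 C H) [6, 6, 6, 6] (by decide +kernel)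
theorem f9 : C.Fa 1 g9 2 h9 := (f1 C H).tri (hNL C H) [] (t5 C H) (f6 C H) (hpool0 C H) [0, 0, 1, 10, 13] (by decide +kernel)
theorem f10 : C.Fa 2 g10 1 h10 := (f9 C H).rev (by decide +kernel)
theorem f11 : C.Fa 2 g11 2 h11 := (f6 C H).tri (hNL C H) [] (t8 C H) (f6 C H) (hpool0 C H) [2, 14, 9, 6, 11] (by decide +kernel)
theorem hs35 : C.St 1 s35 := (f1 C H).coin (f1 C H) (hpool0 C H) [10, 3, 14, 3, 9] (by decide +kernel)
theorem hs36 : C.St 1 s36 := (f1 C H).coin (f1 C H) (hpool0 C H) [5, 6, 6, 6, 2] (by decide +kernel)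
theorem hs37 : C.St 1 s37 := (f1 C H).coin (f1 C H) (hpool0 C H) [7, 7, 7, 7, 7, 7] (by decide +kernel)
theorem hs38 : C.St 1 s38 := (f1 C H).coin (f1 C H) (hpool0 C H) [1, 6, 6, 6, 2, 2] (by decide +kernel)
theorem hs39 : C.St 1 s39 := (f1 C H).coin (f1 C H) (hpool0 C H) [13, 12, 0, 1, 15, 12, 14] (by decide +kernel)
theorem hs40 : C.St 1 s40 := (f1 C H).coin (f1 C H) (hpool0 C H) [9, 7, 11, 0, 13, 5, 1] (by decide +kernel)
theorem f3 : C.Fa 0 g3 1 h3 := (f0 C H).tri (hNL C H) [17] (t19 C H) (f1 C H) (hpool0 C H) [11, 5, 3, 6, 13] (by decide +kernel)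
theorem hs77 : C.St 1 s77 := (f3 C H).coin (f1 C H) (hpool0 C H) [11, 5, 3, 6, 13] (by decide +kernel)
theorem hpool1 : C.StL 1 pool1 :=
  (Cx.StL.cons (hs35 C H) <| Cx.StL.cons (hs36 C H) <| Cx.StL.cons (hs37 C H) <| Cx.StL.cons (hs38 C H) <| Cx.StL.cons (hs39 C H) <| Cx.StL.cons (hs40 C H) <| Cx.StL.cons (hs77 C H) <| Cx.StL.nil).pool [(0, 1), (2, 0), (4, 7), (6, 7), (8, 0), (4, 10), (12, 1), (6, 3), (3, 6), (6, 4), (6, 0), (6, 1), (1, 6), (1, 6), (5, 6), (3, 6), (6, 0), (1, 6), (6, 5), (4, 6), (6, 1), (6, 0), (6, 1), (6, 4), (2, 6), (4, 6), (3, 6), (2, 6), (6, 0), (3, 6), (5, 6), (6, 2), (6, 0), (2, 6), (6, 5), (0, 6), (6, 0), (4, 6)] [15, 14, 13, 12, 11, 10, 9, 8, 7, 6, 5, 4, 3, 2, 1, 0] (by decide +kernel)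
theorem f12 : C.Fa 2 g12 2 h12 := (f9 C H).tri (hNL C H) [] (t4 C H) (f9 C H) (hpool1 C H) [9, 9, 13, 5] (by decide +kernel)
theorem f13 : C.Fa 1 g13 3 h13 := Cx.define (r := rM3) rfl (by decide +kernel)
theorem f14 : C.Fa 3 g14 1 h14 := (f13 C H).rev (by decide +kernel)
theorem f16 : C.Fa 2 g16 3 h16 := (f9 C H).tri (hNL C H) [13] (t26 C H) (f13 C H) (hpool1 C H) [2, 9, 4] (by decide +kernel)
theorem f17 : C.Fa 3 g17 2 h17 := (f16 C H).rev (by decide +kernel)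
theorem f18 : C.Fa 2 g18 3 h18 := (f9 C H).tri (hNL C H) [] (t30 C H) (f13 C H) (hpool1 C H) [4, 11, 13, 12, 7] (by decide +kernel)
theorem f19 : C.Fa 3 g19 2 h19 := (f18 C H).rev (by decide +kernel)
theorem f20 : C.Fa 3 g20 3 h20 := (f13 C H).tri (hNL C H) [] (t0 C H) (f13 C H) (hpool1 C H) [4, 9, 10, 7, 6] (by decide +kernel)
theorem f21 : C.Fa 3 g21 3 h21 := (f13 C H).tri (hNL C H) [] (t17 C H) (f13 C H) (hpool1 C H) [6, 0, 4, 0, 9] (by decide +kernel)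
theorem f22 : C.Fa 3 g22 3 h22 := (f13 C H).tri (hNL C H) [] (t23 C H) (f13 C H) (hpool1 C H) [12, 7, 15, 6, 10] (by decide +kernel)
theorem f23 : C.Fa 3 g23 3 h23 := (f13 C H).tri (hNL C H) [] (t18 C H) (f13 C H) (hpool1 C H) [6, 15, 13, 2, 10] (by decide +kernel)
theorem hs151 : C.St 3 s151 := (f13 C H).coin (f13 C H) (hpool1 C H) [6, 6, 6, 6, 6, 6] (by decide +kernel)
theorem hs152 : C.St 3 s152 := (f13 C H).coin (f13 C H) (hpool1 C H) [1, 12, 8, 11, 10, 5, 0] (by decide +kernel)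
theorem hs153 : C.St 3 s153 := (f13 C H).coin (f13 C H) (hpool1 C H) [15, 8, 3, 14, 6, 6, 1] (by decide +kernel)
theorem hs154 : C.St 3 s154 := (f13 C H).coin (f13 C H) (hpool1 C H) [10, 5, 5, 7, 1, 11, 5] (by decide +kernel)
theorem hs155 : C.St 3 s155 := (f13 C H).coin (f13 C H) (hpool1 C H) [12, 3, 8, 12, 4, 14, 13] (by decide +kernel)
theorem f15 : C.Fa 1 g15 3 h15 := (f5 C H).tri (hNL C H) [] (t28 C H) (f13 C H) (hpool1 C H) [15, 1, 14, 14] (by decide +kernel)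
theorem hs190 : C.St 3 s190 := (f15 C H).coin (f13 C H) (hpool1 C H) [2, 8, 6, 9, 10] (by decide +kernel)
theorem hpool3 : C.StL 3 pool3 :=
  (Cx.StL.cons (hs151 C H) <| Cx.StL.cons (hs152 C H) <| Cx.StL.cons (hs153 C H) <| Cx.StL.cons (hs154 C H) <| Cx.StL.cons (hs155 C H) <| Cx.StL.cons (hs190 C H) <| Cx.StL.nil).pool [(0, 4), (4, 2), (4, 6), (8, 6), (8, 1), (10, 4), (5, 2), (4, 5), (3, 5), (5, 3), (4, 5), (1, 5), (5, 0), (5, 3), (5, 2), (3, 5), (5, 2), (5, 0), (4, 5), (3, 5), (5, 2), (3, 5), (3, 5), (5, 4), (1, 5), (3, 5), (5, 2), (1, 5), (5, 4), (4, 5), (5, 1), (5, 4), (5, 1), (5, 2), (5, 4), (1, 5)] [15, 14, 13, 12, 11, 10, 9, 8, 7, 6, 5, 4, 3, 2, 1, 0] (by decide +kernel)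
theorem f24 : C.Fa 3 g24 3 h24 := (f22 C H).tri' (hNL C H) [] (t30 C H) (f22 C H) (hpool3 C H) [13, 4, 5] (by decide +kernel)
theorem hs116 : C.St 2 s116 := (f6 C H).coin (f6 C H) (hpool0 C H) [5, 6, 6, 6, 2] (by decide +kernel)
theorem hs117 : C.St 2 s117 := (f6 C H).coin (f6 C H) (hpool0 C H) [6, 2, 11, 0, 11, 2] (by decide +kernel)
theorem hs118 : C.St 2 s118 := (f6 C H).coin (f6 C H) (hpool0 C H) [7, 7, 3, 15, 12, 2] (by decide +kernel)
theorem hpool2 : C.StL 2 pool2 :=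
  (Cx.StL.cons (hs116 C H) <| Cx.StL.cons (hs117 C H) <| Cx.StL.cons (hs118 C H) <| Cx.StL.nil).pool [(0, 1), (1, 2), (1, 4), (3, 1), (3, 1), (2, 3), (2, 3), (2, 3), (3, 1), (3, 2), (2, 3), (0, 3), (0, 3), (1, 3), (2, 3), (3, 1), (3, 2), (3, 0), (1, 3), (2, 3), (0, 3), (2, 3), (2, 3), (0, 3), (3, 2), (3, 0), (2, 3), (3, 2), (0, 3), (3, 2), (3, 0), (3, 2)] [15, 14, 13, 12, 11, 10, 9, 8, 7, 6, 5, 4, 3, 2, 1, 0] (by decide +kernel)
theorem f25 : C.Fa 3 g25 3 h25 := (f19 C H).tri' (hNL C H) [] (t9 C H) (f18 C H) (hpool2 C H) [9, 5, 5] (by decide +kernel)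
theorem f26 : C.Fa 1 g26 4 h26 := Cx.define (r := rM4) rfl (by decide +kernel)
theorem f27 : C.Fa 4 g27 1 h27 := (f26 C H).rev (by decide +kernel)
theorem f29 : C.Fa 2 g29 4 h29 := (f9 C H).tri (hNL C H) [] (t12 C H) (f26 C H) (hpool1 C H) [11, 12, 5, 15, 13] (by decide +kernel)
theorem f30 : C.Fa 4 g30 2 h30 := (f29 C H).rev (by decide +kernel)
theorem f31 : C.Fa 3 g31 4 h31 := (f13 C H).tri (hNL C H) [] (t12 C H) (f26 C H) (hpool1 C H) [4, 7, 14, 10, 15] (by decide +kernel)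
theorem f32 : C.Fa 4 g32 3 h32 := (f31 C H).rev (by decide +kernel)
theorem f33 : C.Fa 3 g33 4 h33 := (f13 C H).tri (hNL C H) [] (t10 C H) (f26 C H) (hpool1 C H) [6, 11, 6, 9, 6] (by decide +kernel)
theorem f34 : C.Fa 4 g34 3 h34 := (f33 C H).rev (by decide +kernel)
theorem f35 : C.Fa 4 g35 4 h35 := (f26 C H).tri (hNL C H) [] (t0 C H) (f26 C H) (hpool1 C H) [6, 13, 6, 15, 1] (by decide +kernel)
theorem f36 : C.Fa 4 g36 4 h36 := (f26 C H).tri (hNL C H) [] (t5 C H) (f26 C H) (hpool1 C H) [2, 7, 3, 7, 6] (by decide +kernel)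
theorem f37 : C.Fa 4 g37 4 h37 := (f30 C H).tri' (hNL C H) [] (t4 C H) (f29 C H) (hpool2 C H) [8, 11, 6, 2] (by decide +kernel)
theorem f38 : C.Fa 4 g38 4 h38 := (f29 C H).tri (hNL C H) [] (t0 C H) (f29 C H) (hpool2 C H) [8, 10, 7, 5, 9] (by decide +kernel)
theorem f39 : C.Fa 4 g39 4 h39 := (f33 C H).tri (hNL C H) [26] (t17 C H) (f33 C H) (hpool3 C H) [0, 1, 9, 12] (by decide +kernel)
theorem f40 : C.Fa 2 g40 5 h40 := Cx.define (r := rM5) rfl (by decide +kernel)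
theorem f41 : C.Fa 5 g41 2 h41 := (f40 C H).rev (by decide +kernel)
theorem f43 : C.Fa 5 g43 3 h43 := (f40 C H).tri (hNL C H) [] (t21 C H) (f16 C H) (hpool2 C H) [1, 11, 5, 1] (by decide +kernel)
theorem f44 : C.Fa 3 g44 5 h44 := (f43 C H).rev (by decide +kernel)
theorem f45 : C.Fa 5 g45 5 h45 := (f40 C H).tri (hNL C H) [8] (t6 C H) (f40 C H) (hpool2 C H) [11, 10] (by decide +kernel)
theorem f46 : C.Fa 5 g46 5 h46 := (f43 C H).tri' (hNL C H) [] (t18 C H) (f44 C H) (hpool3 C H) [3, 7, 11, 8] (by decide +kernel)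
theorem f47 : C.Fa 3 g47 5 h47 := (f17 C H).tri' (hNL C H) [] (t2 C H) (f40 C H) (hpool2 C H) [1, 12, 11, 7, 4] (by decide +kernel)
theorem f48 : C.Fa 5 g48 3 h48 := (f47 C H).rev (by decide +kernel)
theorem hs303 : C.St 5 s303 := (f40 C H).coin (f40 C H) (hpool2 C H) [1, 6, 0, 11, 7] (by decide +kernel)
theorem hs304 : C.St 5 s304 := (f40 C H).coin (f40 C H) (hpool2 C H) [10, 10, 15, 4, 4] (by decide +kernel)
theorem f42 : C.Fa 2 g42 5 h42 := (f12 C H).tri (hNL C H) [] (t14 C H) (f40 C H) (hpool2 C H) [7, 3, 10, 10, 12] (by decide +kernel)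
theorem hs337 : C.St 5 s337 := (f42 C H).coin (f40 C H) (hpool2 C H) [0, 12, 2, 10] (by decide +kernel)
theorem hpool5 : C.StL 5 pool5 :=
  (Cx.StL.cons (hs303 C H) <| Cx.StL.cons (hs304 C H) <| Cx.StL.cons (hs337 C H) <| Cx.StL.nil).pool [(1, 0), (2, 0), (4, 1), (3, 1), (0, 3), (3, 1), (3, 1), (0, 3), (2, 3), (1, 3), (0, 3), (2, 3), (1, 3), (3, 0), (3, 1), (3, 0), (2, 3), (2, 3), (2, 3), (3, 2), (0, 3), (3, 0), (1, 3), (3, 2), (3, 1), (3, 2), (0, 3), (3, 2), (2, 3), (2, 3), (3, 1), (3, 2)] [15, 14, 13, 12, 11, 10, 9, 8, 7, 6, 5, 4, 3, 2, 1, 0] (by decide +kernel)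
theorem f49 : C.Fa 5 g49 5 h49 := (f45 C H).tri (hNL C H) [20] (t25 C H) (f45 C H) (hpool5 C H) [9, 2, 15] (by decide +kernel)
theorem f50 : C.Fa 2 g50 6 h50 := Cx.define (r := rM6) rfl (by decide +kernel)
theorem f51 : C.Fa 6 g51 2 h51 := (f50 C H).rev (by decide +kernel)
theorem f52 : C.Fa 6 g52 4 h52 := (f51 C H).tri' (hNL C H) [] (t30 C H) (f29 C H) (hpool2 C H) [4, 8, 14, 6] (by decide +kernel)
theorem f53 : C.Fa 4 g53 6 h53 := (f52 C H).rev (by decide +kernel)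
theorem hs227 : C.St 4 s227 := (f26 C H).coin (f26 C H) (hpool1 C H) [6, 6, 6, 6, 6, 6] (by decide +kernel)
theorem hs228 : C.St 4 s228 := (f26 C H).coin (f26 C H) (hpool1 C H) [4, 4, 4, 4, 4, 4] (by decide +kernel)
theorem hs229 : C.St 4 s229 := (f26 C H).coin (f26 C H) (hpool1 C H) [12, 10, 2, 9, 0, 9, 7] (by decide +kernel)
theorem hs230 : C.St 4 s230 := (f26 C H).coin (f26 C H) (hpool1 C H) [13, 4, 3, 13, 2, 14, 1] (by decide +kernel)
theorem hs231 : C.St 4 s231 := (f26 C H).coin (f26 C H) (hpool1 C H) [15, 11, 10, 14, 5, 12, 11] (by decide +kernel)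
theorem f28 : C.Fa 1 g28 4 h28 := (f5 C H).tri (hNL C H) [31] (t4 C H) (f26 C H) (hpool1 C H) [13, 0, 11] (by decide +kernel)
theorem hs266 : C.St 4 s266 := (f28 C H).coin (f26 C H) (hpool1 C H) [13, 8, 8, 2, 12] (by decide +kernel)
theorem hpool4 : C.StL 4 pool4 :=
  (Cx.StL.cons (hs227 C H) <| Cx.StL.cons (hs228 C H) <| Cx.StL.cons (hs229 C H) <| Cx.StL.cons (hs230 C H) <| Cx.StL.cons (hs231 C H) <| Cx.StL.cons (hs266 C H) <| Cx.StL.nil).pool [(0, 1), (3, 2), (0, 4), (2, 6), (8, 9), (1, 10), (3, 5), (5, 2), (5, 1), (4, 5), (2, 5), (5, 1), (3, 5), (5, 1), (5, 1), (0, 5), (5, 1), (2, 5), (3, 5), (4, 5), (2, 5), (5, 0), (3, 5), (3, 5), (5, 4), (5, 0), (0, 5), (0, 5), (2, 5), (4, 5), (0, 5), (0, 5), (0, 5), (5, 3), (4, 5), (3, 5)] [15, 14, 13, 12, 11, 10, 9, 8, 7, 6, 5, 4, 3, 2, 1, 0] (by decide +kernel)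
theorem f54 : C.Fa 6 g54 3 h54 := (f52 C H).tri' (hNL C H) [] (t9 C H) (f32 C H) (hpool4 C H) [3, 4, 2, 10] (by decide +kernel)
theorem f55 : C.Fa 3 g55 6 h55 := (f54 C H).rev (by decide +kernel)
theorem f56 : C.Fa 6 g56 5 h56 := (f54 C H).tri' (hNL C H) [21] (t2 C H) (f44 C H) (hpool3 C H) [7, 1] (by decide +kernel)
theorem f57 : C.Fa 5 g57 6 h57 := (f56 C H).rev (by decide +kernel)
theorem f58 : C.Fa 5 g58 6 h58 := (f40 C H).tri (hNL C H) [] (t12 C H) (f50 C H) (hpool2 C H) [5, 1, 5, 10, 12] (by decide +kernel)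
theorem f59 : C.Fa 6 g59 5 h59 := (f58 C H).rev (by decide +kernel)
theorem f60 : C.Fa 6 g60 6 h60 := (f54 C H).tri' (hNL C H) [] (t15 C H) (f55 C H) (hpool3 C H) [0, 1, 1, 3, 0] (by decide +kernel)
theorem f61 : C.Fa 6 g61 6 h61 := (f54 C H).tri' (hNL C H) [8] (t12 C H) (f55 C H) (hpool3 C H) [8, 3, 8] (by decide +kernel)
theorem f62 : C.Fa 6 g62 6 h62 := (f55 C H).tri (hNL C H) [] (t14 C H) (f55 C H) (hpool3 C H) [1, 14, 10, 0, 2] (by decide +kernel)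
theorem f63 : C.Fa 6 g63 6 h63 := (f62 C H).rev (by decide +kernel)
theorem f64 : C.Fa 6 g64 6 h64 := (f50 C H).tri (hNL C H) [] (t13 C H) (f50 C H) (hpool2 C H) [8, 10, 11, 2, 13] (by decide +kernel)
theorem f65 : C.Fa 6 g65 6 h65 := (f52 C H).tri' (hNL C H) [] (t0 C H) (f53 C H) (hpool4 C H) [7, 2, 5, 12, 2] (by decide +kernel)
theorem hs370 : C.St 6 s370 := (f50 C H).coin (f50 C H) (hpool2 C H) [4, 10, 1, 14, 10, 15] (by decide +kernel)
theorem hs371 : C.St 6 s371 := (f50 C H).coin (f50 C H) (hpool2 C H) [9, 3, 3, 12, 10, 11] (by decide +kernel)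
theorem hpool6 : C.StL 6 pool6 :=
  (Cx.StL.cons (hs370 C H) <| Cx.StL.cons (hs371 C H) <| Cx.StL.nil).pool [(1, 0), (2, 0), (0, 2), (0, 4), (3, 0), (3, 1), (3, 0), (1, 3), (3, 2), (3, 1), (2, 3), (1, 3), (3, 2), (2, 3), (3, 0), (3, 1), (2, 3), (0, 3), (0, 3), (3, 2), (3, 1), (0, 3), (0, 3), (3, 1), (3, 1), (3, 2), (2, 3), (1, 3), (3, 0), (0, 3), (3, 1), (0, 3)] [15, 14, 13, 12, 11, 10, 9, 8, 7, 6, 5, 4, 3, 2, 1, 0] (by decide +kernel)
theorem f66 : C.Fa 6 g66 6 h66 := (f64 C H).tri' (hNL C H) [] (t9 C H) (f64 C H) (hpool6 C H) [0, 8, 8] (by decide +kernel)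
theorem f67 : C.Fa 6 g67 6 h67 := (f58 C H).tri (hNL C H) [] (t32 C H) (f58 C H) (hpool5 C H) [0, 12, 9, 0] (by decide +kernel)
theorem f68 : C.Fa 6 g68 6 h68 := (f60 C H).tri' (hNL C H) [30] (t21 C H) (f62 C H) (hpool6 C H) [5, 8, 10] (by decide +kernel)
theorem f69 : C.Fa 6 g69 6 h69 := (f68 C H).rev (by decide +kernel)
theorem f70 : C.Fa 6 g70 6 h70 := (f60 C H).tri (hNL C H) [] (t2 C H) (f60 C H) (hpool6 C H) [7, 8, 2, 12, 0] (by decide +kernel)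
theorem f71 : C.Fa 6 g71 6 h71 := (f60 C H).tri (hNL C H) [] (t19 C H) (f70 C H) (hpool6 C H) [14, 15, 13, 9] (by decide +kernel)
theorem f72 : C.Fa 6 g72 6 h72 := (f71 C H).tri' (hNL C H) [] (t27 C H) (f63 C H) (hpool6 C H) [11, 10, 1, 1] (by decide +kernel)
theorem f73 : C.Fa 6 g73 6 h73 := (f71 C H).tri (hNL C H) [25] (t28 C H) (f71 C H) (hpool6 C H) [9, 6, 7] (by decide +kernel)
theorem f74 : C.Fa 6 g74 6 h74 := (f64 C H).tri (hNL C H) [4, 10] (t3 C H) (f64 C H) (hpool6 C H) [6, 6] (by decide +kernel)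
theorem f75 : C.Fa 6 g75 6 h75 := (f68 C H).tri (hNL C H) [11] (t2 C H) (f71 C H) (hpool6 C H) [15, 10, 14, 7] (by decide +kernel)
theorem f76 : C.Fa 2 g76 7 h76 := Cx.define (r := rM7) rfl (by decide +kernel)
theorem f77 : C.Fa 7 g77 2 h77 := (f76 C H).rev (by decide +kernel)
theorem f79 : C.Fa 4 g79 7 h79 := (f30 C H).tri' (hNL C H) [] (t29 C H) (f76 C H) (hpool2 C H) [15, 14, 14, 14] (by decide +kernel)
theorem f80 : C.Fa 7 g80 4 h80 := (f79 C H).rev (by decide +kernel)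
theorem f81 : C.Fa 6 g81 7 h81 := (f51 C H).tri' (hNL C H) [] (t19 C H) (f76 C H) (hpool2 C H) [0, 10, 5, 9] (by decide +kernel)
theorem f82 : C.Fa 7 g82 6 h82 := (f81 C H).rev (by decide +kernel)
theorem f83 : C.Fa 7 g83 7 h83 := (f79 C H).tri (hNL C H) [] (t16 C H) (f79 C H) (hpool4 C H) [14, 3, 15] (by decide +kernel)
theorem f84 : C.Fa 7 g84 7 h84 := (f81 C H).tri (hNL C H) [] (t9 C H) (f81 C H) (hpool6 C H) [5, 14] (by decide +kernel)

end Cfsg.Lib.Mon.CM
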