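import Cfsg.Agent.Mon.CMd2
import Cfsg.Agent.Mon.CMp1

/-! The Monster programme: steps of the double coset enumeration, level M. -/

set_option autoImplicit false
set_option maxRecDepth 20000
set_option linter.unusedSectionVars false

namespace Cfsg.Lib.Mon.CM

open Cfsg.Lib.Mon.Cert

variable {X : Type*} [Group X] (C : Cx Cert.PM X) (H : Cert.HM C)
include H

theorem f85 : C.Fa 7 g85 7 h85 := (f84 C H).rev (by decide +kernel)
theorem f86 : C.Fa 3 g86 7 h86 := (f34 C H).tri (hNL C H) [] (t8 C H) (f79 C H) (hpool4 C H) [1, 5, 12, 2] (by decide +kernel)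
theorem f87 : C.Fa 7 g87 3 h87 := (f86 C H).rev (by decide +kernel)
theorem f88 : C.Fa 5 g88 7 h88 := (f58 C H).tri' (hNL C H) [1] (t9 C H) (f81 C H) (hpool6 C H) [5, 15] (by decide +kernel)
theorem f89 : C.Fa 7 g89 5 h89 := (f88 C H).rev (by decide +kernel)
theorem hs404 : C.St 7 s404 := (f76 C H).coin (f76 C H) (hpool2 C H) [10, 12, 4, 2, 5, 4] (by decide +kernel)
theorem hs405 : C.St 7 s405 := (f76 C H).coin (f76 C H) (hpool2 C H) [9, 5, 15, 15, 4, 12] (by decide +kernel)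
theorem hs406 : C.St 7 s406 := (f76 C H).coin (f76 C H) (hpool2 C H) [0, 3, 15, 8, 8, 1] (by decide +kernel)
theorem hs407 : C.St 7 s407 := (f76 C H).coin (f76 C H) (hpool2 C H) [11, 7, 11, 13, 12, 14, 0] (by decide +kernel)
theorem f78 : C.Fa 2 g78 7 h78 := (f12 C H).tri (hNL C H) [31] (t14 C H) (f76 C H) (hpool2 C H) [9, 2, 3, 10, 14] (by decide +kernel)
theorem hs440 : C.St 7 s440 := (f78 C H).coin (f76 C H) (hpool2 C H) [4, 12, 1, 15, 7] (by decide +kernel)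
theorem hpool7 : C.StL 7 pool7 :=
  (Cx.StL.cons (hs404 C H) <| Cx.StL.cons (hs405 C H) <| Cx.StL.cons (hs406 C H) <| Cx.StL.cons (hs407 C H) <| Cx.StL.cons (hs440 C H) <| Cx.StL.nil).pool [(0, 4), (2, 4), (6, 4), (0, 6), (2, 8), (2, 4), (4, 0), (0, 4), (4, 2), (3, 4), (2, 4), (4, 2), (0, 4), (1, 4), (2, 4), (4, 3), (4, 3), (4, 2), (2, 4), (2, 4), (2, 4), (1, 4), (0, 4), (4, 3), (4, 1), (4, 2), (4, 0), (1, 4), (4, 1), (4, 0), (3, 4), (4, 0), (4, 3), (4, 3)] [15, 14, 13, 12, 11, 10, 9, 8, 7, 6, 5, 4, 3, 2, 1, 0] (by decide +kernel)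
theorem f90 : C.Fa 6 g90 7 h90 := (f81 C H).tri' (hNL C H) [28] (t26 C H) (f83 C H) (hpool7 C H) [3, 14] (by decide +kernel)
theorem f91 : C.Fa 7 g91 6 h91 := (f90 C H).rev (by decide +kernel)
theorem f92 : C.Fa 6 g92 7 h92 := (f64 C H).tri (hNL C H) [15] (t5 C H) (f81 C H) (hpool6 C H) [5, 8] (by decide +kernel)
theorem f93 : C.Fa 7 g93 6 h93 := (f92 C H).rev (by decide +kernel)
theorem f94 : C.Fa 7 g94 7 h94 := (f84 C H).tri (hNL C H) [] (t23 C H) (f84 C H) (hpool7 C H) [7, 5, 10, 3] (by decide +kernel)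
theorem f95 : C.Fa 7 g95 7 h95 := (f79 C H).tri (hNL C H) [] (t17 C H) (f79 C H) (hpool4 C H) [5, 3, 7, 10] (by decide +kernel)
theorem f96 : C.Fa 7 g96 7 h96 := (f82 C H).tri' (hNL C H) [3] (t29 C H) (f81 C H) (hpool6 C H) [0, 6] (by decide +kernel)
theorem f97 : C.Fa 7 g97 7 h97 := (f79 C H).tri (hNL C H) [] (t0 C H) (f79 C H) (hpool4 C H) [9, 6, 15, 1] (by decide +kernel)
theorem f98 : C.Fa 3 g98 7 h98 := (f22 C H).tri' (hNL C H) [] (t22 C H) (f86 C H) (hpool3 C H) [10, 10, 10] (by decide +kernel)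
theorem f99 : C.Fa 7 g99 3 h99 := (f98 C H).rev (by decide +kernel)
theorem f100 : C.Fa 6 g100 7 h100 := (f62 C H).tri' (hNL C H) [] (t25 C H) (f90 C H) (hpool6 C H) [2, 4, 5] (by decide +kernel)
theorem f101 : C.Fa 7 g101 6 h101 := (f100 C H).rev (by decide +kernel)
theorem f102 : C.Fa 7 g102 6 h102 := (f93 C H).tri' (hNL C H) [] (t14 C H) (f62 C H) (hpool6 C H) [9, 11, 15] (by decide +kernel)
theorem f103 : C.Fa 6 g103 7 h103 := (f102 C H).rev (by decide +kernel)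
theorem f104 : C.Fa 6 g104 7 h104 := (f61 C H).tri' (hNL C H) [28] (t26 C H) (f90 C H) (hpool6 C H) [8, 14] (by decide +kernel)
theorem f105 : C.Fa 7 g105 6 h105 := (f104 C H).rev (by decide +kernel)
theorem f106 : C.Fa 7 g106 3 h106 := (f92 C H).tri (hNL C H) [16] (t26 C H) (f54 C H) (hpool6 C H) [15, 1] (by decide +kernel)
theorem f107 : C.Fa 3 g107 7 h107 := (f106 C H).rev (by decide +kernel)
theorem f108 : C.Fa 7 g108 5 h108 := (f92 C H).tri (hNL C H) [25] (t9 C H) (f59 C H) (hpool6 C H) [4, 15] (by decide +kernel)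
theorem f109 : C.Fa 5 g109 7 h109 := (f108 C H).rev (by decide +kernel)
theorem f110 : C.Fa 7 g110 7 h110 := (f107 C H).tri (hNL C H) [4] (t28 C H) (f107 C H) (hpool3 C H) [8, 15, 12] (by decide +kernel)
theorem f111 : C.Fa 7 g111 7 h111 := (f95 C H).tri' (hNL C H) [28] (t18 C H) (f95 C H) (hpool7 C H) [11, 9, 0] (by decide +kernel)
theorem f112 : C.Fa 3 g112 8 h112 := Cx.define (r := rM8) rfl (by decide +kernel)
theorem f113 : C.Fa 8 g113 3 h113 := (f112 C H).rev (by decide +kernel)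
theorem f115 : C.Fa 8 g115 5 h115 := (f112 C H).tri (hNL C H) [] (t1 C H) (f47 C H) (hpool3 C H) [6, 14, 11] (by decide +kernel)
theorem f116 : C.Fa 5 g116 8 h116 := (f115 C H).rev (by decide +kernel)
theorem f117 : C.Fa 7 g117 8 h117 := (f98 C H).tri (hNL C H) [5] (t7 C H) (f112 C H) (hpool3 C H) [12, 0] (by decide +kernel)
theorem f118 : C.Fa 8 g118 7 h118 := (f117 C H).rev (by decide +kernel)
theorem f119 : C.Fa 7 g119 8 h119 := (f108 C H).tri' (hNL C H) [] (t2 C H) (f116 C H) (hpool5 C H) [7, 7, 0, 13] (by decide +kernel)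
theorem f120 : C.Fa 8 g120 7 h120 := (f119 C H).rev (by decide +kernel)
theorem f121 : C.Fa 8 g121 8 h121 := (f115 C H).tri' (hNL C H) [] (t18 C H) (f116 C H) (hpool5 C H) [0, 11, 0, 15] (by decide +kernel)
theorem f122 : C.Fa 8 g122 6 h122 := (f115 C H).tri' (hNL C H) [] (t31 C H) (f58 C H) (hpool5 C H) [9, 11, 1, 3] (by decide +kernel)
theorem f123 : C.Fa 6 g123 8 h123 := (f122 C H).rev (by decide +kernel)
theorem f124 : C.Fa 8 g124 8 h124 := (f115 C H).tri' (hNL C H) [] (t14 C H) (f116 C H) (hpool5 C H) [1, 3, 12, 0] (by decide +kernel)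
theorem f125 : C.Fa 8 g125 8 h125 := (f112 C H).tri (hNL C H) [] (t2 C H) (f112 C H) (hpool3 C H) [10, 8, 3, 4] (by decide +kernel)
theorem f126 : C.Fa 4 g126 8 h126 := (f52 C H).tri (hNL C H) [] (t14 C H) (f123 C H) (hpool6 C H) [10, 6, 11] (by decide +kernel)
theorem f127 : C.Fa 8 g127 4 h127 := (f126 C H).rev (by decide +kernel)
theorem f128 : C.Fa 6 g128 8 h128 := (f65 C H).tri (hNL C H) [] (t14 C H) (f123 C H) (hpool6 C H) [10, 6, 11] (by decide +kernel)
theorem f129 : C.Fa 8 g129 6 h129 := (f128 C H).rev (by decide +kernel)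
theorem f130 : C.Fa 7 g130 8 h130 := (f81 C H).tri (hNL C H) [22] (t16 C H) (f123 C H) (hpool6 C H) [12] (by decide +kernel)
theorem f131 : C.Fa 8 g131 7 h131 := (f130 C H).rev (by decide +kernel)
theorem f132 : C.Fa 8 g132 8 h132 := (f120 C H).tri' (hNL C H) [] (t4 C H) (f119 C H) (hpool7 C H) [15, 0, 7] (by decide +kernel)
theorem f133 : C.Fa 8 g133 6 h133 := (f130 C H).tri (hNL C H) [] (t10 C H) (f101 C H) (hpool7 C H) [11, 4, 1] (by decide +kernel)
theorem f134 : C.Fa 6 g134 8 h134 := (f133 C H).rev (by decide +kernel)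
theorem f135 : C.Fa 8 g135 6 h135 := (f133 C H).tri' (hNL C H) [] (t21 C H) (f61 C H) (hpool6 C H) [1, 8, 2] (by decide +kernel)
theorem f136 : C.Fa 6 g136 8 h136 := (f135 C H).rev (by decide +kernel)
theorem f137 : C.Fa 8 g137 8 h137 := (f134 C H).tri (hNL C H) [] (t21 C H) (f136 C H) (hpool6 C H) [7, 5, 9] (by decide +kernel)
theorem f138 : C.Fa 6 g138 8 h138 := (f60 C H).tri' (hNL C H) [24] (t2 C H) (f128 C H) (hpool6 C H) [7, 4] (by decide +kernel)
theorem f139 : C.Fa 8 g139 6 h139 := (f138 C H).rev (by decide +kernel)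
theorem f140 : C.Fa 7 g140 8 h140 := (f85 C H).tri (hNL C H) [] (t2 C H) (f130 C H) (hpool7 C H) [5, 11, 15, 4] (by decide +kernel)
theorem f141 : C.Fa 8 g141 7 h141 := (f140 C H).rev (by decide +kernel)
theorem hs475 : C.St 8 s475 := (f112 C H).coin (f112 C H) (hpool3 C H) [1, 6, 11, 11, 6, 3] (by decide +kernel)
theorem hs476 : C.St 8 s476 := (f112 C H).coin (f112 C H) (hpool3 C H) [14, 10, 6, 2, 13, 10] (by decide +kernel)
theorem f114 : C.Fa 3 g114 8 h114 := (f22 C H).tri (hNL C H) [26] (t23 C H) (f112 C H) (hpool3 C H) [8, 12, 12, 4, 14] (by decide +kernel)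
theorem hs509 : C.St 8 s509 := (f114 C H).coin (f112 C H) (hpool3 C H) [15, 3, 3] (by decide +kernel)
theorem hpool8 : C.StL 8 pool8 :=
  (Cx.StL.cons (hs475 C H) <| Cx.StL.cons (hs476 C H) <| Cx.StL.cons (hs509 C H) <| Cx.StL.nil).pool [(0, 0), (2, 1), (4, 2), (3, 1), (1, 3), (3, 0), (0, 3), (1, 3), (1, 3), (0, 3), (3, 0), (3, 2), (2, 3), (0, 3), (2, 3), (2, 3), (2, 3), (3, 2), (3, 1), (2, 3), (2, 3), (3, 1), (1, 3), (1, 3), (1, 3), (2, 3), (3, 0), (0, 3), (2, 3), (2, 3), (1, 3), (2, 3)] [15, 14, 13, 12, 11, 10, 9, 8, 7, 6, 5, 4, 3, 2, 1, 0] (by decide +kernel)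
theorem f142 : C.Fa 8 g142 6 h142 := (f125 C H).tri' (hNL C H) [] (t3 C H) (f133 C H) (hpool8 C H) [6, 13, 0, 12] (by decide +kernel)
theorem f143 : C.Fa 6 g143 8 h143 := (f142 C H).rev (by decide +kernel)
theorem f144 : C.Fa 8 g144 6 h144 := (f122 C H).tri' (hNL C H) [] (t14 C H) (f71 C H) (hpool6 C H) [2, 6, 2, 7] (by decide +kernel)
theorem f145 : C.Fa 6 g145 8 h145 := (f144 C H).rev (by decide +kernel)
theorem f146 : C.Fa 5 g146 8 h146 := (f108 C H).tri (hNL C H) [] (t19 C H) (f140 C H) (hpool7 C H) [1, 15, 4, 7] (by decide +kernel)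
theorem f147 : C.Fa 8 g147 5 h147 := (f146 C H).rev (by decide +kernel)
theorem f148 : C.Fa 8 g148 8 h148 := (f125 C H).tri (hNL C H) [10] (t23 C H) (f125 C H) (hpool8 C H) [15, 11, 11] (by decide +kernel)
theorem f149 : C.Fa 8 g149 8 h149 := (f139 C H).tri' (hNL C H) [9] (t5 C H) (f138 C H) (hpool6 C H) [7, 4, 13] (by decide +kernel)
theorem f150 : C.Fa 8 g150 8 h150 := (f115 C H).tri' (hNL C H) [] (t0 C H) (f116 C H) (hpool5 C H) [0, 7, 7, 5, 9] (by decide +kernel)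
theorem f151 : C.Fa 4 g151 9 h151 := Cx.define (r := rM9) rfl (by decide +kernel)
theorem f152 : C.Fa 9 g152 4 h152 := (f151 C H).rev (by decide +kernel)
theorem f155 : C.Fa 9 g155 4 h155 := (f152 C H).tri' (hNL C H) [] (t26 C H) (f36 C H) (hpool4 C H) [0, 9] (by decide +kernel)
theorem f156 : C.Fa 4 g156 9 h156 := (f155 C H).rev (by decide +kernel)
theorem f157 : C.Fa 9 g157 9 h157 := (f151 C H).tri (hNL C H) [] (t3 C H) (f151 C H) (hpool4 C H) [2, 9, 0, 4] (by decide +kernel)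
theorem f158 : C.Fa 6 g158 9 h158 := (f52 C H).tri' (hNL C H) [] (t7 C H) (f156 C H) (hpool4 C H) [12, 6, 10, 1, 1] (by decide +kernel)
theorem f159 : C.Fa 9 g159 6 h159 := (f158 C H).rev (by decide +kernel)
theorem f160 : C.Fa 9 g160 9 h160 := (f151 C H).tri (hNL C H) [] (t0 C H) (f151 C H) (hpool4 C H) [1, 7, 13, 11, 12] (by decide +kernel)
theorem f161 : C.Fa 9 g161 9 h161 := (f155 C H).tri' (hNL C H) [] (t31 C H) (f156 C H) (hpool4 C H) [10, 6, 12, 9, 12] (by decide +kernel)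
theorem f162 : C.Fa 3 g162 10 h162 := Cx.define (r := rM10) rfl (by decide +kernel)
theorem f163 : C.Fa 10 g163 3 h163 := (f162 C H).rev (by decide +kernel)
theorem f165 : C.Fa 8 g165 10 h165 := (f113 C H).tri' (hNL C H) [] (t25 C H) (f162 C H) (hpool3 C H) [5, 5, 9, 3] (by decide +kernel)
theorem f166 : C.Fa 10 g166 8 h166 := (f165 C H).rev (by decide +kernel)
theorem f167 : C.Fa 6 g167 10 h167 := (f142 C H).tri (hNL C H) [] (t5 C H) (f165 C H) (hpool8 C H) [7, 11, 9, 0] (by decide +kernel)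
theorem f168 : C.Fa 10 g168 6 h168 := (f167 C H).rev (by decide +kernel)
theorem f169 : C.Fa 8 g169 10 h169 := (f137 C H).tri' (hNL C H) [] (t10 C H) (f165 C H) (hpool8 C H) [2, 12, 13, 11] (by decide +kernel)
theorem f170 : C.Fa 10 g170 8 h170 := (f169 C H).rev (by decide +kernel)
theorem f171 : C.Fa 10 g171 6 h171 := (f166 C H).tri' (hNL C H) [] (t9 C H) (f122 C H) (hpool8 C H) [2, 4, 4, 1] (by decide +kernel)
theorem f172 : C.Fa 6 g172 10 h172 := (f171 C H).rev (by decide +kernel)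
theorem f173 : C.Fa 10 g173 7 h173 := (f165 C H).tri (hNL C H) [] (t9 C H) (f131 C H) (hpool8 C H) [14, 2, 6, 15] (by decide +kernel)
theorem f174 : C.Fa 7 g174 10 h174 := (f173 C H).rev (by decide +kernel)
theorem f175 : C.Fa 6 g175 10 h175 := (f72 C H).tri' (hNL C H) [] (t2 C H) (f167 C H) (hpool6 C H) [10, 6, 11] (by decide +kernel)
theorem f176 : C.Fa 10 g176 6 h176 := (f175 C H).rev (by decide +kernel)
theorem f177 : C.Fa 9 g177 10 h177 := (f158 C H).tri (hNL C H) [] (t17 C H) (f167 C H) (hpool6 C H) [1, 10, 15] (by decide +kernel)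
theorem f178 : C.Fa 10 g178 9 h178 := (f177 C H).rev (by decide +kernel)
theorem f179 : C.Fa 10 g179 7 h179 := (f171 C H).tri' (hNL C H) [] (t12 C H) (f100 C H) (hpool6 C H) [8, 4, 3] (by decide +kernel)
theorem f180 : C.Fa 7 g180 10 h180 := (f179 C H).rev (by decide +kernel)
theorem f181 : C.Fa 10 g181 4 h181 := (f173 C H).tri' (hNL C H) [] (t19 C H) (f80 C H) (hpool7 C H) [1, 0] (by decide +kernel)
theorem f182 : C.Fa 4 g182 10 h182 := (f181 C H).rev (by decide +kernel)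
theorem f183 : C.Fa 6 g183 10 h183 := (f52 C H).tri' (hNL C H) [14] (t14 C H) (f182 C H) (hpool4 C H) [7, 8] (by decide +kernel)
theorem f184 : C.Fa 10 g184 6 h184 := (f183 C H).rev (by decide +kernel)
theorem f185 : C.Fa 6 g185 10 h185 := (f65 C H).tri' (hNL C H) [] (t21 C H) (f172 C H) (hpool6 C H) [10, 1, 1, 5] (by decide +kernel)
theorem f186 : C.Fa 10 g186 6 h186 := (f185 C H).rev (by decide +kernel)
theorem f187 : C.Fa 8 g187 10 h187 := (f122 C H).tri' (hNL C H) [] (t23 C H) (f172 C H) (hpool6 C H) [6, 5, 4, 7] (by decide +kernel)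
theorem f188 : C.Fa 10 g188 8 h188 := (f187 C H).rev (by decide +kernel)
theorem f189 : C.Fa 8 g189 10 h189 := (f128 C H).tri (hNL C H) [] (t3 C H) (f175 C H) (hpool6 C H) [5, 1, 14, 3] (by decide +kernel)
theorem f190 : C.Fa 10 g190 8 h190 := (f189 C H).rev (by decide +kernel)
theorem f191 : C.Fa 10 g191 6 h191 := (f172 C H).tri (hNL C H) [] (t25 C H) (f71 C H) (hpool6 C H) [8, 8, 10, 10] (by decide +kernel)
theorem f192 : C.Fa 6 g192 10 h192 := (f191 C H).rev (by decide +kernel)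
theorem f193 : C.Fa 10 g193 10 h193 := (f172 C H).tri (hNL C H) [] (t29 C H) (f167 C H) (hpool6 C H) [11, 2, 2, 6] (by decide +kernel)
theorem f194 : C.Fa 10 g194 6 h194 := (f171 C H).tri' (hNL C H) [] (t17 C H) (f71 C H) (hpool6 C H) [13, 15, 12, 3] (by decide +kernel)
theorem f195 : C.Fa 6 g195 10 h195 := (f194 C H).rev (by decide +kernel)
theorem f196 : C.Fa 10 g196 10 h196 := (f171 C H).tri' (hNL C H) [] (t30 C H) (f167 C H) (hpool6 C H) [2, 14, 0, 10] (by decide +kernel)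
theorem f197 : C.Fa 10 g197 10 h197 := (f169 C H).tri (hNL C H) [] (t18 C H) (f169 C H) (hpool8 C H) [5, 0, 2, 9] (by decide +kernel)
theorem hs645 : C.St 10 s645 := (f162 C H).coin (f162 C H) (hpool3 C H) [5, 12, 7, 0] (by decide +kernel)
theorem hs646 : C.St 10 s646 := (f162 C H).coin (f162 C H) (hpool3 C H) [5, 3, 3, 11, 9] (by decide +kernel)
theorem hs647 : C.St 10 s647 := (f162 C H).coin (f162 C H) (hpool3 C H) [3, 12, 5, 10, 7, 11] (by decide +kernel)
theorem f164 : C.Fa 3 g164 10 h164 := (f21 C H).tri (hNL C H) [16] (t31 C H) (f162 C H) (hpool3 C H) [2, 0, 15, 3] (by decide +kernel)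
theorem hs680 : C.St 10 s680 := (f164 C H).coin (f162 C H) (hpool3 C H) [1, 12, 7, 4] (by decide +kernel)
theorem hpool10 : C.StL 10 pool10 :=
  (Cx.StL.cons (hs645 C H) <| Cx.StL.cons (hs646 C H) <| Cx.StL.cons (hs647 C H) <| Cx.StL.cons (hs680 C H) <| Cx.StL.nil).pool [(2, 0), (4, 2), (4, 1), (6, 2), (1, 3), (3, 1), (2, 3), (3, 0), (2, 3), (1, 3), (1, 3), (0, 3), (3, 2), (3, 0), (0, 3), (3, 0), (3, 1), (2, 3), (1, 3), (3, 0), (2, 3), (2, 3), (0, 3), (1, 3), (3, 2), (2, 3), (0, 3), (3, 2), (1, 3), (3, 0), (3, 1), (3, 0)] [15, 14, 13, 12, 11, 10, 9, 8, 7, 6, 5, 4, 3, 2, 1, 0] (by decide +kernel)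
theorem f198 : C.Fa 10 g198 7 h198 := (f193 C H).tri (hNL C H) [25] (t16 C H) (f179 C H) (hpool10 C H) [1] (by decide +kernel)
theorem f199 : C.Fa 7 g199 10 h199 := (f198 C H).rev (by decide +kernel)
theorem f200 : C.Fa 4 g200 10 h200 := (f181 C H).tri (hNL C H) [] (t9 C H) (f196 C H) (hpool10 C H) [10, 11, 8, 13] (by decide +kernel)
theorem f201 : C.Fa 10 g201 4 h201 := (f200 C H).rev (by decide +kernel)
theorem f202 : C.Fa 6 g202 10 h202 := (f62 C H).tri (hNL C H) [] (t22 C H) (f183 C H) (hpool6 C H) [7, 15, 3, 8] (by decide +kernel)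
theorem f203 : C.Fa 10 g203 6 h203 := (f202 C H).rev (by decide +kernel)
theorem f204 : C.Fa 10 g204 10 h204 := (f196 C H).tri (hNL C H) [] (t19 C H) (f193 C H) (hpool10 C H) [1, 11, 13, 9] (by decide +kernel)
theorem f205 : C.Fa 10 g205 10 h205 := (f189 C H).tri (hNL C H) [] (t25 C H) (f187 C H) (hpool8 C H) [4, 12, 9, 15] (by decide +kernel)
theorem f206 : C.Fa 10 g206 10 h206 := (f205 C H).rev (by decide +kernel)
theorem f207 : C.Fa 10 g207 10 h207 := (f175 C H).tri (hNL C H) [] (t26 C H) (f192 C H) (hpool6 C H) [2, 8, 3, 2] (by decide +kernel)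
theorem f208 : C.Fa 10 g208 10 h208 := (f184 C H).tri' (hNL C H) [] (t8 C H) (f183 C H) (hpool6 C H) [13, 8, 4, 0] (by decide +kernel)
theorem f209 : C.Fa 10 g209 10 h209 := (f208 C H).rev (by decide +kernel)
theorem f210 : C.Fa 10 g210 9 h210 := (f183 C H).tri (hNL C H) [] (t6 C H) (f158 C H) (hpool6 C H) [14, 3, 10, 5] (by decide +kernel)
theorem f211 : C.Fa 9 g211 10 h211 := (f210 C H).rev (by decide +kernel)
theorem f212 : C.Fa 10 g212 6 h212 := (f196 C H).tri' (hNL C H) [16] (t15 C H) (f171 C H) (hpool10 C H) [2, 13] (by decide +kernel)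
theorem f213 : C.Fa 6 g213 10 h213 := (f212 C H).rev (by decide +kernel)
theorem f214 : C.Fa 10 g214 9 h214 := (f200 C H).tri (hNL C H) [] (t6 C H) (f151 C H) (hpool4 C H) [13, 1, 14] (by decide +kernel)
theorem f215 : C.Fa 9 g215 10 h215 := (f214 C H).rev (by decide +kernel)
theorem f216 : C.Fa 10 g216 10 h216 := (f204 C H).tri' (hNL C H) [] (t17 C H) (f204 C H) (hpool10 C H) [1, 14, 13, 11] (by decide +kernel)
theorem f217 : C.Fa 10 g217 10 h217 := (f207 C H).tri' (hNL C H) [] (t18 C H) (f204 C H) (hpool10 C H) [13, 2, 4, 13] (by decide +kernel)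
theorem f218 : C.Fa 10 g218 10 h218 := (f196 C H).tri (hNL C H) [] (t17 C H) (f209 C H) (hpool10 C H) [11, 4, 6, 2] (by decide +kernel)
theorem hs542 : C.St 9 s542 := (f151 C H).coin (f151 C H) (hpool4 C H) [14, 5, 4, 8] (by decide +kernel)
theorem hs543 : C.St 9 s543 := (f151 C H).coin (f151 C H) (hpool4 C H) [14, 14, 14, 14] (by decide +kernel)
theorem hs544 : C.St 9 s544 := (f151 C H).coin (f151 C H) (hpool4 C H) [5, 1, 0, 12, 10] (by decide +kernel)
theorem f153 : C.Fa 4 g153 9 h153 := (f39 C H).tri (hNL C H) [30] (t4 C H) (f151 C H) (hpool4 C H) [7, 4, 0, 10] (by decide +kernel)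
theorem hs577 : C.St 9 s577 := (f153 C H).coin (f151 C H) (hpool4 C H) [14] (by decide +kernel)
theorem f154 : C.Fa 4 g154 9 h154 := (f36 C H).tri (hNL C H) [19] (t25 C H) (f151 C H) (hpool4 C H) [5, 10, 2] (by decide +kernel)
theorem hs610 : C.St 9 s610 := (f154 C H).coin (f151 C H) (hpool4 C H) [2, 0, 8, 15] (by decide +kernel)
theorem hpool9 : C.StL 9 pool9 :=
  (Cx.StL.cons (hs542 C H) <| Cx.StL.cons (hs543 C H) <| Cx.StL.cons (hs544 C H) <| Cx.StL.cons (hs577 C H) <| Cx.StL.cons (hs610 C H) <| Cx.StL.nil).pool [(0, 4), (5, 2), (6, 4), (6, 7), (0, 8), (4, 2), (1, 4), (4, 3), (4, 1), (4, 3), (0, 4), (4, 1), (2, 4), (0, 4), (3, 4), (0, 4), (2, 4), (4, 2), (2, 4), (3, 4), (2, 4), (4, 1), (4, 2), (4, 0), (3, 4), (4, 3), (4, 0), (1, 4), (1, 4), (4, 1), (2, 4), (1, 4), (4, 3), (0, 4)] [15, 14, 13, 12, 11, 10, 9, 8, 7, 6, 5, 4, 3, 2, 1, 0] (by decide +kernel)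
theorem f219 : C.Fa 10 g219 10 h219 := (f214 C H).tri' (hNL C H) [] (t0 C H) (f215 C H) (hpool9 C H) [5, 1, 12, 7] (by decide +kernel)
theorem f220 : C.Fa 10 g220 10 h220 := (f216 C H).tri (hNL C H) [] (t4 C H) (f216 C H) (hpool10 C H) [7, 14, 10, 2] (by decide +kernel)

end Cfsg.Lib.Mon.CM
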