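import Cfsg.Agent.Mon.CMd3
import Cfsg.Agent.Mon.CMp2

/-! The Monster programme: steps of the double coset enumeration, level M. -/

set_option autoImplicit false
set_option maxRecDepth 20000
set_option linter.unusedSectionVars false

namespace Cfsg.Lib.Mon.CM

open Cfsg.Lib.Mon.Cert

variable {X : Type*} [Group X] (C : Cx Cert.PM X) (H : Cert.HM C)
include H

theorem f221 : C.Fa 10 g221 10 h221 := (f220 C H).tri' (hNL C H) [] (t16 C H) (f220 C H) (hpool10 C H) [4, 0, 1, 12] (by decide +kernel)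
theorem f222 : C.Fa 10 g222 10 h222 := (f219 C H).tri (hNL C H) [27] (t23 C H) (f220 C H) (hpool10 C H) [6, 7] (by decide +kernel)
theorem f223 : C.Fa 10 g223 10 h223 := (f162 C H).tri (hNL C H) [] (t0 C H) (f162 C H) (hpool3 C H) [9, 12, 12, 15, 11] (by decide +kernel)
theorem f224 : C.Fa 10 g224 10 h224 := (f169 C H).tri (hNL C H) [30] (t7 C H) (f169 C H) (hpool8 C H) [8, 9, 13] (by decide +kernel)
theorem f225 : C.Fa 10 g225 10 h225 := (f173 C H).tri' (hNL C H) [] (t27 C H) (f174 C H) (hpool7 C H) [1, 13, 9, 0, 13] (by decide +kernel)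
theorem f226 : C.Fa 10 g226 10 h226 := (f214 C H).tri' (hNL C H) [5] (t8 C H) (f215 C H) (hpool9 C H) [1, 5, 9] (by decide +kernel)
theorem f227 : C.Fa 10 g227 10 h227 := (f186 C H).tri' (hNL C H) [] (t9 C H) (f183 C H) (hpool6 C H) [0, 8, 15, 10, 15] (by decide +kernel)
theorem f228 : C.Fa 10 g228 10 h228 := (f181 C H).tri' (hNL C H) [] (t0 C H) (f182 C H) (hpool4 C H) [1, 5, 11, 7, 5] (by decide +kernel)
theorem f229 : C.Fa 10 g229 10 h229 := (f200 C H).tri (hNL C H) [] (t0 C H) (f200 C H) (hpool4 C H) [2, 1, 4, 7, 3] (by decide +kernel)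
theorem f230 : C.Fa 3 g230 11 h230 := Cx.define (r := rM11) rfl (by decide +kernel)
theorem f231 : C.Fa 11 g231 3 h231 := (f230 C H).rev (by decide +kernel)
theorem f234 : C.Fa 11 g234 10 h234 := (f231 C H).tri' (hNL C H) [] (t2 C H) (f162 C H) (hpool3 C H) [3, 0, 5] (by decide +kernel)
theorem f235 : C.Fa 10 g235 11 h235 := (f234 C H).rev (by decide +kernel)
theorem f236 : C.Fa 11 g236 8 h236 := (f231 C H).tri' (hNL C H) [11] (t23 C H) (f112 C H) (hpool3 C H) [3] (by decide +kernel)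
theorem f237 : C.Fa 8 g237 11 h237 := (f236 C H).rev (by decide +kernel)
theorem f238 : C.Fa 11 g238 8 h238 := (f234 C H).tri' (hNL C H) [] (t0 C H) (f166 C H) (hpool10 C H) [13, 0, 3] (by decide +kernel)
theorem f239 : C.Fa 8 g239 11 h239 := (f238 C H).rev (by decide +kernel)
theorem f240 : C.Fa 4 g240 11 h240 := (f126 C H).tri' (hNL C H) [] (t29 C H) (f239 C H) (hpool8 C H) [0, 2, 2, 3] (by decide +kernel)
theorem f241 : C.Fa 11 g241 4 h241 := (f240 C H).rev (by decide +kernel)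
theorem f242 : C.Fa 6 g242 11 h242 := (f143 C H).tri' (hNL C H) [] (t29 C H) (f239 C H) (hpool8 C H) [11, 0, 6, 0] (by decide +kernel)
theorem f243 : C.Fa 11 g243 6 h243 := (f242 C H).rev (by decide +kernel)
theorem f244 : C.Fa 6 g244 11 h244 := (f203 C H).tri (hNL C H) [18] (t33 C H) (f235 C H) (hpool10 C H) [5, 7] (by decide +kernel)
theorem f245 : C.Fa 11 g245 6 h245 := (f244 C H).rev (by decide +kernel)
theorem f246 : C.Fa 6 g246 11 h246 := (f122 C H).tri (hNL C H) [] (t17 C H) (f237 C H) (hpool8 C H) [8, 6, 7, 6] (by decide +kernel)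
theorem f247 : C.Fa 11 g247 6 h247 := (f246 C H).rev (by decide +kernel)
theorem f248 : C.Fa 6 g248 11 h248 := (f186 C H).tri (hNL C H) [] (t30 C H) (f235 C H) (hpool10 C H) [3, 2, 2, 11] (by decide +kernel)
theorem f249 : C.Fa 11 g249 6 h249 := (f248 C H).rev (by decide +kernel)
theorem f250 : C.Fa 6 g250 11 h250 := (f212 C H).tri (hNL C H) [] (t3 C H) (f235 C H) (hpool10 C H) [1, 6, 3, 9] (by decide +kernel)
theorem f251 : C.Fa 11 g251 6 h251 := (f250 C H).rev (by decide +kernel)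
theorem f252 : C.Fa 7 g252 11 h252 := (f173 C H).tri (hNL C H) [] (t33 C H) (f235 C H) (hpool10 C H) [0, 14, 0, 11] (by decide +kernel)
theorem f253 : C.Fa 11 g253 7 h253 := (f252 C H).rev (by decide +kernel)
theorem f254 : C.Fa 7 g254 11 h254 := (f180 C H).tri' (hNL C H) [28] (t8 C H) (f235 C H) (hpool10 C H) [10, 2] (by decide +kernel)
theorem f255 : C.Fa 11 g255 7 h255 := (f254 C H).rev (by decide +kernel)
theorem f256 : C.Fa 7 g256 11 h256 := (f119 C H).tri' (hNL C H) [17] (t3 C H) (f237 C H) (hpool8 C H) [15, 10] (by decide +kernel)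
theorem f257 : C.Fa 11 g257 7 h257 := (f256 C H).rev (by decide +kernel)
theorem f258 : C.Fa 8 g258 11 h258 := (f189 C H).tri' (hNL C H) [18] (t31 C H) (f235 C H) (hpool10 C H) [14, 0] (by decide +kernel)
theorem f259 : C.Fa 11 g259 8 h259 := (f258 C H).rev (by decide +kernel)
theorem f260 : C.Fa 10 g260 11 h260 := (f221 C H).tri (hNL C H) [] (t20 C H) (f235 C H) (hpool10 C H) [2, 0, 0, 3] (by decide +kernel)
theorem f261 : C.Fa 11 g261 10 h261 := (f260 C H).rev (by decide +kernel)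
theorem f262 : C.Fa 10 g262 11 h262 := (f169 C H).tri (hNL C H) [] (t2 C H) (f237 C H) (hpool8 C H) [5, 5, 8, 8] (by decide +kernel)
theorem f263 : C.Fa 11 g263 10 h263 := (f262 C H).rev (by decide +kernel)
theorem f264 : C.Fa 10 g264 11 h264 := (f189 C H).tri (hNL C H) [22] (t4 C H) (f237 C H) (hpool8 C H) [1, 1] (by decide +kernel)
theorem f265 : C.Fa 11 g265 10 h265 := (f264 C H).rev (by decide +kernel)
theorem f266 : C.Fa 10 g266 11 h266 := (f224 C H).tri' (hNL C H) [23] (t29 C H) (f235 C H) (hpool10 C H) [8, 11] (by decide +kernel)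
theorem f267 : C.Fa 11 g267 10 h267 := (f266 C H).rev (by decide +kernel)
theorem f268 : C.Fa 10 g268 11 h268 := (f227 C H).tri' (hNL C H) [7] (t20 C H) (f235 C H) (hpool10 C H) [14, 10] (by decide +kernel)
theorem f269 : C.Fa 11 g269 10 h269 := (f268 C H).rev (by decide +kernel)
theorem f270 : C.Fa 11 g270 11 h270 := (f236 C H).tri' (hNL C H) [] (t10 C H) (f239 C H) (hpool8 C H) [1, 7, 4, 13] (by decide +kernel)
theorem f271 : C.Fa 11 g271 11 h271 := (f270 C H).rev (by decide +kernel)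
theorem f272 : C.Fa 11 g272 6 h272 := (f236 C H).tri' (hNL C H) [] (t24 C H) (f135 C H) (hpool8 C H) [10, 6, 15, 12] (by decide +kernel)
theorem f273 : C.Fa 6 g273 11 h273 := (f272 C H).rev (by decide +kernel)
theorem f274 : C.Fa 11 g274 11 h274 := (f231 C H).tri' (hNL C H) [] (t19 C H) (f230 C H) (hpool3 C H) [7, 7, 5, 8] (by decide +kernel)
theorem f275 : C.Fa 3 g275 11 h275 := (f162 C H).tri' (hNL C H) [] (t27 C H) (f268 C H) (hpool10 C H) [7, 15, 6] (by decide +kernel)
theorem f276 : C.Fa 11 g276 3 h276 := (f275 C H).rev (by decide +kernel)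
theorem f277 : C.Fa 5 g277 11 h277 := (f56 C H).tri (hNL C H) [] (t22 C H) (f250 C H) (hpool6 C H) [11, 10, 3] (by decide +kernel)
theorem f278 : C.Fa 11 g278 5 h278 := (f277 C H).rev (by decide +kernel)
theorem f279 : C.Fa 6 g279 11 h279 := (f212 C H).tri (hNL C H) [] (t8 C H) (f268 C H) (hpool10 C H) [13, 5, 4] (by decide +kernel)
theorem f280 : C.Fa 11 g280 6 h280 := (f279 C H).rev (by decide +kernel)
theorem f281 : C.Fa 10 g281 11 h281 := (f175 C H).tri (hNL C H) [] (t21 C H) (f246 C H) (hpool6 C H) [7, 7] (by decide +kernel)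
theorem f282 : C.Fa 11 g282 10 h282 := (f281 C H).rev (by decide +kernel)
theorem f283 : C.Fa 10 g283 11 h283 := (f198 C H).tri' (hNL C H) [] (t31 C H) (f254 C H) (hpool7 C H) [8, 11, 5] (by decide +kernel)
theorem f284 : C.Fa 11 g284 10 h284 := (f283 C H).rev (by decide +kernel)
theorem f285 : C.Fa 10 g285 11 h285 := (f219 C H).tri (hNL C H) [] (t3 C H) (f266 C H) (hpool10 C H) [0, 10, 14] (by decide +kernel)
theorem f286 : C.Fa 11 g286 10 h286 := (f285 C H).rev (by decide +kernel)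
theorem f287 : C.Fa 11 g287 11 h287 := (f266 C H).tri (hNL C H) [] (t0 C H) (f266 C H) (hpool10 C H) [14, 14, 14] (by decide +kernel)
theorem f288 : C.Fa 11 g288 10 h288 := (f251 C H).tri' (hNL C H) [] (t4 C H) (f183 C H) (hpool6 C H) [12, 6, 15] (by decide +kernel)
theorem f289 : C.Fa 10 g289 11 h289 := (f288 C H).rev (by decide +kernel)
theorem f290 : C.Fa 11 g290 11 h290 := (f246 C H).tri (hNL C H) [] (t0 C H) (f246 C H) (hpool6 C H) [14, 14, 8] (by decide +kernel)
theorem hs713 : C.St 11 s713 := (f230 C H).coin (f230 C H) (hpool3 C H) [0, 2, 15, 3, 13] (by decide +kernel)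
theorem hs714 : C.St 11 s714 := (f230 C H).coin (f230 C H) (hpool3 C H) [7, 1, 2, 15, 10, 9] (by decide +kernel)
theorem f232 : C.Fa 11 g232 3 h232 := (f230 C H).tri (hNL C H) [0] (t7 C H) (f24 C H) (hpool3 C H) [15, 15] (by decide +kernel)
theorem f233 : C.Fa 3 g233 11 h233 := (f232 C H).rev (by decide +kernel)
theorem hs747 : C.St 11 s747 := (f233 C H).coin (f230 C H) (hpool3 C H) [2, 0, 6, 2, 0] (by decide +kernel)
theorem hpool11 : C.StL 11 pool11 :=
  (Cx.StL.cons (hs713 C H) <| Cx.StL.cons (hs714 C H) <| Cx.StL.cons (hs747 C H) <| Cx.StL.nil).pool [(0, 1), (2, 3), (4, 2), (2, 3), (3, 0), (1, 3), (0, 3), (1, 3), (3, 0), (3, 2), (2, 3), (1, 3), (3, 0), (1, 3), (2, 3), (0, 3), (2, 3), (2, 3), (2, 3), (3, 1), (1, 3), (1, 3), (1, 3), (3, 2), (1, 3), (3, 2), (2, 3), (2, 3), (3, 2), (0, 3), (3, 1), (3, 0)] [15, 14, 13, 12, 11, 10, 9, 8, 7, 6, 5, 4, 3, 2, 1, 0] (by decide +kernel)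
theorem f291 : C.Fa 11 g291 6 h291 := (f270 C H).tri (hNL C H) [] (t3 C H) (f247 C H) (hpool11 C H) [15, 3, 0] (by decide +kernel)
theorem f292 : C.Fa 6 g292 11 h292 := (f291 C H).rev (by decide +kernel)
theorem f293 : C.Fa 11 g293 8 h293 := (f268 C H).tri (hNL C H) [] (t15 C H) (f170 C H) (hpool10 C H) [4, 15, 10] (by decide +kernel)
theorem f294 : C.Fa 8 g294 11 h294 := (f293 C H).rev (by decide +kernel)
theorem f295 : C.Fa 8 g295 11 h295 := (f122 C H).tri' (hNL C H) [] (t0 C H) (f279 C H) (hpool6 C H) [14, 5, 12] (by decide +kernel)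
theorem f296 : C.Fa 11 g296 8 h296 := (f295 C H).rev (by decide +kernel)
theorem f297 : C.Fa 10 g297 11 h297 := (f207 C H).tri' (hNL C H) [16] (t16 C H) (f285 C H) (hpool10 C H) [11] (by decide +kernel)
theorem f298 : C.Fa 11 g298 10 h298 := (f297 C H).rev (by decide +kernel)
theorem f299 : C.Fa 10 g299 11 h299 := (f163 C H).tri' (hNL C H) [] (t25 C H) (f275 C H) (hpool3 C H) [5, 3, 9] (by decide +kernel)
theorem f300 : C.Fa 11 g300 10 h300 := (f299 C H).rev (by decide +kernel)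
theorem f301 : C.Fa 11 g301 11 h301 := (f290 C H).tri (hNL C H) [] (t12 C H) (f271 C H) (hpool11 C H) [0, 11, 2] (by decide +kernel)
theorem f302 : C.Fa 11 g302 6 h302 := (f281 C H).tri (hNL C H) [] (t24 C H) (f194 C H) (hpool10 C H) [9, 0, 2] (by decide +kernel)
theorem f303 : C.Fa 6 g303 11 h303 := (f302 C H).rev (by decide +kernel)
theorem f304 : C.Fa 11 g304 11 h304 := (f285 C H).tri (hNL C H) [] (t17 C H) (f235 C H) (hpool10 C H) [13, 0, 15] (by decide +kernel)
theorem f305 : C.Fa 11 g305 6 h305 := (f275 C H).tri (hNL C H) [] (t22 C H) (f55 C H) (hpool3 C H) [14, 2, 5] (by decide +kernel)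
theorem f306 : C.Fa 6 g306 11 h306 := (f305 C H).rev (by decide +kernel)
theorem f307 : C.Fa 11 g307 9 h307 := (f286 C H).tri' (hNL C H) [] (t9 C H) (f214 C H) (hpool10 C H) [3, 12, 7] (by decide +kernel)
theorem f308 : C.Fa 9 g308 11 h308 := (f307 C H).rev (by decide +kernel)
theorem f309 : C.Fa 6 g309 11 h309 := (f145 C H).tri' (hNL C H) [] (t28 C H) (f295 C H) (hpool8 C H) [5, 13, 13] (by decide +kernel)
theorem f310 : C.Fa 11 g310 6 h310 := (f309 C H).rev (by decide +kernel)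
theorem f311 : C.Fa 8 g311 11 h311 := (f150 C H).tri (hNL C H) [] (t31 C H) (f295 C H) Cx.StL.nil [] (by decide +kernel)
theorem f312 : C.Fa 11 g312 8 h312 := (f311 C H).rev (by decide +kernel)
theorem f313 : C.Fa 9 g313 11 h313 := (f158 C H).tri (hNL C H) [] (t14 C H) (f306 C H) (hpool6 C H) [5, 8, 3] (by decide +kernel)
theorem f314 : C.Fa 11 g314 9 h314 := (f313 C H).rev (by decide +kernel)
theorem f315 : C.Fa 10 g315 11 h315 := (f189 C H).tri (hNL C H) [] (t19 C H) (f295 C H) (hpool8 C H) [2, 14, 11] (by decide +kernel)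
theorem f316 : C.Fa 11 g316 10 h316 := (f315 C H).rev (by decide +kernel)
theorem f317 : C.Fa 11 g317 11 h317 := (f305 C H).tri' (hNL C H) [] (t11 C H) (f306 C H) (hpool6 C H) [0, 7, 10] (by decide +kernel)
theorem f318 : C.Fa 11 g318 6 h318 := (f290 C H).tri' (hNL C H) [] (t18 C H) (f302 C H) (hpool11 C H) [4, 11, 5] (by decide +kernel)
theorem f319 : C.Fa 6 g319 11 h319 := (f318 C H).rev (by decide +kernel)
theorem f320 : C.Fa 11 g320 11 h320 := (f304 C H).tri (hNL C H) [] (t28 C H) (f304 C H) (hpool11 C H) [13, 7, 0] (by decide +kernel)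
theorem f321 : C.Fa 11 g321 11 h321 := (f320 C H).rev (by decide +kernel)
theorem f322 : C.Fa 11 g322 5 h322 := (f295 C H).tri (hNL C H) [] (t1 C H) (f115 C H) Cx.StL.nil [] (by decide +kernel)
theorem f323 : C.Fa 5 g323 11 h323 := (f322 C H).rev (by decide +kernel)
theorem f324 : C.Fa 8 g324 11 h324 := (f128 C H).tri (hNL C H) [] (t33 C H) (f319 C H) (hpool6 C H) [11, 15, 10] (by decide +kernel)
theorem f325 : C.Fa 11 g325 8 h325 := (f324 C H).rev (by decide +kernel)
theorem f326 : C.Fa 10 g326 11 h326 := (f205 C H).tri (hNL C H) [] (t2 C H) (f315 C H) (hpool10 C H) [7, 2, 14] (by decide +kernel)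
theorem f327 : C.Fa 11 g327 10 h327 := (f326 C H).rev (by decide +kernel)
theorem f328 : C.Fa 11 g328 11 h328 := (f319 C H).tri (hNL C H) [] (t30 C H) (f273 C H) (hpool6 C H) [11, 5, 11] (by decide +kernel)
theorem f329 : C.Fa 11 g329 10 h329 := (f320 C H).tri (hNL C H) [] (t33 C H) (f269 C H) (hpool11 C H) [15, 2, 11] (by decide +kernel)
theorem f330 : C.Fa 10 g330 11 h330 := (f329 C H).rev (by decide +kernel)
theorem f331 : C.Fa 11 g331 11 h331 := (f311 C H).tri (hNL C H) [15] (t11 C H) (f311 C H) (hpool8 C H) [11] (by decide +kernel)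
theorem f332 : C.Fa 6 g332 11 h332 := (f213 C H).tri' (hNL C H) [] (t19 C H) (f330 C H) (hpool10 C H) [8, 6, 2] (by decide +kernel)
theorem f333 : C.Fa 11 g333 6 h333 := (f332 C H).rev (by decide +kernel)
theorem f334 : C.Fa 11 g334 10 h334 := (f329 C H).tri' (hNL C H) [] (t18 C H) (f218 C H) (hpool10 C H) [12, 12, 12] (by decide +kernel)
theorem f335 : C.Fa 10 g335 11 h335 := (f334 C H).rev (by decide +kernel)
theorem f336 : C.Fa 11 g336 11 h336 := (f288 C H).tri' (hNL C H) [] (t30 C H) (f330 C H) (hpool10 C H) [3, 8, 8] (by decide +kernel)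
theorem f337 : C.Fa 11 g337 11 h337 := (f336 C H).rev (by decide +kernel)
theorem f338 : C.Fa 6 g338 11 h338 := (f333 C H).tri (hNL C H) [] (t9 C H) (f320 C H) (hpool11 C H) [7, 1] (by decide +kernel)
theorem f339 : C.Fa 11 g339 6 h339 := (f338 C H).rev (by decide +kernel)
theorem f340 : C.Fa 11 g340 11 h340 := (f336 C H).tri (hNL C H) [] (t8 C H) (f274 C H) (hpool11 C H) [12, 11, 13] (by decide +kernel)
theorem f341 : C.Fa 11 g341 11 h341 := (f337 C H).tri' (hNL C H) [] (t8 C H) (f340 C H) (hpool11 C H) [2, 1, 1] (by decide +kernel)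
theorem f342 : C.Fa 6 g342 11 h342 := (f60 C H).tri (hNL C H) [] (t28 C H) (f319 C H) (hpool6 C H) [11, 11, 10, 10] (by decide +kernel)
theorem f343 : C.Fa 11 g343 6 h343 := (f342 C H).rev (by decide +kernel)
theorem f344 : C.Fa 6 g344 11 h344 := (f144 C H).tri (hNL C H) [] (t15 C H) (f311 C H) (hpool8 C H) [9, 5, 4, 4] (by decide +kernel)
theorem f345 : C.Fa 11 g345 6 h345 := (f344 C H).rev (by decide +kernel)
theorem f346 : C.Fa 6 g346 11 h346 := (f69 C H).tri' (hNL C H) [5] (t27 C H) (f292 C H) (hpool6 C H) [4, 12] (by decide +kernel)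
theorem f347 : C.Fa 11 g347 6 h347 := (f346 C H).rev (by decide +kernel)
theorem f348 : C.Fa 6 g348 11 h348 := (f332 C H).tri' (hNL C H) [13] (t32 C H) (f304 C H) (hpool11 C H) [7, 11] (by decide +kernel)
theorem f349 : C.Fa 11 g349 6 h349 := (f348 C H).rev (by decide +kernel)
theorem f350 : C.Fa 6 g350 11 h350 := (f63 C H).tri (hNL C H) [] (t9 C H) (f273 C H) (hpool6 C H) [4, 14, 1, 0] (by decide +kernel)
theorem f351 : C.Fa 11 g351 6 h351 := (f350 C H).rev (by decide +kernel)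
theorem f352 : C.Fa 6 g352 11 h352 := (f65 C H).tri (hNL C H) [] (t30 C H) (f279 C H) (hpool6 C H) [0, 7, 15, 6] (by decide +kernel)
theorem f353 : C.Fa 11 g353 6 h353 := (f352 C H).rev (by decide +kernel)
theorem f354 : C.Fa 7 g354 11 h354 := (f101 C H).tri' (hNL C H) [] (t18 C H) (f306 C H) (hpool6 C H) [12, 12, 3, 2] (by decide +kernel)
theorem f355 : C.Fa 11 g355 7 h355 := (f354 C H).rev (by decide +kernel)
theorem f356 : C.Fa 7 g356 11 h356 := (f102 C H).tri' (hNL C H) [] (t10 C H) (f248 C H) (hpool6 C H) [13, 10, 6, 9] (by decide +kernel)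
theorem f357 : C.Fa 11 g357 7 h357 := (f356 C H).rev (by decide +kernel)
theorem f358 : C.Fa 7 g358 11 h358 := (f92 C H).tri (hNL C H) [] (t2 C H) (f273 C H) (hpool6 C H) [10, 11, 2, 14] (by decide +kernel)
theorem f359 : C.Fa 11 g359 7 h359 := (f358 C H).rev (by decide +kernel)
theorem f360 : C.Fa 8 g360 11 h360 := (f128 C H).tri (hNL C H) [] (t30 C H) (f292 C H) (hpool6 C H) [7, 3, 14, 8] (by decide +kernel)
theorem f361 : C.Fa 11 g361 8 h361 := (f360 C H).rev (by decide +kernel)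

end Cfsg.Lib.Mon.CM
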