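import Cfsg.Agent.Mon.CMd4
import Cfsg.Agent.Mon.CMp3

/-! The Monster programme: steps of the double coset enumeration, level M. -/

set_option autoImplicit false
set_option maxRecDepth 20000
set_option linter.unusedSectionVars false

namespace Cfsg.Lib.Mon.CM

open Cfsg.Lib.Mon.Cert

variable {X : Type*} [Group X] (C : Cx Cert.PM X) (H : Cert.HM C)
include H

theorem f362 : C.Fa 8 g362 11 h362 := (f132 C H).tri (hNL C H) [] (t20 C H) (f295 C H) (hpool8 C H) [9, 5, 2, 14] (by decide +kernel)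
theorem f363 : C.Fa 11 g363 8 h363 := (f362 C H).rev (by decide +kernel)
theorem f364 : C.Fa 9 g364 11 h364 := (f158 C H).tri (hNL C H) [] (t23 C H) (f244 C H) (hpool6 C H) [8, 4, 4, 0] (by decide +kernel)
theorem f365 : C.Fa 11 g365 9 h365 := (f364 C H).rev (by decide +kernel)
theorem f366 : C.Fa 10 g366 11 h366 := (f175 C H).tri (hNL C H) [] (t4 C H) (f248 C H) (hpool6 C H) [5, 14, 0, 0] (by decide +kernel)
theorem f367 : C.Fa 11 g367 10 h367 := (f366 C H).rev (by decide +kernel)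
theorem f368 : C.Fa 10 g368 11 h368 := (f214 C H).tri' (hNL C H) [] (t30 C H) (f308 C H) (hpool9 C H) [3, 4, 13, 8] (by decide +kernel)
theorem f369 : C.Fa 11 g369 10 h369 := (f368 C H).rev (by decide +kernel)
theorem f370 : C.Fa 10 g370 11 h370 := (f185 C H).tri (hNL C H) [] (t25 C H) (f248 C H) (hpool6 C H) [6, 15, 12, 1] (by decide +kernel)
theorem f371 : C.Fa 11 g371 10 h371 := (f370 C H).rev (by decide +kernel)
theorem f372 : C.Fa 10 g372 11 h372 := (f168 C H).tri' (hNL C H) [] (t21 C H) (f250 C H) (hpool6 C H) [15, 0, 12, 1] (by decide +kernel)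
theorem f373 : C.Fa 11 g373 10 h373 := (f372 C H).rev (by decide +kernel)
theorem f374 : C.Fa 10 g374 11 h374 := (f207 C H).tri' (hNL C H) [] (t4 C H) (f283 C H) (hpool10 C H) [2, 11, 13, 0] (by decide +kernel)
theorem f375 : C.Fa 11 g375 10 h375 := (f374 C H).rev (by decide +kernel)
theorem f376 : C.Fa 10 g376 11 h376 := (f196 C H).tri (hNL C H) [] (t9 C H) (f268 C H) (hpool10 C H) [1, 1, 5, 1] (by decide +kernel)
theorem f377 : C.Fa 11 g377 10 h377 := (f376 C H).rev (by decide +kernel)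
theorem f378 : C.Fa 10 g378 11 h378 := (f172 C H).tri (hNL C H) [] (t12 C H) (f248 C H) (hpool6 C H) [3, 1, 2, 5] (by decide +kernel)
theorem f379 : C.Fa 11 g379 10 h379 := (f378 C H).rev (by decide +kernel)
theorem f380 : C.Fa 11 g380 11 h380 := (f235 C H).tri (hNL C H) [23] (t18 C H) (f335 C H) (hpool10 C H) [15, 3] (by decide +kernel)
theorem f381 : C.Fa 11 g381 11 h381 := (f248 C H).tri (hNL C H) [5] (t24 C H) (f246 C H) (hpool6 C H) [3, 4] (by decide +kernel)
theorem f382 : C.Fa 11 g382 11 h382 := (f381 C H).rev (by decide +kernel)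
theorem f383 : C.Fa 11 g383 11 h383 := (f282 C H).tri' (hNL C H) [] (t28 C H) (f289 C H) (hpool10 C H) [8, 14, 8, 1] (by decide +kernel)
theorem f384 : C.Fa 11 g384 11 h384 := (f383 C H).rev (by decide +kernel)
theorem f385 : C.Fa 11 g385 11 h385 := (f260 C H).tri (hNL C H) [] (t18 C H) (f281 C H) (hpool10 C H) [8, 6, 4, 15] (by decide +kernel)
theorem f386 : C.Fa 11 g386 11 h386 := (f242 C H).tri (hNL C H) [] (t15 C H) (f248 C H) (hpool6 C H) [4, 13, 8, 14] (by decide +kernel)
theorem f387 : C.Fa 11 g387 11 h387 := (f386 C H).rev (by decide +kernel)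
theorem f388 : C.Fa 11 g388 11 h388 := (f265 C H).tri' (hNL C H) [] (t2 C H) (f235 C H) (hpool10 C H) [5, 7, 9, 1] (by decide +kernel)
theorem f389 : C.Fa 11 g389 11 h389 := (f388 C H).rev (by decide +kernel)
theorem f390 : C.Fa 11 g390 11 h390 := (f301 C H).tri (hNL C H) [] (t32 C H) (f336 C H) (hpool11 C H) [11, 10, 5, 3] (by decide +kernel)
theorem f391 : C.Fa 11 g391 11 h391 := (f390 C H).rev (by decide +kernel)
theorem f392 : C.Fa 11 g392 11 h392 := (f334 C H).tri' (hNL C H) [26] (t25 C H) (f268 C H) (hpool10 C H) [2, 9] (by decide +kernel)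
theorem f393 : C.Fa 11 g393 11 h393 := (f258 C H).tri (hNL C H) [] (t26 C H) (f237 C H) (hpool8 C H) [4, 6, 14, 10] (by decide +kernel)
theorem f394 : C.Fa 11 g394 11 h394 := (f324 C H).tri (hNL C H) [] (t4 C H) (f311 C H) (hpool8 C H) [2, 2, 0, 7] (by decide +kernel)
theorem f395 : C.Fa 11 g395 11 h395 := (f318 C H).tri' (hNL C H) [] (t30 C H) (f292 C H) (hpool6 C H) [15, 2, 15, 11] (by decide +kernel)
theorem f396 : C.Fa 11 g396 11 h396 := (f285 C H).tri (hNL C H) [] (t0 C H) (f285 C H) (hpool10 C H) [2, 5, 6, 6] (by decide +kernel)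
theorem f397 : C.Fa 11 g397 11 h397 := (f270 C H).tri' (hNL C H) [31] (t26 C H) (f287 C H) (hpool11 C H) [13, 10] (by decide +kernel)
theorem f398 : C.Fa 11 g398 11 h398 := (f334 C H).tri' (hNL C H) [] (t3 C H) (f335 C H) (hpool10 C H) [11, 3, 12, 15] (by decide +kernel)
theorem f399 : C.Fa 11 g399 11 h399 := (f286 C H).tri' (hNL C H) [20] (t17 C H) (f268 C H) (hpool10 C H) [5, 12] (by decide +kernel)
theorem f400 : C.Fa 11 g400 11 h400 := (f399 C H).rev (by decide +kernel)
theorem f401 : C.Fa 11 g401 11 h401 := (f235 C H).tri (hNL C H) [] (t9 C H) (f285 C H) (hpool10 C H) [7, 10, 0, 6] (by decide +kernel)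
theorem f402 : C.Fa 11 g402 11 h402 := (f401 C H).rev (by decide +kernel)
theorem f403 : C.Fa 11 g403 11 h403 := (f277 C H).tri (hNL C H) [] (t20 C H) (f277 C H) (hpool5 C H) [14, 4, 13, 14] (by decide +kernel)
theorem f404 : C.Fa 11 g404 11 h404 := (f268 C H).tri (hNL C H) [] (t22 C H) (f235 C H) (hpool10 C H) [1, 1, 11, 13] (by decide +kernel)
theorem f405 : C.Fa 11 g405 11 h405 := (f404 C H).rev (by decide +kernel)
theorem f406 : C.Fa 11 g406 11 h406 := (f285 C H).tri (hNL C H) [30] (t31 C H) (f281 C H) (hpool10 C H) [15, 12] (by decide +kernel)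
theorem f407 : C.Fa 11 g407 11 h407 := (f406 C H).rev (by decide +kernel)
theorem f408 : C.Fa 11 g408 11 h408 := (f331 C H).tri' (hNL C H) [6] (t24 C H) (f331 C H) (hpool11 C H) [9, 3] (by decide +kernel)
theorem f409 : C.Fa 11 g409 11 h409 := (f250 C H).tri (hNL C H) [31] (t14 C H) (f338 C H) (hpool6 C H) [3, 8] (by decide +kernel)
theorem f410 : C.Fa 11 g410 11 h410 := (f408 C H).tri (hNL C H) [] (t33 C H) (f331 C H) (hpool11 C H) [3, 12, 15] (by decide +kernel)
theorem f411 : C.Fa 11 g411 11 h411 := (f353 C H).tri' (hNL C H) [] (t9 C H) (f352 C H) (hpool6 C H) [9, 9, 14] (by decide +kernel)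
theorem f412 : C.Fa 11 g412 11 h412 := (f321 C H).tri (hNL C H) [] (t10 C H) (f399 C H) (hpool11 C H) [10, 6, 9] (by decide +kernel)
theorem f413 : C.Fa 11 g413 11 h413 := (f270 C H).tri (hNL C H) [17] (t8 C H) (f412 C H) (hpool11 C H) [13, 13] (by decide +kernel)
theorem f414 : C.Fa 11 g414 11 h414 := (f320 C H).tri (hNL C H) [] (t3 C H) (f400 C H) (hpool11 C H) [0, 0, 14, 8] (by decide +kernel)
theorem f415 : C.Fa 11 g415 11 h415 := (f408 C H).tri (hNL C H) [0] (t2 C H) (f411 C H) (hpool11 C H) [8, 6] (by decide +kernel)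
theorem hFL : C.FaL FL :=
  .cons (f0 C H) <| .cons (f1 C H) <| .cons (f2 C H) <| .cons (f4 C H) <| .cons (f5 C H) <| .cons (f6 C H) <|
  .cons (f7 C H) <| .cons (f8 C H) <| .cons (f9 C H) <| .cons (f10 C H) <| .cons (f11 C H) <| .cons (f12 C H) <|
  .cons (f13 C H) <| .cons (f14 C H) <| .cons (f16 C H) <| .cons (f17 C H) <| .cons (f18 C H) <| .cons (f19 C H) <|
  .cons (f20 C H) <| .cons (f21 C H) <| .cons (f22 C H) <| .cons (f23 C H) <| .cons (f24 C H) <| .cons (f25 C H) <|
  .cons (f26 C H) <| .cons (f27 C H) <| .cons (f29 C H) <| .cons (f30 C H) <| .cons (f31 C H) <| .cons (f32 C H) <|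
  .cons (f33 C H) <| .cons (f34 C H) <| .cons (f35 C H) <| .cons (f36 C H) <| .cons (f37 C H) <| .cons (f38 C H) <|
  .cons (f39 C H) <| .cons (f40 C H) <| .cons (f41 C H) <| .cons (f43 C H) <| .cons (f44 C H) <| .cons (f45 C H) <|
  .cons (f46 C H) <| .cons (f47 C H) <| .cons (f48 C H) <| .cons (f49 C H) <| .cons (f50 C H) <| .cons (f51 C H) <|
  .cons (f52 C H) <| .cons (f53 C H) <| .cons (f54 C H) <| .cons (f55 C H) <| .cons (f56 C H) <| .cons (f57 C H) <|
  .cons (f58 C H) <| .cons (f59 C H) <| .cons (f60 C H) <| .cons (f61 C H) <| .cons (f62 C H) <| .cons (f63 C H) <|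
  .cons (f64 C H) <| .cons (f65 C H) <| .cons (f66 C H) <| .cons (f67 C H) <| .cons (f68 C H) <| .cons (f69 C H) <|
  .cons (f70 C H) <| .cons (f71 C H) <| .cons (f72 C H) <| .cons (f73 C H) <| .cons (f74 C H) <| .cons (f75 C H) <|
  .cons (f76 C H) <| .cons (f77 C H) <| .cons (f79 C H) <| .cons (f80 C H) <| .cons (f81 C H) <| .cons (f82 C H) <|
  .cons (f83 C H) <| .cons (f84 C H) <| .cons (f85 C H) <| .cons (f86 C H) <| .cons (f87 C H) <| .cons (f88 C H) <|
  .cons (f89 C H) <| .cons (f90 C H) <| .cons (f91 C H) <| .cons (f92 C H) <| .cons (f93 C H) <| .cons (f94 C H) <|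
  .cons (f95 C H) <| .cons (f96 C H) <| .cons (f97 C H) <| .cons (f98 C H) <| .cons (f99 C H) <| .cons (f100 C H) <|
  .cons (f101 C H) <| .cons (f102 C H) <| .cons (f103 C H) <| .cons (f104 C H) <| .cons (f105 C H) <| .cons (f106 C H) <|
  .cons (f107 C H) <| .cons (f108 C H) <| .cons (f109 C H) <| .cons (f110 C H) <| .cons (f111 C H) <| .cons (f112 C H) <|
  .cons (f113 C H) <| .cons (f115 C H) <| .cons (f116 C H) <| .cons (f117 C H) <| .cons (f118 C H) <| .cons (f119 C H) <|
  .cons (f120 C H) <| .cons (f121 C H) <| .cons (f122 C H) <| .cons (f123 C H) <| .cons (f124 C H) <| .cons (f125 C H) <|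
  .cons (f126 C H) <| .cons (f127 C H) <| .cons (f128 C H) <| .cons (f129 C H) <| .cons (f130 C H) <| .cons (f131 C H) <|
  .cons (f132 C H) <| .cons (f133 C H) <| .cons (f134 C H) <| .cons (f135 C H) <| .cons (f136 C H) <| .cons (f137 C H) <|
  .cons (f138 C H) <| .cons (f139 C H) <| .cons (f140 C H) <| .cons (f141 C H) <| .cons (f142 C H) <| .cons (f143 C H) <|
  .cons (f144 C H) <| .cons (f145 C H) <| .cons (f146 C H) <| .cons (f147 C H) <| .cons (f148 C H) <| .cons (f149 C H) <|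
  .cons (f150 C H) <| .cons (f151 C H) <| .cons (f152 C H) <| .cons (f155 C H) <| .cons (f156 C H) <| .cons (f157 C H) <|
  .cons (f158 C H) <| .cons (f159 C H) <| .cons (f160 C H) <| .cons (f161 C H) <| .cons (f162 C H) <| .cons (f163 C H) <|
  .cons (f165 C H) <| .cons (f166 C H) <| .cons (f167 C H) <| .cons (f168 C H) <| .cons (f169 C H) <| .cons (f170 C H) <|
  .cons (f171 C H) <| .cons (f172 C H) <| .cons (f173 C H) <| .cons (f174 C H) <| .cons (f175 C H) <| .cons (f176 C H) <|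
  .cons (f177 C H) <| .cons (f178 C H) <| .cons (f179 C H) <| .cons (f180 C H) <| .cons (f181 C H) <| .cons (f182 C H) <|
  .cons (f183 C H) <| .cons (f184 C H) <| .cons (f185 C H) <| .cons (f186 C H) <| .cons (f187 C H) <| .cons (f188 C H) <|
  .cons (f189 C H) <| .cons (f190 C H) <| .cons (f191 C H) <| .cons (f192 C H) <| .cons (f193 C H) <| .cons (f194 C H) <|
  .cons (f195 C H) <| .cons (f196 C H) <| .cons (f197 C H) <| .cons (f198 C H) <| .cons (f199 C H) <| .cons (f200 C H) <|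
  .cons (f201 C H) <| .cons (f202 C H) <| .cons (f203 C H) <| .cons (f204 C H) <| .cons (f205 C H) <| .cons (f206 C H) <|
  .cons (f207 C H) <| .cons (f208 C H) <| .cons (f209 C H) <| .cons (f210 C H) <| .cons (f211 C H) <| .cons (f212 C H) <|
  .cons (f213 C H) <| .cons (f214 C H) <| .cons (f215 C H) <| .cons (f216 C H) <| .cons (f217 C H) <| .cons (f218 C H) <|
  .cons (f219 C H) <| .cons (f220 C H) <| .cons (f221 C H) <| .cons (f222 C H) <| .cons (f223 C H) <| .cons (f224 C H) <|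
  .cons (f225 C H) <| .cons (f226 C H) <| .cons (f227 C H) <| .cons (f228 C H) <| .cons (f229 C H) <| .cons (f230 C H) <|
  .cons (f231 C H) <| .cons (f234 C H) <| .cons (f235 C H) <| .cons (f236 C H) <| .cons (f237 C H) <| .cons (f238 C H) <|
  .cons (f239 C H) <| .cons (f240 C H) <| .cons (f241 C H) <| .cons (f242 C H) <| .cons (f243 C H) <| .cons (f244 C H) <|
  .cons (f245 C H) <| .cons (f246 C H) <| .cons (f247 C H) <| .cons (f248 C H) <| .cons (f249 C H) <| .cons (f250 C H) <|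
  .cons (f251 C H) <| .cons (f252 C H) <| .cons (f253 C H) <| .cons (f254 C H) <| .cons (f255 C H) <| .cons (f256 C H) <|
  .cons (f257 C H) <| .cons (f258 C H) <| .cons (f259 C H) <| .cons (f260 C H) <| .cons (f261 C H) <| .cons (f262 C H) <|
  .cons (f263 C H) <| .cons (f264 C H) <| .cons (f265 C H) <| .cons (f266 C H) <| .cons (f267 C H) <| .cons (f268 C H) <|
  .cons (f269 C H) <| .cons (f270 C H) <| .cons (f271 C H) <| .cons (f272 C H) <| .cons (f273 C H) <| .cons (f274 C H) <|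
  .cons (f275 C H) <| .cons (f276 C H) <| .cons (f277 C H) <| .cons (f278 C H) <| .cons (f279 C H) <| .cons (f280 C H) <|
  .cons (f281 C H) <| .cons (f282 C H) <| .cons (f283 C H) <| .cons (f284 C H) <| .cons (f285 C H) <| .cons (f286 C H) <|
  .cons (f287 C H) <| .cons (f288 C H) <| .cons (f289 C H) <| .cons (f290 C H) <| .cons (f291 C H) <| .cons (f292 C H) <|
  .cons (f293 C H) <| .cons (f294 C H) <| .cons (f295 C H) <| .cons (f296 C H) <| .cons (f297 C H) <| .cons (f298 C H) <|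
  .cons (f299 C H) <| .cons (f300 C H) <| .cons (f301 C H) <| .cons (f302 C H) <| .cons (f303 C H) <| .cons (f304 C H) <|
  .cons (f305 C H) <| .cons (f306 C H) <| .cons (f307 C H) <| .cons (f308 C H) <| .cons (f309 C H) <| .cons (f310 C H) <|
  .cons (f311 C H) <| .cons (f312 C H) <| .cons (f313 C H) <| .cons (f314 C H) <| .cons (f315 C H) <| .cons (f316 C H) <|
  .cons (f317 C H) <| .cons (f318 C H) <| .cons (f319 C H) <| .cons (f320 C H) <| .cons (f321 C H) <| .cons (f322 C H) <|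
  .cons (f323 C H) <| .cons (f324 C H) <| .cons (f325 C H) <| .cons (f326 C H) <| .cons (f327 C H) <| .cons (f328 C H) <|
  .cons (f329 C H) <| .cons (f330 C H) <| .cons (f331 C H) <| .cons (f332 C H) <| .cons (f333 C H) <| .cons (f334 C H) <|
  .cons (f335 C H) <| .cons (f336 C H) <| .cons (f337 C H) <| .cons (f338 C H) <| .cons (f339 C H) <| .cons (f340 C H) <|
  .cons (f341 C H) <| .cons (f342 C H) <| .cons (f343 C H) <| .cons (f344 C H) <| .cons (f345 C H) <| .cons (f346 C H) <|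
  .cons (f347 C H) <| .cons (f348 C H) <| .cons (f349 C H) <| .cons (f350 C H) <| .cons (f351 C H) <| .cons (f352 C H) <|
  .cons (f353 C H) <| .cons (f354 C H) <| .cons (f355 C H) <| .cons (f356 C H) <| .cons (f357 C H) <| .cons (f358 C H) <|
  .cons (f359 C H) <| .cons (f360 C H) <| .cons (f361 C H) <| .cons (f362 C H) <| .cons (f363 C H) <| .cons (f364 C H) <|
  .cons (f365 C H) <| .cons (f366 C H) <| .cons (f367 C H) <| .cons (f368 C H) <| .cons (f369 C H) <| .cons (f370 C H) <|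
  .cons (f371 C H) <| .cons (f372 C H) <| .cons (f373 C H) <| .cons (f374 C H) <| .cons (f375 C H) <| .cons (f376 C H) <|
  .cons (f377 C H) <| .cons (f378 C H) <| .cons (f379 C H) <| .cons (f380 C H) <| .cons (f381 C H) <| .cons (f382 C H) <|
  .cons (f383 C H) <| .cons (f384 C H) <| .cons (f385 C H) <| .cons (f386 C H) <| .cons (f387 C H) <| .cons (f388 C H) <|
  .cons (f389 C H) <| .cons (f390 C H) <| .cons (f391 C H) <| .cons (f392 C H) <| .cons (f393 C H) <| .cons (f394 C H) <|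
  .cons (f395 C H) <| .cons (f396 C H) <| .cons (f397 C H) <| .cons (f398 C H) <| .cons (f399 C H) <| .cons (f400 C H) <|
  .cons (f401 C H) <| .cons (f402 C H) <| .cons (f403 C H) <| .cons (f404 C H) <| .cons (f405 C H) <| .cons (f406 C H) <|
  .cons (f407 C H) <| .cons (f408 C H) <| .cons (f409 C H) <| .cons (f410 C H) <| .cons (f411 C H) <| .cons (f412 C H) <|
  .cons (f413 C H) <| .cons (f414 C H) <| .cons (f415 C H) <| .nil

end Cfsg.Lib.Mon.CM
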