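import Cfsg.Agent.Mon.MOdd
import Cfsg.Agent.SporChar.MonsterFi
import Cfsg.Agent.Spor.Fi24Order
import Cfsg.Agent.S1715
import Cfsg.Agent.S2081

/-! Groups of Monster type contain the normaliser `3.Fi24`. -/

set_option autoImplicit false

namespace Cfsg.Lib.Mon

open Subgroup Cfsg.Lib.Spor Cfsg.Lib.Local Cfsg.Lib.SporChar Cfsg.Lib.SporChar.Fx
open scoped commutatorElement

variable {G S : Type*} [Group G] [Group S]

theorem nonempty_aut_two [Finite G] {N : Subgroup G} (hN : N.index = 2) (e : N ≃* S)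
    (hS : Nat.card (Out S) = 2) (hc : ∀ g : G, (∀ n ∈ N, g * n = n * g) → g = 1) :
    Nonempty (G ≃* MulAut S) := by
  have := normal_of_index_eq_two hN
  have : Finite S := Finite.of_equiv _ e.toEquiv
  let φ : G →* MulAut S := (MulAut.congr e).toMonoidHom.comp MulAut.conjNormal
  have h1 : Function.Injective φ := (MulAut.congr e).injective.comp
    ((injective_iff_map_eq_one _).mpr fun g hg => hc g fun n hn => mul_inv_eq_iff_eq_mul.mp
      (by simpa using congrArg Subtype.val (DFunLike.congr_fun hg ⟨n, hn⟩)))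
  refine ⟨MulEquiv.ofBijective φ (h1.bijective_of_nat_card_le ?_)⟩
  rw [card_eq_card_quotient_mul_card_subgroup (Inn S), hS, ← N.index_mul_card, hN,
    Nat.card_congr e.toEquiv]
  exact Nat.mul_le_mul_left 2 (Nat.card_le_card_of_surjective _
    (MonoidHom.rangeRestrict_surjective _))

theorem comm_cen_mul {y y' : G} (h : y ∈ center G) (h' : y' ∈ center G) (a c : G) :
    ⁅y * a, y' * c⁆ = ⁅a, c⁆ :=
  calc _ = y * (a * y' * c * a⁻¹) * y⁻¹ * c⁻¹ * y'⁻¹ := by rw [commutatorElement_def]; group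
    _ = y' * ⁅a, c⁆ * y'⁻¹ := by
      rw [← mem_center_iff.1 h, mul_inv_cancel_right, mem_center_iff.1 h', commutatorElement_def]; group
    _ = _ := by rw [← mem_center_iff.1 h', mul_inv_cancel_right]

theorem center_Fi24' : center Spor.Fi24' = ⊥ := by
  have := Fi24P.simple
  refine (center _).normal_of_characteristic.eq_bot_or_eq_top.resolve_right fun e => ?_
  have h := commutator_eq_top_of_card (L := Spor.Fi24') (by rw [Fi24P.card_commutator]; norm_num)
  exact absurd ((commutator_eq_bot_iff_le_centralizer.2 (by rwa [coe_top,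
    centralizer_univ, top_le_iff])).symm.trans h) bot_ne_top

theorem aut_Fi24 : Nonempty (Spor.Fi24 ≃* MulAut Spor.Fi24') := by
  have : Finite Spor.Fi24 := Nat.finite_of_card_ne_zero (by rw [Fi24P.card]; norm_num)
  refine nonempty_aut_two Fi24P.index_commutator (MulEquiv.refl _) Agent.S2081.result fun g hg => ?_
  by_contra h
  have k := Fi24P.commutator_le (centralizer (commutator Spor.Fi24 : Set Spor.Fi24))
    fun e => h (e.le fun n hn => (hg n hn).symm)
  have := Fi24P.simple
  obtain ⟨x, hx⟩ := exists_ne (1 : Spor.Fi24')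
  exact hx (center_Fi24'.le (mem_center_iff.2 fun y => Subtype.ext (k x.2 y y.2)))

/-- `3.Fi24`. -/
theorem exists_3Fi24 [Finite G] (h : IsGroupOfMonsterType G) : ∃ X N : Subgroup G, Nat.card X = 3 ∧
    N = normalizer (X : Set G) ∧ (∃ _ : (X.subgroupOf N).Normal,
      Nonempty (N ⧸ X.subgroupOf N ≃* Spor.Fi24)) ∧ ∀ L, ¬ (X.subgroupOf N).IsComplement' L := by
  obtain ⟨z, s, Q, R, π, r, h, hp, hr⟩ := exists_pair h
  obtain ⟨b, hb, ho, hπ⟩ := exists_lift_perm h hr (σ := s3A) Nat.prime_three (by decide)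
    MP.orderOf_r3A
  have hC := centralizer_zpowers_eq_sing b
  have hz := hC.ge (mem_cent_symm (mem_cent_pair.1 hb).1)
  have hs' := hC.ge (mem_cent_symm (mem_cent_pair.1 hb).2)
  have hbb : b ∈ centralizer (zpowers b : Set G) := le_centralizer _ (mem_zpowers b)
  have hY := h.le_commutator_three ho hπ (x := ⟨b, hbb⟩) (mem_zpowers b)
  have cen : ∀ {y : G} (hy : y ∈ zpowers b), (⟨y, le_centralizer _ hy⟩ :
      centralizer (zpowers b : Set G)) ∈ center _ := fun hy =>
    mem_center_iff.2 fun x => Subtype.ext (x.2 _ hy).symm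
  obtain ⟨g, hg⟩ := exists_conj_sq3A
  obtain ⟨n, hn2⟩ := h.exists_conj_pow (ho ▸ by decide) hπ hg
  let ι := inclusion (centralizer_le_normalizer (zpowers b : Set G))
  refine ⟨_, _, by rw [Nat.card_zpowers, ho], rfl, ⟨inferInstance, ?_⟩, fun L hL => ?_⟩
  · set ρ := QuotientGroup.mk' ((zpowers b).subgroupOf (normalizer (zpowers b : Set G)))
    set C := (centralizer (zpowers b : Set G)).subgroupOf (normalizer (zpowers b : Set G))
    have hi : (C.map ρ).index = 2 := by
      rw [index_map_eq C (QuotientGroup.mk'_surjective _) fun x hx =>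
        le_centralizer (zpowers b) ((QuotientGroup.eq_one_iff x).1 hx), index_cent_three ho hn2]
    let f : centralizer (zpowers b : Set G) →* C.map ρ :=
      (ρ.comp ι).codRestrict _ fun x => ⟨_, x.2, rfl⟩
    have hf : Function.Surjective f := by
      rintro ⟨_, x, hx, rfl⟩
      exact ⟨⟨x, hx⟩, rfl⟩
    have hk : f.ker = (zpowers b).subgroupOf _ := by
      ext x
      exact Subtype.ext_iff.trans (QuotientGroup.eq_one_iff _)
    obtain ⟨-, _, ⟨a2, a3, a4, a5, a6⟩, N, M, _, _, a7, a8, a9, ⟨K, _, _, hK, ⟨e⟩⟩, a10⟩ :=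
      h.largeFischer hp ho rfl hπ hs' hf hk hz
    obtain ⟨i⟩ := Agent.S1715.result _ a2 _ N M a3 a4 a5 a7 a8 a9 K hK e a10 a6
    obtain ⟨j⟩ := aut_Fi24
    refine (nonempty_aut_two hi i Agent.S2081.result fun m hm => ?_).map (·.trans j.symm)
    obtain ⟨m, rfl⟩ := QuotientGroup.mk'_surjective _ m
    change ∀ n ∈ C.map ρ, ρ m * n = n * ρ m at hm
    have k : commutator (centralizer (zpowers b : Set G)) ≤ (centralizer {m}).comap ι := by
      refine commutator_le.2 fun a _ c _ => mem_centralizer_singleton_iff.2 ?_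
      have k : ∀ a : centralizer (zpowers b : Set G), m * ι a * m⁻¹ * (ι a)⁻¹ ∈
          (zpowers b).subgroupOf _ := fun a => (QuotientGroup.eq_one_iff _).1 (by
        change ρ _ = 1
        rw [map_mul, map_mul, map_mul, hm _ ⟨_, a.2, rfl⟩, map_inv, map_inv]; group)
      have : ⁅m * ι a * m⁻¹ * (ι a)⁻¹ * ι a, m * ι c * m⁻¹ * (ι c)⁻¹ * ι c⁆ = ι ⁅a, c⁆ :=
        congrArg ι (comm_cen_mul (cen (k a)) (cen (k c)) a c)
      rw [eq_comm, ← mul_inv_eq_iff_eq_mul]
      refine Eq.trans ?_ this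
      simp only [commutatorElement_def, map_mul, map_inv]; group
    have hm' : ρ m ∈ C.map ρ := ⟨m, hC.ge (mem_centralizer_singleton_iff.2
      (congrArg Subtype.val (mem_centralizer_singleton_iff.1 (k hY))).symm), rfl⟩
    exact congrArg Subtype.val (i.map_eq_one_iff.1 (center_Fi24'.le (mem_center_iff.2 fun y => by
      obtain ⟨y, rfl⟩ := i.surjective y
      rw [← map_mul, ← map_mul]
      exact congrArg i (Subtype.ext (hm y y.2).symm)) : i ⟨_, hm'⟩ = 1))
  · have k : commutator (centralizer (zpowers b : Set G)) ≤ L.comap ι := by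
      refine commutator_le.2 fun a _ c _ => ?_
      have k : ∀ a : centralizer (zpowers b : Set G), ∃ y ∈ center _, y * a ∈ L.comap ι := fun a => by
        obtain ⟨⟨y, l⟩, e⟩ := hL.2 (ι a)
        refine ⟨_, cen (inv_mem y.2), ?_⟩
        change (y : normalizer (zpowers b : Set G))⁻¹ * ι a ∈ L
        rw [← e]; simp
      obtain ⟨y, hy, h1⟩ := k a
      obtain ⟨y', hy', h2⟩ := k c
      rw [← comm_cen_mul hy hy']
      exact mul_mem (mul_mem (mul_mem h1 h2) (inv_mem h1)) (inv_mem h2)
    have := congrArg Subtype.val (hL.disjoint.eq_bot.le ⟨mem_zpowers b, k hY⟩ : ι ⟨b, hbb⟩ = 1)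
    rw [show b = 1 from this, orderOf_one] at ho
    exact absurd ho (by decide)

end Cfsg.Lib.Mon
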