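import Cfsg.Agent.Mon.HStruct
import Cfsg.Agent.SporChar.Fix3B
import Cfsg.Agent.SporChar.MonsterHe
import Cfsg.Agent.Solv.Schur
import Cfsg.Agent.Solv.Cores
import Cfsg.Agent.Trans.GenFitting
import Cfsg.Agent.S1695
import Cfsg.Agent.S2049
import Cfsg.Agent.S2057
import Cfsg.Agent.S2083
import Cfsg.Agent.S3227

/-! Groups of Monster type contain `S3 × Th` and `7 × He`. -/

set_option autoImplicit false

namespace Cfsg.Lib.Mon

open Subgroup Cfsg.Lib.Spor Cfsg.Lib.Local Cfsg.Lib.SporChar Cfsg.Lib.SporChar.Fx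

variable {G : Type*} [Group G]

theorem exists_split {T : Type*} [Group T] [IsSimpleGroup T] (hT : HasCyclicSchurMultiplier T 1)
    (hn : ¬ (Nat.card T).Prime) {C : Subgroup G} {f : C →* T} (hf : Function.Surjective f)
    (hk : f.ker ≤ center C) : Nonempty (↥⁅C, C⁆ ≃* T) ∧
      ∀ c : C, (c : G) ∈ centralizer ((⁅C, C⁆ : Subgroup G) : Set G) → f c = 1 := by
  have hp := commutator_eq_top_of_card hn
  have h1 : (commutator C).map f = ⊤ := by
    rw [commutator_def, map_commutator, map_top_of_surjective _ hf, ← commutator_def, hp]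
  refine ⟨⟨(MulEquiv.subgroupCongr (map_subtype_commutator C).symm).trans
    (((commutator C).equivMapOfInjective _ C.subtype_injective).symm.trans
      (MulEquiv.ofBijective (f.comp (commutator C).subtype) ⟨?_, fun t => ?_⟩))⟩, fun c hc => ?_⟩
  · exact (injective_iff_map_eq_one _).2 fun x hx => Subtype.ext (mem_bot.1
      ((Solv.ker_inf_commutator_eq_bot_of_trivial hT f hf hk).le ⟨hx, x.2⟩))
  · obtain ⟨x, x1, x2⟩ := h1.ge (mem_top t)
    exact ⟨⟨x, x1⟩, x2⟩
  · rcases (center T).normal_of_characteristic.eq_bot_or_eq_top with e | e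
    · refine e.le (mem_center_iff.2 fun t => ?_)
      obtain ⟨x, x1, rfl⟩ := h1.ge (mem_top t)
      rw [← map_mul, ← map_mul]
      exact congrArg f (Subtype.ext (hc _ ((map_subtype_commutator C).le ⟨x, x1, rfl⟩)))
    · rw [commutator_def, commutator_eq_bot_iff_le_centralizer.2 (by rwa [coe_top,
        centralizer_univ, top_le_iff])] at hp
      exact absurd hp bot_ne_top

variable [Finite G]

theorem isoTh_of_type (h : IsOfThompsonType G) :
    Nat.card G = 90745943887872000 ∧ Spor.IsoTh G := by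
  obtain ⟨z, Q, _, ⟨h1, h2, h3, h4, g, ⟨g1, -⟩, g2⟩, ⟨e⟩⟩ := h
  obtain rfl : pCore 2 _ = Q := le_antisymm (h2 ▸ Trans.pCore_le_genFitting _ _)
    (le_sSup ⟨‹_›, IsPGroup.of_card h4⟩)
  refine (fun k => ⟨k.2.1, k.2.2.2⟩) (Agent.S3227.result z h1 (fun e => g2 ?_) h3 h4
    (h2 ▸ Trans.centralizer_genFitting_le _) e)
  obtain ⟨o, o1, c, c1, rfl⟩ := (mem_sup_of_normal_left (s := oddCore G)).1
    (((sup_comm _ _).trans e).ge (mem_top g))
  have hz : z * z = 1 := by rw [← sq, ← h1, pow_orderOf_eq_one]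
  have k : o * c * z * (o * c)⁻¹ * z⁻¹ ∈ oddCore G := by
    rw [mul_assoc o, mem_centralizer_singleton_iff.1 c1]
    convert mul_mem o1 ((inferInstance : (oddCore G).Normal).conj_mem _ (inv_mem o1) z) using 1
    group
  rw [← mul_inv_eq_one, ← orderOf_eq_one_iff]
  refine Nat.eq_one_of_dvd_coprimes (Nat.coprime_two_right.2 (Solv.odd_card_oddCore G))
    (orderOf_dvd_natCard _ k) (orderOf_dvd_of_pow_eq_one ?_)
  rw [inv_eq_of_mul_eq_one_right hz, Commute.mul_pow (mem_centralizer_singleton_iff.1 g1), conj_pow,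
    sq, hz, mul_one, mul_one, mul_inv_cancel]

omit [Finite G] in
theorem exists_lift_perm {z s : G} {Q : Subgroup G} {π : centralizer ({z} : Set G) →* Spor.Co1}
    {r : leechLattice → G → Prop} (h : MonData z Q π r) (hr : r (e8 none) s) {σ : M24} {p : ℕ}
    (hp : p.Prime) (h2 : p ≠ 2) (ho : orderOf (σ : Equiv.Perm GolayPt) = p) :
    ∃ (b : G) (hb : b ∈ centralizer ({z, s} : Set G)), orderOf b = p ∧
      π ⟨b, (mem_cent_pair.1 hb).1⟩ = pCo (permHom σ) := by
  have := Fact.mk hp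
  obtain ⟨c, hc, e⟩ := (h.map_centralizer hr (h.not_mem hr (by rw [sqNorm_e8]; norm_num)
    (sqNorm_e8 _).le)).ge ⟨_, permHom_mem σ _, rfl⟩
  obtain ⟨θ, -, -, a⟩ := h.exists_theta hr
  rw [orderOf_coe] at ho
  obtain ⟨k, hk⟩ := h.pre.isPGroup ⟨_, (h.ker (c ^ p)).1 (by
    rw [map_pow, e, ← map_pow, ← map_pow, ← ho, pow_orderOf_eq_one, map_one, map_one])⟩
  have e1 : π (c ^ (2 ^ (k + 1)) ^ (p - 1)) = pCo (permHom σ) := by
    rw [map_pow, e, ← map_pow, ← map_pow, ← Nat.totient_prime hp, (pow_eq_pow_iff_modEq (m := 1)).2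
      (ho.symm ▸ (Nat.ModEq.pow_totient (((Nat.coprime_primes Nat.prime_two hp).2
        h2.symm).pow_left _) : _ ≡ 1 [MOD p])), pow_one]
  have hb := mem_cent_pair.2 ⟨(c ^ (2 ^ (k + 1)) ^ (p - 1)).2, pow_mem hc _⟩
  refine ⟨_, hb, orderOf_eq_prime ?_ fun e2 => ?_, e1⟩
  · obtain ⟨m, hm⟩ : 2 ^ k ∣ (2 ^ (k + 1)) ^ (p - 1) :=
      (pow_dvd_pow 2 k.le_succ).trans (dvd_pow_self _ (by have := hp.two_le; omega))
    rw [hm, coe_pow, ← pow_mul, mul_comm, ← mul_assoc, pow_mul, pow_mul,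
      show ((c : G) ^ p) ^ 2 ^ k = 1 from congrArg Subtype.val hk, one_pow]
  · rw [← a ⟨_, hb⟩ σ e1, show (⟨_, hb⟩ : centralizer _) = 1 from Subtype.ext e2, map_one,
      orderOf_one] at ho
    exact hp.one_lt.ne ho

theorem exists_pair (h : IsGroupOfMonsterType G) : ∃ (z s : G) (Q R : Subgroup G) (π : _) (r : _),
    MonData z Q π r ∧ LXPair Q R z s ∧ r (e8 none) s := by
  obtain ⟨z, Q, _, hM⟩ := h
  obtain ⟨g, g1, g2⟩ := hM.1.2.2.2.2
  obtain ⟨Q', π, r, R, k⟩ := exists_monPair hM g1 (isConj_iff.2 ⟨g, rfl⟩) g2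
  exact ⟨z, _, Q', R, π, r, k⟩

omit [Finite G] in
theorem normal_zpowers (b : G) :
    ((zpowers b).subgroupOf (centralizer (zpowers b : Set G))).Normal :=
  normal_of_le_center' fun x hx => mem_center_iff.2 fun y => Subtype.ext (y.2 x hx).symm

theorem exists_inv3B : ∃ g : Co0, g * permHom s3B * g⁻¹ = permHom s3B ^ 2 := by
  have h : orderOf (s3B : Equiv.Perm GolayPt) = 3 := MP.orderOf_r3B
  obtain ⟨k, hk, e | e⟩ := MP.M24_order_three (s3B ^ 2).2 (by
    rw [coe_pow, Nat.Coprime.orderOf_pow (by rw [h]; decide), h])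
  · obtain ⟨p, hp⟩ := Finset.card_ne_zero.1 (MP.card_fixed_r3A.trans_ne (by decide))
    have e1 : ((s3B : Equiv.Perm GolayPt) ^ 2) (k p) = k p := by
      rw [← coe_pow, ← e]; simp [(Finset.mem_filter.1 hp).2]
    refine absurd (Finset.mem_filter.2 ⟨Finset.mem_univ (k p), ?_⟩)
      (Finset.card_eq_zero.1 MP.card_fixed_r3B ▸ Finset.notMem_empty _)
    have e2 : (s3B : Equiv.Perm GolayPt) ^ 2 * s3B ^ 2 = s3B := by
      rw [← pow_add, pow_succ, show 2 + 1 = 3 from rfl, ← h, pow_orderOf_eq_one, one_mul]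
    exact (congrArg (· (k p)) e2).symm.trans (by rw [Equiv.Perm.mul_apply, e1, e1])
  · exact ⟨permHom ⟨k, hk⟩, by
      rw [← map_pow, ← map_inv, ← map_mul, ← map_mul]; exact congrArg _ (Subtype.ext e)⟩

/-- `S3 × Th`. -/
theorem exists_Th (h : IsGroupOfMonsterType G) : ∃ x : G, orderOf x = 3 ∧
    Nat.card (centralizer ({x} : Set G)) = 272237831663616000 ∧ ∃ K ≤ centralizer {x},
      Spor.IsoTh K ∧ ∃ u : G, orderOf u = 2 ∧ K ≤ centralizer {u} := by
  obtain ⟨z, s, Q, R, π, r, h, hp, hr⟩ := exists_pair h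
  obtain ⟨b, hb, ho, hπ⟩ := exists_lift_perm h hr (σ := s3B) Nat.prime_three (by decide)
    MP.orderOf_r3B
  obtain ⟨φ, D⟩ := cent3B
  have := normal_zpowers b
  obtain ⟨z', Q', hQ, a1, ⟨ν, a2, a3⟩, -⟩ :=
    h.descent_quot hp (zpowers_le_of_mem hb) rfl ho hπ D basis3B (w := 4) rfl
  obtain ⟨c, ⟨e⟩⟩ := isoTh_of_type ⟨z', Q', hQ, a1, ⟨QuotientGroup.liftEquiv Q' a2 a3⟩⟩
  have := Agent.S1700.result.1
  have hk : (e.toMonoidHom.comp (QuotientGroup.mk' _)).ker = (zpowers b).subgroupOf _ := by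
    ext; simp
  obtain ⟨⟨f⟩, k⟩ := exists_split Agent.S2057.result
    (by rw [Agent.S1700.result.2]; norm_num) (e.surjective.comp (QuotientGroup.mk'_surjective _))
    (hk.le.trans fun x hx => mem_center_iff.2 fun y => Subtype.ext (y.2 x hx).symm)
  have hC := centralizer_zpowers_eq_sing b
  have hle := (commutator_le_self _).trans hC.le
  refine ⟨b, ho, ?_, _, hle, ⟨f⟩, ?_⟩
  · rw [← hC, card_eq_card_quotient_mul_card_subgroup ((zpowers b).subgroupOf _), c,
      Nat.card_congr (subgroupOfEquivOfLe (le_centralizer _)).toEquiv, Nat.card_zpowers, ho]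
  obtain ⟨g, hg⟩ := exists_inv3B
  obtain ⟨n, hn⟩ := h.exists_conj_pow (ho ▸ by decide) hπ hg
  have b3 : b ^ 3 = 1 := by rw [← ho, pow_orderOf_eq_one]
  have hN : n ∈ normalizer (zpowers b : Set G) :=
    MP.mem_normalizer_zpowers_iff.2 (hn ▸ npow_mem_zpowers b 2)
  have hK : n ∈ normalizer ((⁅centralizer (zpowers b : Set G), centralizer (zpowers b : Set G)⁆ :
      Subgroup G) : Set G) := by
    have : n ∈ normalizer (centralizer (zpowers b : Set G) : Set G) :=
      mem_normalizer_fintype fun c hc x hx => by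
        have := hc _ ((mem_normalizer_iff.1 (inv_mem hN) x).1 hx)
        rw [← mul_left_inj n, ← mul_right_inj n⁻¹]
        simpa [mul_assoc] using this
    rw [mem_normalizer_iff_map_conj_eq] at this ⊢
    rw [map_commutator, this]
  obtain ⟨q, hq⟩ := (index_eq_one.1 Agent.S2083.result).ge
    (mem_top (MulAut.congr f (normalizerMonoidHom _ ⟨n, hK⟩)))
  obtain ⟨q, rfl⟩ := f.surjective q
  have hu : ∀ y ∈ ⁅centralizer (zpowers b : Set G), centralizer (zpowers b : Set G)⁆,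
      y * ((q : G)⁻¹ * n) = (q : G)⁻¹ * n * y := fun y hy => by
    have := DFunLike.congr_fun hq (f ⟨y, hy⟩)
    rw [MulAut.conj_apply, ← map_inv, ← map_mul, ← map_mul, MulAut.congr_apply,
      MulEquiv.trans_apply, MulEquiv.trans_apply, f.symm_apply_apply, f.apply_eq_iff_eq] at this
    have e : (q : G) * y * (q : G)⁻¹ = n * y * n⁻¹ := congrArg Subtype.val this
    rw [mul_assoc, eq_inv_mul_iff_mul_eq, ← inv_mul_cancel_right (n * y) n, ← e]
    group
  have e1 : (q : G)⁻¹ * n * b * ((q : G)⁻¹ * n)⁻¹ = b ^ 2 := by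
    rw [← mul_inv_cancel_right (b ^ 2) (q : G)⁻¹, ← (Commute.pow_right
      (mem_centralizer_singleton_iff.1 (hle (inv_mem q.2))) 2).eq, ← hn]
    group
  generalize (q : G)⁻¹ * n = u at hu e1
  have e2 : u * u ∈ centralizer (zpowers b : Set G) := hC.ge (mem_centralizer_singleton_iff.2 (by
    rw [← mul_inv_eq_iff_eq_mul, show u * u * b * (u * u)⁻¹ = u * (u * b * u⁻¹) * u⁻¹ by group, e1,
      ← conj_pow, e1, ← pow_mul, pow_succ, b3, one_mul]))
  obtain ⟨j, hj⟩ : u * u ∈ Submonoid.powers b := mem_powers_iff_mem_zpowers.2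
    (hk.le (k ⟨_, e2⟩ (mul_mem hu hu)))
  refine ⟨u, orderOf_eq_prime ?_ fun e => ?_, fun y hy => mem_centralizer_singleton_iff.2 (hu y hy)⟩
  · have e3 : (b ^ j) ^ 2 = b ^ j := by
      rw [← pow_mul, mul_comm, pow_mul, ← e1, conj_pow, show b ^ j = u * u from hj]
      group
    rw [sq, ← (mul_eq_left.1 ((sq _).symm.trans e3))]
    exact hj.symm
  · rw [e, one_mul, inv_one, mul_one, sq, left_eq_mul] at e1
    rw [e1, orderOf_one] at ho
    exact absurd ho (by decide)

/-- `7 × He`. -/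
theorem exists_He (h : IsGroupOfMonsterType G) : ∃ x : G, orderOf x = 7 ∧
    ∃ K ≤ centralizer {x}, Spor.IsoHe K := by
  obtain ⟨z, s, Q, R, π, r, h, hp, hr⟩ := exists_pair h
  obtain ⟨b, hb, ho, -⟩ := exists_lift_perm h hr (σ := s7A) Nat.prime_seven (by decide)
    MP.orderOf_r7A
  have := normal_zpowers b
  obtain ⟨z', E, h1, h2⟩ := h.exists_emb_seven hp hr hb ho rfl (QuotientGroup.mk'_surjective _)
    (QuotientGroup.ker_mk' _)
  obtain ⟨e⟩ := E.isoHe h1 h2
  have := Agent.S1695.result.1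
  have hk : (e.toMonoidHom.comp (QuotientGroup.mk' _)).ker = (zpowers b).subgroupOf _ := by
    ext; simp
  exact ⟨b, ho, _, (commutator_le_self _).trans (centralizer_zpowers_eq_sing b).le,
    (exists_split Agent.S2049.result (by rw [Agent.S1695.result.2]; norm_num)
    (e.surjective.comp (QuotientGroup.mk'_surjective _))
    (hk.le.trans fun x hx => mem_center_iff.2 fun y => Subtype.ext (y.2 x hx).symm)).1⟩

end Cfsg.Lib.Mon
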