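import Cfsg.Agent.Mon.P2Fin
import Cfsg.Agent.Mon.SBCls
import Cfsg.Agent.Mon.VLab

/-! The Monster programme: a square root of `t` is a product of two involutions of class 2A. -/

set_option autoImplicit false

namespace Cfsg.Lib.Mon.Sq

open Cfsg Subgroup Cfsg.Lib.Spor Cfsg.Lib.Spor.CK Cfsg.Lib.Spor.Bulk Cfsg.Lib.SporChar Kit UQ
open scoped Pointwise

theorem sh_congr {p q : ℕ} (h : p % 2 ^ 24 = q % 2 ^ 24) (hp : IsSh p) : IsSh q := by
  unfold IsSh at *; rwa [← h]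

theorem sh_φ {p : ℕ} (h : IsSh p) (g : GH) : IsSh (φ g p) :=
  let ⟨x, hx, e⟩ := h
  ⟨pr g • x, (nm_smul _ _).trans hx, φ_pr g e⟩

/-- The test for shortness. -/
def shC (p : ℕ) : Bool :=
  (dec (p % 2 ^ 24)).ok && Nat.beq ((dec (p % 2 ^ 24)).code % 2 ^ 24) (p % 2 ^ 24)

theorem shC_iff {p : ℕ} : shC p = true ↔ IsSh p := by
  rw [shC, Bool.and_eq_true, Nat.beq_eq]
  exact ⟨fun h => sh_congr h.2 (Lb.isSh h.1), IsSh.dec_spec⟩

theorem φ_inv_mod (g : GH) (p : ℕ) : φ g⁻¹ (φ g p) % 2 ^ 24 = p % 2 ^ 24 := by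
  rw [φ_congr_mod _ (φ_congr_mod g (Nat.mod_mod p _).symm),
    φ_inv_φ _ ((Nat.mod_lt _ (by norm_num)).trans (by norm_num)), Nat.mod_mod]

theorem lin_ind {P : ℕ → Prop} (hc : ∀ p, P (p % 2 ^ 24) → P p) (h0 : P 0)
    (hs : ∀ k < 24, ∀ p, P p → P (p ^^^ 2 ^ k)) (p : ℕ) : P p :=
  hc p (bit_induction h0 (fun k hk x hx h => xor_pow_eq_add hx ▸ hs k hk x h) _
    (Nat.mod_lt _ (by norm_num)))

/-! ### The octad type -/

/-- The coset of `p` modulo the commutators with `y` contains a short class. -/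
def TT (p : ℕ) : Prop := ∃ q, IsSh (p ^^^ q ^^^ φ (el rYb) q)

/-- All solutions of `p + y p = r` are good. -/
def SS (r : ℕ) : Prop := ∀ p, (p ^^^ φ (el rYb) p) % 2 ^ 24 = r % 2 ^ 24 → TT p

/-- The tableaux of three elements commuting with `y` modulo `Q`. -/
def tH (i : ℕ) : ℕ := cond (Nat.beq i 1) tD (tG i)

theorem chkH : allR (fun i => allR (fun k => Nat.beq (tmul 1 (tH i) (tk tY k) % 2 ^ 24)
    (tmul 1 tY (tk (tH i) k) % 2 ^ 24)) 0 24) 0 4 = true := by decide +kernel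

theorem SS.step {i r : ℕ} (h0 : i ≠ 0) (hi : i < 4) (H : SS (tmul 1 (tH i) r)) : SS r := fun p e => by
  obtain ⟨h, hF⟩ : ∃ h : GH, ∀ k < 24, φ h (2 ^ k) = tk (tH i) k := by
    by_cases h1 : i = 1
    · subst h1
      exact ⟨_, tb_of (R_nD.Pmul' 0x2000) (band_left (band_left chkD.1))⟩
    · obtain ⟨h, hF, -⟩ := exists_gen h0 hi
      refine ⟨h, ?_⟩
      rwa [tH, show Nat.beq i 1 = false from Bool.eq_false_iff.2 fun a => h1 (Nat.eq_of_beq_eq_true a)]
  have c : ∀ p, φ h (φ (el rYb) p) % 2 ^ 24 = φ (el rYb) (φ h p) % 2 ^ 24 :=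
    lin_ind (fun p e => (φ_congr_mod _ (φ_congr_mod _ (Nat.mod_mod p _))).symm.trans
      (e.trans (φ_congr_mod _ (φ_congr_mod _ (Nat.mod_mod p _))))) (by simp only [φ_zero])
      fun k hk p e => by
        have a := Nat.eq_of_beq_eq_true (allR_zero_iff.1 (allR_zero_iff.1 chkH i hi) k hk)
        rw [tmul_one hF, tmul_one tb_Y, ← hF k hk, ← tb_Y k hk] at a
        rw [φ_congr_mod h ((φ_xor_mod _ _ _).trans Nat.xor_mod_two_pow.symm), φ_xor_mod, e, a,
          φ_congr_mod _ ((φ_xor_mod h _ _).trans Nat.xor_mod_two_pow.symm), φ_xor_mod]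
  rw [tmul_one hF] at H
  obtain ⟨q, hq⟩ := H (φ h p) (by
    rw [← φ_congr_mod h e, φ_xor_mod, c, Nat.xor_mod_two_pow])
  refine ⟨φ h⁻¹ q, sh_congr ((φ_congr_mod _ ?_).trans (φ_inv_mod h _)) (sh_φ hq h⁻¹)⟩
  have a := φ_inv_mod h⁻¹ q
  rw [inv_inv] at a
  simp only [Nat.xor_mod_two_pow, φ_xor_mod, c, a, φ_congr_mod _ a]

/-- A basis of the commutator space of `y`, and preimages. -/
def bY : List ℕ := [2, 13664256, 4407296, 6586368, 4751360, 5832704, 12976128, 4096]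
def qY : List ℕ := [1, 4, 8, 16, 32, 64, 128, 8192]
/-- For each coset a commutator that makes it short. -/
def sT : ℕ := 0x9508a509159515a4a8839b8195a39691b7ad351e272095a3bf133ea3922323a3a40f26bc04b2b631afb22e02b2b203323a160a178abb8a8a049e379c098e0abca495a4a414382439a720a412aa309932863034b3268da43eb0b00130adb02c0095922711051f87aca01111918d210c910b8b0bba8b16bb170b3d080f361d051f269025a29b30a83226262617263b163a0435b5b5a985283531b6833521bba3081797a6178a170ba721179394012a8399898e8abc041e371c8a3b8a0aba168a17abb198b3262125139539a538a514a525891408a41494a51482a9001aa29410179ab61b0637068686920810bb8205308604af37adb90fba3d3924092539393908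
/-- Words in the three generators. -/
def sW : ℕ := 0xb800e2e99aba069899e0000000002c003000000000000000000000029826b00000000000000000000009a82a702643ad9e64ba7000000000ac19b7ab81eb0a64ab6009807900000001eadeab09982ad00000000a689ae0000000000000002b866e000000000000000000000000000002a4a9e01a42670ba46ae000000002681e600000000000000002427b00000002a9c1ab06a6ada0b9eb9b0000000000000000000000ba80ea00000000000000000000000000000a9aa7a00000000000000000000002e803a0000000000000000a49eb0000000000000000000000018000000279e000079e000066b000400000009e70ae400002a80009e9800000009ad0198000029c0002adc00000001ea00000eb000009b06640000000e9a00009ba00002ae000001e2798000000026e00000ab99ec00000026b6006400002e40000003a6a0aa40000000000009c000266c00000007aa00002eb00001e7299c000000007a002800009e8000000000709e400000006ad0000aba000001bae640000a78000066800000003a601a8000000800002780001a6c0000001eaa02ec0002b98000006800000000e927a800000a8000000066727a4000a67400009a4000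

/-- Apply a word of at most `n` letters; the result is the base class. -/
noncomputable def go (n : ℕ) : ℕ → ℕ → Bool := Nat.rec (fun _ _ => false) (fun _ r w p => seq p
  (Nat.rec (Nat.beq (p % 2 ^ 24) 1474562) (fun _ _ => r (w / 4) (tmul 1 (tH (w % 4)) p)) (w % 4))) n

theorem chkS : Nat.beq ((133 ^^^ tmul 1 tY 133) % 2 ^ 24) 1474562 = true ∧
    allR (fun i => (fun q => shC (133 ^^^ xorComb rY i ^^^ q ^^^ tmul 1 tY q))
      (xorComb qY ((sT >>> (8 * i)) % 256))) 0 256 = true ∧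
    allR (fun k => (fun j => band (Nat.blt j 256) (Nat.beq ((2 ^ k ^^^ tk tY k) % 2 ^ 24)
      (xorComb bY j % 2 ^ 24))) ([1, 0, 2, 4, 8, 16, 32, 64, 118, 50, 30, 110, 0, 128].getD k 0)) 0 24 = true ∧
    allR (fun j => !shC (xorComb bY j) || go 8 ((sW >>> (14 * j)) % 16384) (xorComb bY j)) 0 256 = true ∧
    shC 2 = true ∧ shC (0xd1958 ^^^ tmul 1 tD 0xd1958) = true ∧
    Nat.beq ((tmul 1 tY 1 ^^^ tmul 1 tD 1 ^^^ 0x2000) % 2 ^ 24) 0xd1958 = true := by decide +kernel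

theorem ss_base : SS 1474562 := fun p e => by
  have a := Nat.eq_of_beq_eq_true chkS.1
  rw [tmul_one tb_Y] at a
  obtain ⟨q, i, hi, b⟩ := fixB_spec chkY.2.2.1 tb_Y (p := p ^^^ 133) (by
    rw [show 1474562 % 2 ^ 24 = 1474562 from rfl, ← a] at e
    simp only [Nat.xor_mod_two_pow, φ_xor_mod] at e ⊢
    rw [← Nat.xor_xor_cancel_left (p % 2 ^ 24) (φ _ p % _), e, Nat.xor_assoc, Nat.xor_assoc,
      Nat.xor_self, Nat.xor_zero])
  have c := shC_iff.1 (allR_zero_iff.1 chkS.2.1 i hi)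
  generalize xorComb qY _ = q' at c
  rw [tmul_one tb_Y] at c
  refine ⟨q ^^^ q', sh_congr ?_ c⟩
  simp only [Nat.xor_mod_two_pow, φ_xor_mod] at b ⊢
  rw [← b, ← Nat.xor_assoc, ← Nat.xor_assoc, Nat.xor_comm (p % _) (133 % _), Nat.xor_xor_cancel_left]
  ac_rfl

theorem ss_go (n : ℕ) : ∀ w p, go n w p = true → SS p := by
  induction n with
  | zero => intro w p h; exact absurd h Bool.false_ne_true
  | succ n ih =>
    intro w p h
    change seq p (Nat.rec (Nat.beq (p % 2 ^ 24) 1474562)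
      (fun _ _ => go n (w / 4) (tmul 1 (tH (w % 4)) p)) (w % 4)) = true at h
    rw [seq_eq] at h
    have hw : w % 4 < 4 := Nat.mod_lt _ (by norm_num)
    generalize w % 4 = i at h hw
    rcases i with _ | i
    · exact fun q e => ss_base q (e.trans (Nat.eq_of_beq_eq_true h))
    · exact SS.step (Nat.succ_ne_zero i) hw (ih _ _ h)

theorem tt_of_sh {p : ℕ} (h : IsSh (p ^^^ φ (el rYb) p)) : TT p := by
  obtain ⟨j, hj, e⟩ : ∃ j < 256, (p ^^^ φ (el rYb) p) % 2 ^ 24 = xorComb bY j % 2 ^ 24 := by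
    clear h
    induction p using lin_ind with
    | hc p h => simpa only [Nat.xor_mod_two_pow, Nat.mod_mod, φ_congr_mod _ (Nat.mod_mod p _)] using h
    | h0 => exact ⟨0, by norm_num, by rw [φ_zero, xorComb_zero]; rfl⟩
    | hs k hk p h =>
      obtain ⟨j, hj, e⟩ := h
      have a := allR_zero_iff.1 chkS.2.2.1 k hk
      generalize List.getD _ k 0 = i at a
      refine ⟨j ^^^ i, Nat.xor_lt_two_pow (n := 8) hj (by simpa using band_left a), ?_⟩
      have b := Nat.eq_of_beq_eq_true (band_right a)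
      rw [← tb_Y k hk] at b
      rw [xorComb_xor, Nat.xor_mod_two_pow (a := xorComb bY j), ← e, ← b]
      simp only [Nat.xor_mod_two_pow, φ_xor_mod]
      ac_rfl
  have a := allR_zero_iff.1 chkS.2.2.2.1 j hj
  rw [shC_iff.2 (sh_congr e h), Bool.not_true, Bool.false_or] at a
  exact ss_go _ _ _ a p e

/-! ### The dodecad type -/

theorem cls_smul_congr {b b' : Co0} (e : toCo1 b = toCo1 b') (x : leechLattice) :
    cls (b • x) = cls (b' • x) := by
  rcases toCo1_eq_iff.1 e with e | e <;> rw [e]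
  rw [mul_smul, co0Neg_smul, cls_neg]

theorem exists_four {x : leechLattice} (hx : nm x = 32) (h : ∀ i, (4 : ℤ) ∣ (x : GolayPt → ℤ) i) :
    ∃ j y, nm y = 32 ∧ (y = x ∨ y = -x) ∧ dt y (e8 j) = 32 := by
  obtain ⟨j, hj⟩ : ∃ j, (x : GolayPt → ℤ) j ≠ 0 := by
    by_contra! a
    rw [show x = 0 from Subtype.ext (funext a), nm_zero] at hx
    omega
  have b : (x : GolayPt → ℤ) j ^ 2 ≤ 32 := hx ▸
    Finset.single_le_sum (f := fun j => (x : GolayPt → ℤ) j ^ 2) (fun _ _ => sq_nonneg _)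
      (Finset.mem_univ j)
  obtain ⟨c, hc⟩ := h j
  obtain e | e : c = 1 ∨ c = -1 := by
    rw [hc] at b hj
    have : c ≤ 1 := by nlinarith
    have : -1 ≤ c := by nlinarith
    omega
  · exact ⟨j, x, hx, Or.inl rfl, by rw [dt, dot_e8, hc, e]; rfl⟩
  · exact ⟨j, -x, (nm_neg x).trans hx, Or.inr rfl, by rw [dt_neg_left, dt, dot_e8, hc, e]; rfl⟩

theorem dod_norm {b : Co0} {x : leechLattice} (hb : IsConj (toCo1 Co.u0) (toCo1 b)) (hx : nm x = 32)
    (h : cls (b • x) = cls x) : ∃ (k : Co0) (d : golaySets), d.1.card = 12 ∧ some 0 ∉ d.1 ∧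
      some 1 ∉ d.1 ∧ toCo1 (k * b * k⁻¹) = toCo1 (Co.sg d) ∧ cls (k • x) = cls uT := by
  obtain ⟨k, e⟩ := isConj_iff.1 hb.symm
  obtain ⟨k, rfl⟩ := toCo1_surjective k
  rw [← map_inv, ← map_mul, ← map_mul] at e
  have h1 : nm (k • x) = 32 := (nm_smul _ _).trans hx
  obtain ⟨c, c1, c2, c3⟩ : ∃ c : golaySets, c.1.card = 12 ∧ toCo1 Co.u0 = toCo1 (Co.sg c) ∧
      Co.sg c • k • x = k • x := by
    have a : cls (k • x) = cls (Co.u0 • k • x) := by
      rw [← cls_smul_congr e, mul_smul, mul_smul, inv_smul_smul]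
      exact ((cls_eq_iff.1 h).smul k).cls_eq.symm
    rcases cls_inj_Min h1 ((nm_smul _ _).trans h1) a with a | a
    · exact ⟨_, Co.card_u0, rfl, a⟩
    · refine ⟨⟨(Co.gw 340831).1ᶜ, compl_mem_golaySets (Co.gw _).2⟩,
        by rw [Finset.card_compl, Co.card_u0]; rfl,
        by rw [Co.sg_compl, map_mul, toCo1_neg, one_mul]; rfl, ?_⟩
      rw [Co.sg_compl, mul_smul, co0Neg_smul, neg_eq_iff_eq_neg]
      exact a
  obtain ⟨j, y, y1, y2, y3⟩ := exists_four h1 (Co.four_dvd_of_dod c1 h1 c3)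
  obtain ⟨m, hm, rfl⟩ := exists_mono_uT y1 y3
  obtain ⟨σ, d, e'⟩ := mem_monoSub.1 (inv_mem hm)
  have f := Co.mono_conj_sg σ d c
  rw [← e', inv_inv] at f
  have g : Co.sg (Co.gsm σ c) • uT = uT := by
    rw [← f, mul_smul, mul_smul, inv_smul_eq_iff]
    rcases y2 with a | a <;> rw [a]
    · exact c3
    · rw [co0_smul_neg, c3]
  rw [Co.sg_smul_eq_iff] at g
  refine ⟨m⁻¹ * k, Co.gsm σ c, (card_perm_smul_finset _ _).trans c1,
    fun a => absurd (g _ a) (by decide), fun a => absurd (g _ a) (by decide), ?_, ?_⟩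
  · rw [← f, mul_inv_rev, inv_inv, show m⁻¹ * k * b * (k⁻¹ * m) = m⁻¹ * (k * b * k⁻¹) * m by group]
    simp only [map_mul (toCo1) (m⁻¹ * _), map_mul toCo1 m⁻¹, e, c2]
  · rw [mul_smul]
    rcases y2 with a | a
    · rw [← a, inv_smul_smul]
    · rw [← cls_neg, ← co0_smul_neg, ← a, inv_smul_smul]

theorem dod_trans {b b' : Co0} {x x' : leechLattice} (hb : IsConj (toCo1 Co.u0) (toCo1 b))
    (hb' : IsConj (toCo1 Co.u0) (toCo1 b')) (hx : nm x = 32) (hx' : nm x' = 32)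
    (h : cls (b • x) = cls x) (h' : cls (b' • x') = cls x') :
    ∃ k : Co0, toCo1 (k * b * k⁻¹) = toCo1 b' ∧ cls (k • x) = cls x' := by
  obtain ⟨k, d, d1, d2, d3, d4, d5⟩ := dod_norm hb hx h
  obtain ⟨k', d', e1, e2, e3, e4, e5⟩ := dod_norm hb' hx' h'
  let u : Fin 2 ↪ GolayPt := ⟨![some 0, some 1], by decide⟩
  obtain ⟨σ, hσ, s1, s2⟩ := MP.M24_trans_dodecad_emb (n := 2) (by norm_num)
    (compl_mem_dodecads (d := d.1) ⟨d.2, d1⟩) (compl_mem_dodecads (d := d'.1) ⟨d'.2, e1⟩) u u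
    (fun i => by fin_cases i <;> simpa [u]) (fun i => by fin_cases i <;> simpa [u])
  rw [perm_smul_finset_compl, compl_inj_iff] at s1
  have f : permCo0 ⟨σ, hσ⟩ * Co.sg d * (permCo0 ⟨σ, hσ⟩)⁻¹ = Co.sg d' := by
    rw [Co.perm_conj_sg]; exact congrArg Co.sg (Subtype.ext s1)
  have g : permCo0 ⟨σ, hσ⟩ • uT = uT := by
    rw [uT, perm_fourDiff]; exact congrArg₂ fourDiff (s2 0) (s2 1)
  generalize permCo0 ⟨σ, hσ⟩ = m at f g
  refine ⟨k'⁻¹ * m * k, ?_, ?_⟩
  · rw [← f] at e4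
    simp only [map_mul, map_inv, mul_inv_rev, inv_inv] at d4 e4 ⊢
    calc _ = (toCo1 k')⁻¹ * (toCo1 m * (toCo1 k * toCo1 b * (toCo1 k)⁻¹) * (toCo1 m)⁻¹) * toCo1 k' := by
          group
      _ = _ := by rw [d4, ← e4]; group
  · rw [mul_smul, mul_smul, (((cls_eq_iff.1 d5).smul m).smul k'⁻¹).cls_eq, g,
      ← ((cls_eq_iff.1 e5).smul k'⁻¹).cls_eq, inv_smul_smul]

/-! ### Products of two involutions of class 2A -/

variable {X : Type*} [Group X] {A : Am X}

variable (A) in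
/-- `x` is a product of two involutions of class 2A. -/
def P2 (x : X) : Prop := ∃ a b, A.A2 a ∧ A.A2 b ∧ x = a * b

theorem P2.of_conj {x : X} (y : X) (h : P2 A (y * x * y⁻¹)) : P2 A x :=
  let ⟨a, b, h1, h2, e⟩ := h
  ⟨_, _, h1.conj y⁻¹, h2.conj y⁻¹, by rw [conj_mul, ← e]; group⟩

variable (A) in
/-- The same up to `z`. -/
def PZ (g : GH) : Prop := P2 A (A.ι g) ∨ P2 A (A.ι (pq pZ * g))

theorem PZ.of_conj {g : GH} (k : GH) (h : PZ A (k * g * k⁻¹)) : PZ A g :=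
  h.imp (fun h => P2.of_conj (A.ι k) (by simpa using h)) fun h => P2.of_conj (A.ι k) (by
    rwa [← mul_assoc, ← mul_assoc, ← pZ_comm, mul_assoc k, map_mul, map_mul, map_inv] at h)

theorem PZ.congr {n : GH} {p q : ℕ} (e : p % 2 ^ 24 = q % 2 ^ 24) (h : PZ A (pq q * n)) :
    PZ A (pq p * n) := by
  rcases pq_eq_or_of_mod e with e | e <;> rw [e]
  · exact h
  · rw [PZ, mul_assoc, ← mul_assoc (pq pZ) (pq pZ), pZ_mul_pZ, one_mul]
    exact h.symm

theorem PZ.stepQ {n : GH} {p : ℕ} (q : ℕ) (h : PZ A (pq (p ^^^ q ^^^ φ n q) * n)) :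
    PZ A (pq p * n) := by
  obtain ⟨q', e1, e2⟩ := exists_pq_inv q
  refine PZ.of_conj (pq q) ?_
  rw [e2, mul_assoc, mul_assoc, mul_pq, ← mul_assoc, ← mul_assoc, pq_mul, pq_mul]
  refine h.congr ?_
  simp only [pmul_mod, Nat.xor_mod_two_pow, φ_congr_mod n e1]
  ac_rfl

theorem PZ.red (hk : A.ι.ker = zpowers cc) {g n : GH} {r : ℕ} (hn : n * n ∈ center GH)
    (e : pr1 g = pr1 n) (h2 : g * g = pq r)
    (H : ∀ p, (p ^^^ φ n p) % 2 ^ 24 = r % 2 ^ 24 → PZ A (pq p * n)) : PZ A g := by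
  have key : ∀ g : GH, pr g = pr n → g * g = pq r → PZ A g := fun g e h2 => by
    obtain ⟨p, -, hp⟩ := mem_QH.1 (mem_QH'.2 (show pr (g * n⁻¹) = 1 by simp [e]))
    obtain rfl : g = pq p * n := by rw [← hp]; group
    refine H p ?_
    obtain ⟨r', e1, e2⟩ := exists_pq_inv r
    have h3 : (pq r)⁻¹ * (pq p * n * (pq p * n)) ∈ center GH := by rw [h2]; simp
    rw [mul_assoc, ← mul_assoc n, mul_pq, mul_assoc, ← mul_assoc (pq p), pq_mul, e2, ← mul_assoc,
      pq_mul, (center GH).mul_mem_cancel_right hn] at h3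
    have h4 : pmul r' (pmul p (φ n p)) % 2 ^ 24 = 0 := by
      by_contra h5
      obtain ⟨k, -, hk⟩ := exists_pcomm h5
      rw [pq_comm_iff.1 (mem_center_iff.1 h3 _)] at hk
      omega
    rw [pmul_mod, Nat.xor_eq_zero_iff, pmul_mod, e1] at h4
    rw [h4, Nat.xor_mod_two_pow]
  rcases toCo1_eq_iff.1 e with e | e
  · exact key _ e h2
  · have := key (cc * g) (by rw [map_mul, e, pr_cc, ← mul_assoc, co0Neg_mul_self, one_mul]) (by
      rw [mul_assoc, ← mul_assoc g, cc_comm, mul_assoc, ← mul_assoc, cc_mul_cc, one_mul, h2])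
    rwa [PZ, ← mul_assoc, cc_comm, mul_assoc, Am.ι_cc_mul hk, Am.ι_cc_mul hk] at this

theorem a2_of_sh {p : ℕ} (h : IsSh p) : A.A2 (A.ι (pq p)) := by
  rw [← pq_mod]
  exact Am.a2_of_Sh ⟨Nat.mod_lt _ (by norm_num), sh_congr (p := p) (by omega) h⟩

theorem a2_Y : A.A2 (A.ι (el rYb)) := by
  have := (a2_of_sh (A := A) (shC_iff.1 chkS.2.2.2.2.1)).conj A.τ
  rwa [show pq 2 = pq pXb from rfl, ← A.hN _ NP_yb, ← mul_assoc, ← mul_assoc, mul_inv_cancel, one_mul,
    mul_inv_cancel_right] at this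

theorem pz_oct (hk : A.ι.ker = zpowers cc) {g : GH} {r : ℕ} (hg : IsConj Co.F1.z (pr1 g))
    (h2 : g * g = pq r) (hr : IsSh r) : PZ A g := by
  obtain ⟨k, e⟩ := isConj_iff.1 (isConj_Yb.symm.trans hg).symm
  obtain ⟨k, rfl⟩ := pr1_surj k
  rw [← map_inv, ← map_mul, ← map_mul] at e
  refine PZ.of_conj k (PZ.red hk (r := φ k r) (Yb_sq ▸ one_mem _) e
    (by rw [conj_mul, h2, conj_pq]) fun p hp => ?_)
  obtain ⟨q, hq⟩ := tt_of_sh (sh_congr hp.symm (sh_φ hr k))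
  exact PZ.stepQ q (Or.inl ⟨_, _, a2_of_sh hq, a2_Y, map_mul _ _ _⟩)

theorem pz_dod (hk : A.ι.ker = zpowers cc) {g : GH} {r : ℕ} (hg : IsConj (toCo1 Co.u0) (pr1 g))
    (h2 : g * g = pq r) (hr : IsSh r) : PZ A g := by
  have hR := R_nD.Pmul' 0x2000
  obtain ⟨h1, h3⟩ := chkD
  have hs := (wEl_spec wS).2
  have hA : pr (pq 0x2000 * UQ.nD) ∈ Co.A0 := by
    obtain ⟨⟨σ, e⟩, -⟩ := mem_EstS.1 hs
    have : pr (el rYb) ∈ Co.A0 := by rw [pr_apply, Yb_snd]; exact Co.sg_mem _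
    rw [map_mul, pr_pq, one_mul, UQ.nD, map_mul, map_mul, map_mul, map_inv]
    exact mul_mem this (Co.conj_mem_A0 (by rw [pr_apply, e]; exact Co.perm_mem _) this)
  obtain ⟨c, hc⟩ := Co.mem_A0.1 hA
  have h12 : c.1.card = 12 := by
    have h3 := Co.tr8_sg c
    rw [hc, Co.tr8_cm, pr_apply, hR.mat_eq, Nat.eq_of_beq_eq_true (band_right (band_left h1))] at h3
    omega
  have hT := tb_of hR (band_left (band_left h1))
  have hn : pq 0x2000 * UQ.nD * (pq 0x2000 * UQ.nD) ∈ center GH :=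
    mem_center_GH.2 (of_φ_trivial fun k hk => by rw [tb_of (hR.mul hR) (band_right h1) k hk, tk_ID k hk])
  obtain ⟨-, -, -, -, -, c1, c2⟩ := chkS
  rw [tmul_one hT, shC_iff] at c1
  rw [tmul_one hT, tmul_one tb_Y, Nat.beq_eq] at c2
  have base : PZ A (pq 0xd1958 * (pq 0x2000 * UQ.nD)) := by
    obtain ⟨q, e1, e2⟩ := exists_pq_inv 1
    obtain ⟨u, e3, e4⟩ := exists_pq_inv 0x2000
    have a : el rYb * (pq 1 * (wEl wS * el rYb * (wEl wS)⁻¹) * (pq 1)⁻¹) =
        pq (pmul (pmul (φ (el rYb) 1) u) (φ (pq 0x2000 * UQ.nD) q)) * (pq 0x2000 * UQ.nD) := by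
      rw [← pq_mul, ← pq_mul, mul_assoc (_ * pq u), ← mul_pq, ← e4, ← e2, ← conj_pq, UQ.nD]; group
    refine PZ.congr ?_ (Or.inl ⟨_, _, a2_Y, (a2_Y.conj (A.ι (wEl wS))).conj (A.ι (pq 1)),
      (congrArg A.ι a).symm.trans (by simp only [map_mul, map_inv])⟩)
    rw [show 0xd1958 % 2 ^ 24 = 0xd1958 from rfl, ← c2]
    simp only [pmul_mod, Nat.xor_mod_two_pow, e3, φ_congr_mod _ e1]
    ac_rfl
  have hn1 : IsConj (toCo1 Co.u0) (toCo1 (pr (pq 0x2000 * UQ.nD))) :=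
    toCo1.map_isConj (hc ▸ Co.isConj_dod h12)
  generalize pq 0x2000 * UQ.nD = n at hT hn c1 base hn1
  obtain ⟨x, hx, ex⟩ := hr
  obtain ⟨y, hy, ey⟩ := c1
  obtain ⟨k, k1, k2⟩ := dod_trans hg hn1 hx hy (by
    rw [← φ_pr g ex, ← ex]
    refine mod_eq_of_mem_zpowers ?_
    rw [← conj_pq, ← h2, show (g * g)⁻¹ * (g * (g * g) * g⁻¹) = 1 by group]
    exact one_mem _) (by
    rw [← φ_pr n ey, ← ey, φ_xor_mod, Nat.xor_mod_two_pow, Nat.xor_comm, ← φ_mul]
    refine congrArg₂ _ (mod_eq_of_mem_zpowers ?_) rfl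
    rw [← conj_pq, ← mem_center_iff.1 hn, mul_inv_cancel_right, inv_mul_cancel]
    exact one_mem _)
  obtain ⟨k, rfl⟩ := pr_surj k
  rw [← map_inv, ← map_mul, ← map_mul] at k1
  refine PZ.of_conj k (PZ.red hk (r := φ k r) hn k1 (by rw [conj_mul, h2, conj_pq]) fun p hp => ?_)
  rw [φ_pr k ex, k2, ← ey] at hp
  obtain ⟨q, i, -, b⟩ := fixB_spec h3 hT (p := p ^^^ 0xd1958) (by
    simp only [Nat.xor_mod_two_pow, φ_xor_mod] at hp ⊢
    rw [← Nat.xor_xor_cancel_left (p % 2 ^ 24) (φ _ p % _), hp, Nat.xor_assoc, Nat.xor_assoc,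
      Nat.xor_self, Nat.xor_zero])
  refine PZ.stepQ q (base.congr ?_)
  rw [xorComb_nil, Nat.zero_mod] at b
  simp only [Nat.xor_mod_two_pow] at b ⊢
  rw [← Nat.xor_eq_zero_iff, ← b]
  ac_rfl

theorem pz_of_sq (hk : A.ι.ker = zpowers cc) {g : GH} {r : ℕ} (h2 : g * g = pq r) (hr : IsSh r) :
    PZ A g := by
  have h3 : pr g * pr g = 1 := by rw [← map_mul, h2, pr_pq]
  by_cases h0 : pr1 g = 1
  · refine PZ.red hk (n := 1) (by simp) (h0.trans (map_one _).symm) h2 fun p e => ?_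
    obtain ⟨x, hx, ex⟩ := hr
    have : nm x = 32 := hx
    have a := φ_inv_mod 1 p
    rw [← φ_mul, inv_mul_cancel] at a
    rw [Nat.xor_mod_two_pow, a, Nat.xor_self, ex] at e
    exact absurd e.symm (cls_ne_zero (by omega) (by omega))
  rcases Co.invol_cases (x := pr1 g) (by rw [← map_mul, h2]; exact pr1_eq_one.2 (Or.inl (pr_pq r)))
    h0 with h | h | h
  · exact pz_oct hk h h2 hr
  · exact pz_dod hk h h2 hr
  · obtain ⟨k, e⟩ := isConj_iff.1 h
    obtain ⟨k, rfl⟩ := toCo1_surjective k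
    rw [← map_inv, ← map_mul, ← map_mul] at e
    have a : k * Co.v0 * k⁻¹ * (k * Co.v0 * k⁻¹) = 1 := by
      rcases toCo1_eq_iff.1 e with e | e <;> rw [e]
      · exact h3
      · rw [mul_assoc, ← mul_assoc (pr g), co0Neg_comm, mul_assoc, h3, mul_one, co0Neg_mul_self]
    rw [conj_mul, Co.v0_sq, conj_eq_one_iff] at a
    exact absurd a co0Neg_ne_one

/-- A square root of `t` is a product of two involutions of class 2A. -/
theorem sq4 (h : A.Enum) {s : X} (h2 : s * s = A.ι (pq pT)) : P2 A s := by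
  obtain ⟨u, hu, g, hg, rfl⟩ := SB.exists_conj_H0 h (l := s)
    (h.cent_t ▸ mem_centralizer_singleton_iff.2 (by rw [← h2, mul_assoc])) (by
      rw [show s ^ 4 = s * s * (s * s) by simp only [pow_succ, pow_zero, one_mul, mul_assoc], h2,
        Am.sq_pq (by decide)])
  rw [conj_mul, mul_inv_eq_iff_eq_mul, ← SB.comm_t hu, mul_right_inj, ← map_mul, eq_comm,
    map_eq_iff h.ker] at h2
  obtain ⟨q, -, e⟩ := SB.exists_neg_of_sq hg h2
  refine P2.of_conj u⁻¹ ?_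
  rw [show u⁻¹ * (u * A.ι g * u⁻¹) * u⁻¹⁻¹ = A.ι g by group]
  refine (pz_of_sq h.ker (h2.resolve_right fun a => ?_) pT_mem_Sh25.2).elim id fun a =>
    P2.of_conj (A.ι (pq q)) ?_
  · have b : pr (g * g) • uT = uT := by
      rw [map_mul, mul_smul]
      rcases pr_of_mem_H hg with a | a <;> rw [a]
      · exact a
      · rw [co0_smul_neg, a, neg_neg]
    rw [a, map_mul, pr_pq, pr_cc, one_mul, co0Neg_smul] at b
    exact uT_ne_neg b.symm
  · rwa [← map_inv, ← map_mul, ← map_mul, show pq q * g * (pq q)⁻¹ = pq pZ * g by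
      rw [mul_inv_eq_iff_eq_mul, mul_assoc, e, ← mul_assoc, ← mul_assoc, pZ_mul_pZ, one_mul]]

end Cfsg.Lib.Mon.Sq
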