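import Cfsg.Agent.Mon.UBDFd

/-! Double coset enumeration for `E1` over `(P1, τ)` (level F): steps. -/

set_option autoImplicit false
set_option maxRecDepth 20000
set_option linter.unusedSectionVars false

namespace Cfsg.Lib.Mon.UBD

open Cfsg.Lib.Mon.Cert

variable {X : Type*} [Group X] (C : Cx PF X) (H : HF C)
include H

theorem np1 : C.Np (n1, m1) := Cx.np (by decide +kernel)
theorem hNL : C.NpL NL :=
  .cons (np1 C H) <| .nil
theorem f0 : C.Fa 0 g0 1 h0 := Cx.define (r := rF1) rfl (by decide +kernel)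
theorem f1 : C.Fa 1 g1 0 h1 := (f0 C H).rev (by decide +kernel)
theorem t1 : C.Tr a1 b1 c1 := H.t1.same (by decide +kernel)
theorem np3 : C.Np (n3, m3) := Cx.np (by decide +kernel)
theorem t5 : C.Tr a5 b5 c1 := (t1 C H).mv (np3 C H) (by decide +kernel)
theorem hs1 : C.St 0 s1 := Cx.load (by decide +kernel)
theorem hs0 : C.St 0 s0 := Cx.load (by decide +kernel)
theorem hs2 : C.St 0 s2 := Cx.load (by decide +kernel)
theorem hpl0 : C.StL 0 pl0 :=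
  (Cx.StL.cons (hs1 C H) <| Cx.StL.cons (hs0 C H) <| Cx.StL.cons (hs2 C H) <| Cx.StL.nil).pool
    [(0, 1), (1, 0), (4, 1), (1, 4), (0, 3), (3, 2), (3, 0), (3, 0), (3, 1), (3, 1), (2, 3), (3, 0), (3, 2), (1, 3), (3, 1), (2, 3), (3, 0), (2, 3), (3, 1), (2, 3), (3, 1), (3, 1)]
    [5, 4, 3, 2, 1, 0] (by decide +kernel)
theorem f2 : C.Fa 1 g2 1 h2 :=
  (f0 C H).tri (hNL C H) [] (t5 C H) (f0 C H) (hpl0 C H) [2, 1] (by decide +kernel)
theorem t3 : C.Tr a3 b3 c1 := (t1 C H).mv (np1 C H) (by decide +kernel)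
theorem hs25 : C.St 1 s25 := (f0 C H).coin (f0 C H) (hpl0 C H) [5, 0, 1, 0, 3] (by decide +kernel)
theorem hs26 : C.St 1 s26 := (f0 C H).coin (f0 C H) (hpl0 C H) [4, 1, 1, 2, 4] (by decide +kernel)
theorem hpl1 : C.StL 1 pl1 :=
  (Cx.StL.cons (hs25 C H) <| Cx.StL.cons (hs26 C H) <| Cx.StL.nil).pool
    [(0, 1), (2, 0), (2, 3), (4, 0), (1, 3), (3, 1), (2, 3), (3, 2), (0, 3), (1, 3), (1, 3), (3, 1), (1, 3), (1, 3), (0, 3), (3, 2), (1, 3), (0, 3), (1, 3), (1, 3), (1, 3), (3, 0)]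
    [5, 4, 3, 2, 1, 0] (by decide +kernel)
theorem f3 : C.Fa 1 g3 1 h3 :=
  (f2 C H).tri (hNL C H) [] (t3 C H) (f2 C H) (hpl1 C H) [4, 3] (by decide +kernel)
theorem f4 : C.Fa 1 g4 2 h4 := Cx.define (r := rF2) rfl (by decide +kernel)
theorem f5 : C.Fa 2 g5 1 h5 := (f4 C H).rev (by decide +kernel)
theorem t0 : C.Tr a0 b0 c0 := H.t0.same (by decide +kernel)
theorem f7 : C.Fa 2 g7 2 h7 :=
  (f4 C H).tri (hNL C H) [] (t0 C H) (f4 C H) (hpl1 C H) [1, 5, 4] (by decide +kernel)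
theorem f8 : C.Fa 1 g8 3 h8 := Cx.define (r := rF3) rfl (by decide +kernel)
theorem f9 : C.Fa 3 g9 1 h9 := (f8 C H).rev (by decide +kernel)
theorem f10 : C.Fa 2 g10 3 h10 :=
  (f4 C H).tri (hNL C H) [] (t3 C H) (f8 C H) (hpl1 C H) [4, 2, 5] (by decide +kernel)
theorem f11 : C.Fa 3 g11 2 h11 := (f10 C H).rev (by decide +kernel)
theorem f12 : C.Fa 3 g12 3 h12 :=
  (f9 C H).tri' (hNL C H) [] (t5 C H) (f8 C H) (hpl1 C H) [3, 2] (by decide +kernel)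
theorem hs97 : C.St 3 s97 := (f8 C H).coin (f8 C H) (hpl1 C H) [2, 4, 2] (by decide +kernel)
theorem hs98 : C.St 3 s98 := (f8 C H).coin (f8 C H) (hpl1 C H) [2, 4, 1] (by decide +kernel)
theorem hpl3 : C.StL 3 pl3 :=
  (Cx.StL.cons (hs97 C H) <| Cx.StL.cons (hs98 C H) <| Cx.StL.nil).pool
    [(0, 0), (2, 0), (1, 2), (4, 2), (0, 3), (2, 3), (3, 2), (3, 2), (0, 3), (3, 1), (3, 1), (2, 3), (1, 3), (1, 3), (0, 3), (3, 1), (3, 0), (3, 2), (3, 2), (3, 0), (0, 3), (3, 2)]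
    [5, 4, 3, 2, 1, 0] (by decide +kernel)
theorem f13 : C.Fa 3 g13 3 h13 :=
  (f12 C H).tri (hNL C H) [] (t3 C H) (f12 C H) (hpl3 C H) [1, 3, 5] (by decide +kernel)
theorem f6 : C.Fa 1 g6 2 h6 :=
  (f2 C H).tri (hNL C H) [] (t5 C H) (f4 C H) (hpl1 C H) [4, 2, 2] (by decide +kernel)
theorem hs74 : C.St 2 s74 := (f6 C H).coin (f4 C H) (hpl1 C H) [1, 5, 0] (by decide +kernel)
theorem hs49 : C.St 2 s49 := (f4 C H).coin (f4 C H) (hpl1 C H) [0, 0, 0, 1, 2] (by decide +kernel)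
theorem hs50 : C.St 2 s50 := (f4 C H).coin (f4 C H) (hpl1 C H) [3, 3, 1, 5, 0] (by decide +kernel)
theorem hs51 : C.St 2 s51 := (f4 C H).coin (f4 C H) (hpl1 C H) [1, 3, 2, 4, 3] (by decide +kernel)
theorem hpl2 : C.StL 2 pl2 :=
  (Cx.StL.cons (hs74 C H) <| Cx.StL.cons (hs49 C H) <| Cx.StL.cons (hs50 C H) <| Cx.StL.cons (hs51 C H) <| Cx.StL.nil).pool
    [(0, 1), (0, 3), (5, 1), (3, 2), (3, 2), (2, 3), (3, 2), (3, 0), (3, 2), (3, 2), (3, 2), (2, 3), (1, 3), (3, 0), (3, 1), (3, 2), (3, 1), (3, 1), (3, 1), (0, 3), (3, 0), (3, 1)]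
    [5, 4, 3, 2, 1, 0] (by decide +kernel)
theorem f14 : C.Fa 3 g14 3 h14 :=
  (f11 C H).tri' (hNL C H) [] (t5 C H) (f10 C H) (hpl2 C H) [3, 5, 2] (by decide +kernel)
theorem f15 : C.Fa 3 g15 4 h15 := Cx.define (r := rF4) rfl (by decide +kernel)
theorem f16 : C.Fa 4 g16 3 h16 := (f15 C H).rev (by decide +kernel)
theorem np4 : C.Np (n4, m4) := Cx.np (by decide +kernel)
theorem t6 : C.Tr a6 b6 c1 := (t1 C H).mv (np4 C H) (by decide +kernel)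
theorem f18 : C.Fa 4 g18 4 h18 :=
  (f15 C H).tri (hNL C H) [0] (t6 C H) (f15 C H) (hpl3 C H) [4] (by decide +kernel)
theorem hs121 : C.St 4 s121 := (f15 C H).coin (f15 C H) (hpl3 C H) [1, 5, 2, 5] (by decide +kernel)
theorem hs122 : C.St 4 s122 := (f15 C H).coin (f15 C H) (hpl3 C H) [0, 5, 2, 1, 0] (by decide +kernel)
theorem f17 : C.Fa 3 g17 4 h17 :=
  (f14 C H).tri (hNL C H) [] (t5 C H) (f15 C H) (hpl3 C H) [3, 5, 0] (by decide +kernel)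
theorem hs145 : C.St 4 s145 := (f17 C H).coin (f15 C H) (hpl3 C H) [1, 4, 4, 1] (by decide +kernel)
theorem hpl4 : C.StL 4 pl4 :=
  (Cx.StL.cons (hs121 C H) <| Cx.StL.cons (hs122 C H) <| Cx.StL.cons (hs145 C H) <| Cx.StL.nil).pool
    [(0, 0), (2, 0), (4, 2), (3, 2), (3, 0), (0, 3), (3, 2), (0, 3), (2, 3), (3, 0), (0, 3), (3, 1), (3, 2), (1, 3), (0, 3), (1, 3), (1, 3), (3, 2), (3, 0), (1, 3), (1, 3), (0, 3)]
    [5, 4, 3, 2, 1, 0] (by decide +kernel)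
theorem hFL : C.FaL FL :=
  .cons (f0 C H) <| .cons (f1 C H) <| .cons (f2 C H) <| .cons (f3 C H) <| .cons (f4 C H) <| .cons (f5 C H) <| .cons (f7 C H) <| .cons (f8 C H) <| .cons (f9 C H) <| .cons (f10 C H) <| .cons (f11 C H) <| .cons (f12 C H) <| .cons (f13 C H) <| .cons (f14 C H) <| .cons (f15 C H) <| .cons (f16 C H) <| .cons (f18 C H) <| .nil

end Cfsg.Lib.Mon.UBD
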