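import Cfsg.Agent.Mon.UBBasic

/-! Uniqueness of `B` and `²E6(2)`: lifts of elements of the model. -/

set_option autoImplicit false

namespace Cfsg.Lib.Mon

open Cfsg Subgroup Cfsg.Lib.Spor Cfsg.Lib.Spor.CK Cfsg.Lib.SporChar Cfsg.Lib.Local

variable {X : Type*} [Group X]

/-- `c` acts on the image of `QT T` as `g`. -/
def Act (T : List ℕ) (θ : GH → X) (g : GH) (c : X) : Prop :=
  ∀ p, Pp T p → c * θ (pq p) = θ (pq (φ g p)) * c

variable {T : List ℕ} {L : Subgroup GH} {z : X} {Q : Subgroup X} {θ : GH → X} {g g' : GH} {c c' : X}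

theorem Act.conj (a : Act T θ g c) {p : ℕ} (hp : Pp T p) :
    c * θ (pq p) * c⁻¹ = θ (pq (φ g p)) := by rw [a p hp, mul_inv_cancel_right]

theorem Act.one : Act T θ 1 1 := fun p _ => by rw [φ_one', pq_mod, one_mul, mul_one]

theorem Act.cc (a : Act T θ g c) : Act T θ (cc * g) c := fun p hp => by rw [φ_cc_mul, a p hp]

theorem Act.cc' (a : Act T θ g c) : Act T θ (g * Mon.cc) c := cc_comm g ▸ a.cc

theorem act_cc : Act T θ Mon.cc (1 : X) := mul_one Mon.cc ▸ Act.one.cc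

namespace PerpData

variable (h : PerpData T L z Q θ)
include h

theorem lt (hg : g ∈ FxS T) : g ∈ LT T := h.ok.le_LT hg

theorem θmul {p q : ℕ} (hp : Pp T p) (hq : Pp T q) :
    θ (pq (pmul p q)) = θ (pq p) * θ (pq q) := by
  rw [← pq_mul, h.mul _ (pq_mem_QT hp) _ (pq_mem_QT hq)]

theorem θsp {e : ℕ} (he : e ∈ spL T) : θ (pq e) = 1 :=
  (h.ker _ (h.ok.ET_le (h.ok.mem_ET.2 ⟨e, he, rfl⟩))).2 (h.ok.mem_ET.2 ⟨e, he, rfl⟩)

theorem θ0 : θ (pq 0) = 1 := h.θsp (zero_mem_spL T)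

theorem θneg {p : ℕ} (hp : Pp T p) : θ (pq (p ^^^ 2 ^ 24)) = z * θ (pq p) := by
  rw [← pmul_pZ, ← pZ_eq, h.θmul (Pp.pz T) hp, h.pz]

theorem θxor {p q : ℕ} (hp : Pp T p) (hq : q % 4096 = 0) :
    θ (pq (p ^^^ q)) = θ (pq p) * θ (pq q) := by
  rw [← pmul_diag p hq, h.θmul hp (h.ok.diag hq)]

theorem θsq {p : ℕ} (hp : p % 4096 = 0) : θ (pq p) * θ (pq p) = 1 := by
  rw [← h.θxor (h.ok.diag hp) hp, Nat.xor_self, h.θ0]

theorem θinv {p : ℕ} (hp : p % 4096 = 0) : (θ (pq p))⁻¹ = θ (pq p) :=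
  inv_eq_of_mul_eq_one_right (h.θsq hp)

theorem θcomm {p q : ℕ} (hp : Pp T p) (hq : Pp T q) (e : pcomm p q = 0) :
    θ (pq p) * θ (pq q) = θ (pq q) * θ (pq p) := by
  rw [← h.mul _ (pq_mem_QT hp) _ (pq_mem_QT hq), pq_comm_iff.2 e,
    h.mul _ (pq_mem_QT hq) _ (pq_mem_QT hp)]

theorem θmem {p : ℕ} (hp : Pp T p) : θ (pq p) ∈ Q := (h.map _).2 ⟨_, pq_mem_QT hp, rfl⟩

theorem exists_pq {x : X} (hx : x ∈ Q) : ∃ p < 2 ^ 25, Pp T p ∧ x = θ (pq p) := by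
  obtain ⟨a, ha, rfl⟩ := (h.map x).1 hx
  obtain ⟨p, h1, h2, rfl⟩ := mem_QT.1 ha
  exact ⟨p, h1, h2, rfl⟩

theorem θeq {p q : ℕ} (hp : Pp T p) (e : p ^^^ q ∈ spL T) : θ (pq q) = θ (pq p) := by
  have := h.θxor hp (h.ok.sp_ev _ e).diag
  rwa [Nat.xor_xor_cancel_left, h.θsp e, mul_one] at this

theorem θmod {p q : ℕ} (hp : Pp T p) (e : q % 2 ^ 24 = p % 2 ^ 24) :
    θ (pq q) = θ (pq p) ∨ θ (pq q) = z * θ (pq p) :=
  (pq_eq_or_of_mod e).imp (congrArg θ) fun k => by rw [k, ← pq_neg, h.θneg hp]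

theorem θinj {p q : ℕ} (h1 : p < 2 ^ 25) (h2 : q < 2 ^ 25) (hp : Pp T p) (hq : Pp T q)
    (e : θ (pq p) = θ (pq q)) : p ^^^ q ∈ spL T := by
  have k := h.mul _ (pq_mem_QT hp) _ (mul_mem (inv_mem (pq_mem_QT hp)) (pq_mem_QT hq))
  rw [mul_inv_cancel_left, ← e, left_eq_mul,
    h.ker _ (mul_mem (inv_mem (pq_mem_QT hp)) (pq_mem_QT hq)), h.ok.mem_ET] at k
  obtain ⟨f, hf, k⟩ := k
  have := h.ok.sp_ev f hf
  rw [inv_mul_eq_iff_eq_mul, pq_mul, pmul_diag _ this.diag] at k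
  rwa [pq_inj h2 (Nat.xor_lt_two_pow h1 this.lt) k, Nat.xor_xor_cancel_left]

theorem θone {p : ℕ} (h1 : p < 2 ^ 25) (hp : Pp T p) (e : θ (pq p) = 1) : p ∈ spL T := by
  simpa using h.θinj h1 (by norm_num) hp (Pp.zero T) (e.trans h.θ0.symm)

theorem θcomm_iff {p q : ℕ} (hp : Pp T p) (hq : Pp T q) :
    θ (pq p) * θ (pq q) = θ (pq q) * θ (pq p) ↔ pcomm p q = 0 := by
  refine ⟨fun e => ?_, h.θcomm hp hq⟩
  by_contra hn
  have := congrArg θ (pq_anti (p := p) (q := q) (by have := pcomm_lt p q; omega))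
  rw [pq_mul, pq_mul q, ← pq_neg, h.θneg (hq.pmul hp), h.θmul hp hq, h.θmul hq hp, e,
    right_eq_mul] at this
  exact h.pre.ne_one this

theorem zcomm {p : ℕ} (hp : Pp T p) : θ (pq p) * z = z * θ (pq p) := h.pre.central _ (h.θmem hp)

theorem act_mul (a : Act T θ g c) (b : Act T θ g' c') (hg : g' ∈ LT T) :
    Act T θ (g * g') (c * c') := fun p hp => by
  rw [mul_assoc, b p hp, ← mul_assoc, a _ (h.ok.pp_φ hg hp), φ_mul, mul_assoc]

theorem act_inv (a : Act T θ g c) (hg : g ∈ LT T) : Act T θ g⁻¹ c⁻¹ := fun p hp => by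
  rw [inv_mul_eq_iff_eq_mul, ← mul_assoc, a _ (h.ok.pp_φ (inv_mem hg) hp), ← φ_mul,
    mul_inv_cancel, φ_one', pq_mod, mul_inv_cancel_right]

theorem act_pow (a : Act T θ g c) (hg : g ∈ LT T) : ∀ n : ℕ, Act T θ (g ^ n) (c ^ n)
  | 0 => by rw [pow_zero, pow_zero]; exact Act.one
  | n + 1 => by rw [pow_succ, pow_succ]; exact h.act_mul (act_pow a hg n) a hg

theorem act_pq {q : ℕ} (hq : Pp T q) : Act T θ (pq q) (θ (pq q)) := fun p hp => by
  rw [← h.mul _ (pq_mem_QT hq) _ (pq_mem_QT hp), mul_pq,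
    h.mul _ (pq_mem_QT (h.ok.pp_φ (h.lt (pq_mem_FxS_iff.2 hq)) hp)) _ (pq_mem_QT hq)]

theorem act_comm (a : Act T θ g c) : c * z = z * c := by
  have := a _ (Pp.pz T)
  rwa [φ_pZ, h.pz] at this

theorem act_z (a : Act T θ g c) (hg : g ∈ LT T) : Act T θ g (z * c) := fun p hp => by
  rw [mul_assoc, a p hp, ← mul_assoc, ← h.zcomm (h.ok.pp_φ hg hp), mul_assoc]

theorem act_one (a : Act T θ 1 c) : c = 1 ∨ c = z :=
  h.pre.mem_iff.1 (h.pre.cent (mem_centralizer_iff.2 fun q hq => by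
    obtain ⟨p, -, hp, rfl⟩ := h.exists_pq hq
    rw [a p hp, φ_one', pq_mod]))

theorem act_uniq (a : Act T θ g c) (b : Act T θ g c') (hg : g ∈ LT T) : c' = c ∨ c' = z * c := by
  have := h.act_mul b (h.act_inv a hg) (inv_mem hg)
  rw [mul_inv_cancel] at this
  exact (h.act_one this).imp mul_inv_eq_one.1 mul_inv_eq_iff_eq_mul.1

theorem exists_act (hg : g ∈ L) : ∃ c, Act T θ g c :=
  (h.fwd g hg).imp fun c k p hp => by rw [← conj_pq, ← k _ (pq_mem_QT hp), inv_mul_cancel_right]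

theorem exists_act' (hc : c * z = z * c) : ∃ g ∈ L, Act T θ g c :=
  (h.bwd c hc).imp fun g k => ⟨k.1, fun p hp => by
    rw [← conj_pq, ← k.2 _ (pq_mem_QT hp), inv_mul_cancel_right]⟩

theorem act_fix (a : Act T θ g c) (hg : g ∈ LT T) {p : ℕ} (h1 : p < 2 ^ 25) (hp : Pp T p)
    (e : c * θ (pq p) = θ (pq p) * c) : φ g p ^^^ p ∈ spL T :=
  h.θinj (φ_lt _ _) h1 (h.ok.pp_φ hg hp) hp (mul_right_cancel ((a p hp).symm.trans e))

theorem act_ker (a : Act T θ g 1) (hg : g ∈ LT T) :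
    ∃ q < 2 ^ 25, q % 2 ^ 24 ∈ spL T ∧ (g = pq q ∨ g = cc * pq q) :=
  h.ok.of_fix fun p h1 hp => h.act_fix a hg h1 hp (by rw [one_mul, mul_one])

/-- An odd-order lift. -/
theorem exists_odd (hg : g ∈ FxS T) {n : ℕ} (hn : Odd n) (e : g ^ n = 1) :
    ∃ c, Act T θ g c ∧ c ^ n = 1 := by
  obtain ⟨c, a⟩ := h.exists_act (h.le hg)
  have b := h.act_pow a (h.lt hg) n
  rw [e] at b
  rcases h.act_one b with k | k
  · exact ⟨c, a, k⟩
  · refine ⟨z * c, h.act_z a (h.lt hg), ?_⟩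
    obtain ⟨m, rfl⟩ := hn
    rw [Commute.mul_pow (h.act_comm a).symm, k, pow_succ, pow_mul, sq, h.pre.mul_self, one_pow,
      one_mul, h.pre.mul_self]

/-- The centraliser of the diagonal group. -/
theorem of_comm {x : X} (k : ∀ p < 2 ^ 25, p % 4096 = 0 → x * θ (pq p) = θ (pq p) * x) :
    ∃ q < 2 ^ 25, q % 4096 = 0 ∧ x = θ (pq q) := by
  obtain ⟨g, hg, a⟩ := h.exists_act' (c := x) (h.pz ▸ k pZ (by decide) rfl)
  obtain ⟨q, h1, h2, e⟩ := h.ok.of_fix_diag (g := g) fun p hp k' =>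
    h.act_fix a (h.le' hg) hp (h.ok.diag k') (k p hp k')
  have b : Act T θ g (θ (pq q)) := by
    rcases e with e | e <;> rw [e]
    exacts [h.act_pq (h.ok.diag h2), (h.act_pq (h.ok.diag h2)).cc]
  rcases h.act_uniq b a (h.le' hg) with e | e
  · exact ⟨q, h1, h2, e⟩
  · exact ⟨_, xor_neg_lt h1, xor_diag h2 rfl, by rw [e, h.θneg (h.ok.diag h2)]⟩

theorem exists_π : ∃ π : centralizer ({z} : Set X) →* Co0,
    (∀ (c : centralizer ({z} : Set X)) (g : FxS [pT]), g.1 ∈ LT T → Act T θ g c → π c = prS g) ∧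
      ∀ c, π c = 1 ↔ c.1 ∈ Q := by
  choose γ h1 h2 using fun c : centralizer ({z} : Set X) =>
    h.exists_act' (mem_centralizer_singleton_iff.1 c.2)
  have key : ∀ (c : centralizer ({z} : Set X)) (g : FxS [pT]), g.1 ∈ LT T → Act T θ g c →
      prS ⟨γ c, (h.le' (h1 c)).1⟩ = prS g := fun c g hg a => by
    have b := h.act_mul (h.act_inv a hg) (h2 c) (h.le' (h1 c))
    rw [inv_mul_cancel] at b
    obtain ⟨q, -, -, e⟩ := h.act_ker b (mul_mem (inv_mem hg) (h.le' (h1 c)))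
    rw [eq_comm, ← inv_mul_eq_one, ← map_inv, ← map_mul, prS_eq_one]
    exact e.imp (fun k => (congrArg pr k).trans (pr_pq q))
      fun k => (congrArg pr k).trans (by rw [map_mul, pr_pq, pr_cc, mul_one])
  refine ⟨MonoidHom.mk' (fun c => prS ⟨γ c, (h.le' (h1 c)).1⟩) fun c d => ?_, key, fun c => ?_⟩
  · rw [← map_mul]
    exact key _ _ (mul_mem (h.le' (h1 c)) (h.le' (h1 d))) (h.act_mul (h2 c) (h2 d) (h.le' (h1 d)))
  refine ⟨fun e => ?_, fun e => ?_⟩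
  · have k : ∀ g ∈ LT T, pr g = 1 → Act T θ g c → c.1 ∈ Q := fun g hg e a => by
      obtain ⟨q, -, rfl⟩ := exists_pq_of_snd e
      have hq := h.ok.pp_of_mem_LT hg
      rcases h.act_uniq (h.act_pq hq) a hg with k | k <;> rw [k]
      exacts [h.θmem hq, mul_mem h.pre.mem (h.θmem hq)]
    rcases prS_eq_one.1 e with e | e
    · exact k _ (h.le' (h1 c)) e (h2 c)
    · exact k _ (mul_mem (h.lt (cc_mem_FxS T)) (h.le' (h1 c)))
        (by rw [map_mul, pr_cc, e, co0Neg_mul_self]) (h2 c).cc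
  · obtain ⟨p, -, hp, k⟩ := h.exists_pq e
    have hq := pq_mem_FxS_iff.2 hp
    exact (key c ⟨_, h.ok.le_H hq⟩ (h.lt hq) (k ▸ h.act_pq hp)).trans
      (prS_eq_one.2 (Or.inl (pr_pq p)))

end PerpData

end Cfsg.Lib.Mon
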