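import Cfsg.Agent.LX.O6c

/-! The group `2^{1+6}_-.Ω₆⁻(2)` inside `Sp₈(3)`: matrices coded by numbers. -/

set_option autoImplicit false

namespace Cfsg.Lib.Mon.B3

open Subgroup Matrix Cfsg.Lib.LX.O6

abbrev F3 := ZMod 3
abbrev V8 := Fin 8 → ZMod 3
abbrev M8 := Matrix (Fin 8) (Fin 8) (ZMod 3)
abbrev G8 := M8ˣ

/-- Entry `(i, j)` of the matrix with code `n`. -/
def ent (n i j : ℕ) : ℕ := (n >>> (16 * i + 2 * j)) % 4
/-- The matrix with code `n`. -/
def dec (n : ℕ) : M8 := Matrix.of fun i j => ((ent n i.1 j.1 : ℕ) : ZMod 3)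
def prow (f : ℕ → ℕ) : ℕ := f 0 % 3 + 4 * (f 1 % 3 + 4 * (f 2 % 3 + 4 * (f 3 % 3 + 4 * (f 4 % 3 +
  4 * (f 5 % 3 + 4 * (f 6 % 3 + 4 * (f 7 % 3)))))))
/-- The code of a matrix. -/
def pk (f : ℕ → ℕ → ℕ) : ℕ := prow (f 0) + 65536 * (prow (f 1) + 65536 * (prow (f 2) + 65536 *
  (prow (f 3) + 65536 * (prow (f 4) + 65536 * (prow (f 5) + 65536 * (prow (f 6) + 65536 * prow (f 7)))))))
def dot (a b i j : ℕ) : ℕ := ent a i 0 * ent b 0 j + ent a i 1 * ent b 1 j + ent a i 2 * ent b 2 j +
  ent a i 3 * ent b 3 j + ent a i 4 * ent b 4 j + ent a i 5 * ent b 5 j + ent a i 6 * ent b 6 j +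
  ent a i 7 * ent b 7 j
/-- Product. -/
def mm (a b : ℕ) : ℕ := pk (dot a b)
/-- Negative. -/
def ng (a : ℕ) : ℕ := pk fun i j => 2 * ent a i j
/-- Sum. -/
def ad (a b : ℕ) : ℕ := pk fun i j => ent a i j + ent b i j
/-- Adjoint for the symplectic form. -/
def iv (a : ℕ) : ℕ := pk fun i j => (1 + (i + j) % 2) * ent a (j ^^^ 1) (i ^^^ 1)
/-- Identity. -/
def en : ℕ := 85070916250026219054240312625736187905

theorem prow_lt (f : ℕ → ℕ) : prow f < 65536 := by unfold prow; omega

theorem ent_pk (f : ℕ → ℕ → ℕ) (i j : Fin 8) : ent (pk f) i j = f i j % 3 := by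
  have h : ent (pk f) i j = (pk f / 65536 ^ i.1 % 65536) / 4 ^ j.1 % 4 := by
    rw [ent, Nat.shiftRight_eq_div_pow, pow_add, pow_mul, pow_mul, ← Nat.div_div_eq_div_mul]
    generalize pk f / (2 ^ 16) ^ i.1 = x
    fin_cases j <;> simp only [Nat.reducePow] <;> omega
  have hr : pk f / 65536 ^ i.1 % 65536 = prow (f i) := by
    have h0 := prow_lt (f 0); have h1 := prow_lt (f 1); have h2 := prow_lt (f 2)
    have h3 := prow_lt (f 3); have h4 := prow_lt (f 4); have h5 := prow_lt (f 5)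
    have h6 := prow_lt (f 6); have h7 := prow_lt (f 7)
    unfold pk
    fin_cases i <;> simp only [Nat.reducePow] <;> omega
  rw [h, hr]
  generalize f i = g
  unfold prow
  fin_cases j <;> simp only [Nat.reducePow] <;> omega

theorem dec_pk (f : ℕ → ℕ → ℕ) (i j : Fin 8) : dec (pk f) i j = ((f i j : ℕ) : ZMod 3) := by
  rw [dec, of_apply, ent_pk, ZMod.natCast_mod]

theorem dec_mm (a b : ℕ) : dec (mm a b) = dec a * dec b := by
  ext i j
  rw [mm, dec_pk, mul_apply, Fin.sum_univ_eight]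
  simp [dot, dec]

theorem dec_ng (a : ℕ) : dec (ng a) = -dec a := by
  ext i j
  rw [ng, dec_pk, neg_apply, Nat.cast_mul, dec, of_apply, show ((2 : ℕ) : ZMod 3) = -1 from rfl, neg_one_mul]

theorem dec_ad (a b : ℕ) : dec (ad a b) = dec a + dec b := by
  ext i j
  rw [ad, dec_pk, Matrix.add_apply, Nat.cast_add]; rfl

theorem dec_en : dec en = 1 := by decide +kernel

/-- The symplectic form. -/
def B0 (u v : V8) : ZMod 3 := u 0 * v 1 - u 1 * v 0 + (u 2 * v 3 - u 3 * v 2) + (u 4 * v 5 - u 5 * v 4) +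
  (u 6 * v 7 - u 7 * v 6)

theorem B0_add (u v w : V8) : B0 (u + v) w = B0 u w + B0 v w := by simp only [B0, Pi.add_apply]; ring
theorem B0_add' (u v w : V8) : B0 u (v + w) = B0 u v + B0 u w := by simp only [B0, Pi.add_apply]; ring
theorem B0_sub (u v w : V8) : B0 (u - v) w = B0 u w - B0 v w := by simp only [B0, Pi.sub_apply]; ring
theorem B0_sub' (u v w : V8) : B0 u (v - w) = B0 u v - B0 u w := by simp only [B0, Pi.sub_apply]; ring
theorem B0_neg (u v : V8) : B0 (-u) v = -B0 u v := by simp only [B0, Pi.neg_apply]; ring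
theorem B0_neg' (u v : V8) : B0 u (-v) = -B0 u v := by simp only [B0, Pi.neg_apply]; ring
theorem B0_smul (c : ZMod 3) (u v : V8) : B0 (c • u) v = c * B0 u v := by
  simp only [B0, Pi.smul_apply, smul_eq_mul]; ring
theorem B0_smul' (c : ZMod 3) (u v : V8) : B0 u (c • v) = c * B0 u v := by
  simp only [B0, Pi.smul_apply, smul_eq_mul]; ring
theorem B0_self (u : V8) : B0 u u = 0 := by simp only [B0]; ring
theorem B0_swap (u v : V8) : B0 u v = -B0 v u := by simp only [B0]; ring
theorem B0_zero (u : V8) : B0 0 u = 0 := by simp [B0]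
theorem B0_zero' (u : V8) : B0 u 0 = 0 := by simp [B0]

theorem eq_zero_of_B0 {v : V8} (h : ∀ u, B0 u v = 0) : v = 0 := by
  have h0 := h (Pi.single 0 1); have h1 := h (Pi.single 1 1); have h2 := h (Pi.single 2 1)
  have h3 := h (Pi.single 3 1); have h4 := h (Pi.single 4 1); have h5 := h (Pi.single 5 1)
  have h6 := h (Pi.single 6 1); have h7 := h (Pi.single 7 1)
  simp [B0] at h0 h1 h2 h3 h4 h5 h6 h7
  ext i; fin_cases i <;> simp [*]

theorem exists_B0 {v : V8} (h : v ≠ 0) (c : ZMod 3) : ∃ u, B0 u v = c := by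
  obtain ⟨u, hu⟩ := not_forall.1 fun k => h (eq_zero_of_B0 k)
  exact ⟨(c * B0 u v) • u, by
    rw [B0_smul, mul_assoc, show B0 u v * B0 u v = 1 by revert hu; generalize B0 u v = x; revert x; decide,
      mul_one]⟩

theorem B0_adj (a : ℕ) (u v : V8) : B0 (dec a *ᵥ u) v = B0 u (dec (iv a) *ᵥ v) := by
  have e : ∀ i j : Fin 8, dec (iv a) i j = ((1 + (i.1 + j.1) % 2 : ℕ) : ZMod 3) *
      ((ent a (j.1 ^^^ 1) (i.1 ^^^ 1) : ℕ) : ZMod 3) := fun i j => by rw [iv, dec_pk, Nat.cast_mul]
  have t : ((2 : ℕ) : ZMod 3) = -1 := rfl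
  simp only [B0, mulVec, dotProduct, Fin.sum_univ_eight, e]
  simp only [dec, of_apply, Fin.isValue, Fin.coe_ofNat_eq_mod, Nat.reduceMod, Nat.reduceAdd, Nat.reduceXor,
    Nat.cast_one, t]
  ring

/-- The symplectic group. -/
def Sp : Subgroup G8 where
  carrier := {g | ∀ u v, B0 (g.1 *ᵥ u) (g.1 *ᵥ v) = B0 u v}
  one_mem' u v := by simp
  mul_mem' {a b} ha hb u v := by rw [Units.val_mul, ← mulVec_mulVec, ← mulVec_mulVec, ha, hb]
  inv_mem' {a} ha u v := by
    rw [← ha, mulVec_mulVec, mulVec_mulVec, Units.mul_inv, one_mulVec, one_mulVec]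

theorem mem_Sp {g : G8} : g ∈ Sp ↔ ∀ u v, B0 (g.1 *ᵥ u) (g.1 *ᵥ v) = B0 u v := Iff.rfl

theorem exists_gl : ∃ f : ℕ → G8, ∀ a, IsUnit (dec a) → (f a).1 = dec a := by
  classical
  exact ⟨fun a => if h : IsUnit (dec a) then h.unit else 1, fun a h => by simp only [dif_pos h]; rfl⟩

/-- The invertible matrix with code `a`. -/
noncomputable def gl : ℕ → G8 := exists_gl.choose

theorem gl_val' {a : ℕ} (h : IsUnit (dec a)) : (gl a).1 = dec a := exists_gl.choose_spec a h

attribute [irreducible] gl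

theorem unit_of {a b : ℕ} (h : mm a b = en) : IsUnit (dec a) :=
  IsUnit.of_mul_eq_one (dec b) (by rw [← dec_mm, h, dec_en])

/-- The code of a symplectic matrix. -/
def ok (a : ℕ) : Prop := mm a (iv a) = en

instance (a : ℕ) : Decidable (ok a) := inferInstanceAs (Decidable (_ = _))

theorem ok.unit {a : ℕ} (h : ok a) : IsUnit (dec a) := unit_of h
theorem ok.val {a : ℕ} (h : ok a) : (gl a).1 = dec a := gl_val' h.unit

theorem gl_mul' {a b : ℕ} (ha : IsUnit (dec a)) (hb : IsUnit (dec b)) : gl a * gl b = gl (mm a b) :=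
  Units.ext (by rw [Units.val_mul, gl_val' ha, gl_val' hb, gl_val' (dec_mm a b ▸ ha.mul hb), dec_mm])

theorem gl_mul {a b : ℕ} (ha : ok a) (hb : ok b) : gl a * gl b = gl (mm a b) := gl_mul' ha.unit hb.unit

theorem gl_en : gl en = 1 := Units.ext (by rw [gl_val' (dec_en ▸ isUnit_one), dec_en]; rfl)

theorem gl_ng' {a : ℕ} (ha : IsUnit (dec a)) : gl (ng a) = -gl a :=
  Units.ext (by rw [gl_val' (dec_ng a ▸ ha.neg), dec_ng, Units.val_neg, gl_val' ha])

theorem gl_ng {a : ℕ} (ha : ok a) : gl (ng a) = -gl a := gl_ng' ha.unit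

theorem gl_inv' {a b : ℕ} (h : mm a b = en) : (gl a)⁻¹ = gl b := by
  have e : dec a * dec b = 1 := by rw [← dec_mm, h, dec_en]
  rw [inv_eq_iff_mul_eq_one, gl_mul' (unit_of h) (IsUnit.of_mul_eq_one _ (mul_eq_one_comm.1 e)), h, gl_en]

theorem gl_inv {a : ℕ} (h : ok a) : (gl a)⁻¹ = gl (iv a) := gl_inv' h

theorem ok.unit_iv {a : ℕ} (h : ok a) : IsUnit (dec (iv a)) :=
  IsUnit.of_mul_eq_one (dec a) (mul_eq_one_comm.1 (by rw [← dec_mm, h, dec_en]))

theorem gl_conj {a b : ℕ} (ha : ok a) (hb : ok b) : gl a * gl b * (gl a)⁻¹ = gl (mm (mm a b) (iv a)) := by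
  rw [gl_mul ha hb, gl_inv ha, gl_mul' (dec_mm a b ▸ ha.unit.mul hb.unit) ha.unit_iv]

theorem ok.sp {a : ℕ} (h : ok a) : gl a ∈ Sp := fun u v => by
  rw [h.val, B0_adj, mulVec_mulVec, mul_eq_one_comm.1 (by rw [← dec_mm, h, dec_en] : dec a * dec (iv a) = 1),
    one_mulVec]

theorem gl_ne {a b : ℕ} (ha : ok a) (hb : ok b) (h : dec a ≠ dec b) : gl a ≠ gl b := fun e =>
  h (by rw [← ha.val, e, hb.val])

/-- The table of the extraspecial group. -/
def RT : ℕ := 0x500060000500065000600005000600009000500009000590005000090005000010008000010008100080000100080000400010000400014000100004000100500060000a00090000a00090000500069000500006000a00006000a00009000510008000020004000020004000010008400010000800020000800020000400010a000900a0009000000500060050006006000a006000a000000900050090005002000400200040000001000800100080080002008000200000040001004000100005000600a0009005000600a000900000090005006000a0090005006000a000000100080020004001000800200040000004000100800020040001008000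2000000a00090050006005000600a00090000006000a00900050090005006000a000000200040010008001000800200040000008000200400010040001008000200005000600500060000005000600500060090005009000500000090005009000500100080010008000000100080010008004000100400010000004000100400010500060000a00090000500060000a00099000500006000a00009000500006000a10008000020004000010008000020004400010000800020000400010000800020050006000050006a00090000a00090000900050000900056000a00006000a000010008000010008200040000200040000400010000400018000200008000200500060000500060000a00090000a00099000500009000500006000a00006000a100080000100080000200040000200044000100004000100008000200008000200a0009000050006a000900005000600006000a0000900056000a0000900050000200040000100082000400001000800008000200004000180002000040001000005000600500060050006005000600000090005009000500900050090005000000100080010008001000800100080000004000100400010040001004000100005000600a0009000000a000900500060090005006000a0000006000a0090005001000800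200040000002000400100080040001008000200000080002004000100a00090050006000000a00090050006006000a00900050000006000a009000500200040010008000000200040010008008000200400010000008000200400010000a000900a0009005000600500060000006000a006000a00900050090005000000200040020004001000800100080000008000200800020040001004000100000a0009000050006500060000a000900006000a0000900059000500006000a00002000400001000810008000020004000080002000040001400010000800020050006000050006000050006000050006900050000900050000900050000900051000800001000800001000800001000840001000040001000040001000040001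
def rn (k : ℕ) : ℕ := (RT >>> (128 * k)) % 2 ^ 128
theorem exists_rr : ∃ f : Y6 → G8, ∀ y, f y = gl (rn (enc y)) := ⟨_, fun _ => rfl⟩
/-- A section of the extraspecial group. -/
noncomputable def rr : Y6 → G8 := exists_rr.choose

theorem rr_def (y : Y6) : rr y = gl (rn (enc y)) := exists_rr.choose_spec y

attribute [irreducible] rr

attribute [irreducible] pk RT

theorem rn_ok : ∀ k ∈ R64, ok (rn k) ∧ mm (rn k) (rn k) = (if qn k = 0 then en else ng en) ∧
    (dec (rn k) = 1 ∨ dec (rn k) = -1 → k = 0) := by decide +kernel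

def PM (a b : ℕ) : Prop := mm (rn a) (rn b) = rn (a ^^^ b) ∨ mm (rn a) (rn b) = ng (rn (a ^^^ b))
instance (a b : ℕ) : Decidable (PM a b) := inferInstanceAs (Decidable (_ ∨ _))

theorem pm0 : ∀ a ∈ E6, ∀ b ∈ R64, PM a b := by decide +kernel

theorem enc_mem (y : Y6) : enc y ∈ R64 := (enc_facts.2 y (mem64 y)).1
theorem rr_ok (y : Y6) : ok (rn (enc y)) := (rn_ok _ (enc_mem y)).1

theorem rr_zero : rr 0 = 1 := by
  rw [← gl_en, rr_def]; exact congrArg gl (by decide +kernel)

theorem rr_mul' {x : Y6} (hx : x ∈ B6) (y : Y6) : rr x * rr y = rr (x + y) ∨ rr x * rr y = -rr (x + y) := by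
  have h : PM (enc x) (enc y) := pm0 _ (List.mem_map_of_mem hx) _ (enc_mem y)
  rw [rr_def, rr_def, gl_mul (rr_ok x) (rr_ok y), rr_def, ← gl_ng (rr_ok _), ← enc_xor]
  exact h.imp (congrArg gl) (congrArg gl)

theorem y_ind {P : Y6 → Prop} (h0 : P 0) (h : ∀ b ∈ B6, ∀ y, P y → P (b + y)) (y : Y6) : P y := by
  have s : ∀ (c : ZMod 2), ∀ b ∈ B6, ∀ y, P y → P (c • b + y) := fun c b hb y hy => by
    rcases LX.z2_cases c with rfl | rfl
    exacts [by rwa [zero_smul, zero_add], by rw [one_smul]; exact h b hb y hy]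
  rw [show y = y.1.1 • n1 + (y.1.2 • m1 + (y.2.1.1 • n2 + (y.2.1.2 • m2 + (y.2.2.1 • n3 +
    (y.2.2.2 • m3 + 0))))) by ext <;> simp [n1, m1, n2, m2, n3, m3]]
  iterate 6 refine s _ _ (by simp [B6]) _ ?_
  exact h0

theorem pm_aux {u v w r s t : G8} (h1 : r * s = u ∨ r * s = -u) (h2 : r * w = v ∨ r * w = -v)
    (ih : s * t = w ∨ s * t = -w) : u * t = v ∨ u * t = -v := by
  have h3 : u = r * s ∨ u = -(r * s) := h1.imp Eq.symm fun e => by rw [e, neg_neg]
  rcases h3 with rfl | rfl <;> rcases ih with ih | ih <;> rcases h2 with h2 | h2 <;>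
    simp [mul_assoc, ih, h2]

theorem rr_mul (x y : Y6) : rr x * rr y = rr (x + y) ∨ rr x * rr y = -rr (x + y) := by
  refine y_ind (P := fun x => rr x * rr y = rr (x + y) ∨ rr x * rr y = -rr (x + y)) ?_ (fun b hb x ih => ?_) x
  · have e : rr 0 * rr y = rr (0 + y) := by rw [rr_zero, one_mul, zero_add]
    exact Or.inl e
  · have := pm_aux (rr_mul' hb x) (rr_mul' hb (x + y)) ih
    rwa [← add_assoc] at this

theorem gl_neg_one : gl (ng en) = -1 := by rw [gl_ng (by decide +kernel), gl_en]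

theorem rr_sq (y : Y6) : rr y * rr y = if q6 y = 0 then 1 else -1 := by
  rw [rr_def, gl_mul (rr_ok y) (rr_ok y), (rn_ok _ (enc_mem y)).2.1, qn_enc]
  simp only [val0]
  split_ifs
  exacts [gl_en, gl_neg_one]

theorem rr_eq_one {y : Y6} (h : rr y = 1 ∨ rr y = -1) : y = 0 := by
  refine enc_inj.1 ((rn_ok _ (enc_mem y)).2.2 ?_)
  rw [← (rr_ok y).val, ← rr_def]
  exact h.imp (fun e => congrArg Units.val e) fun e => congrArg Units.val e

theorem y_add_self (y : Y6) : y + y = 0 := by revert y; exact all64 (by decide +kernel)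

theorem rr_inv (y : Y6) : (rr y)⁻¹ = rr y ∨ (rr y)⁻¹ = -rr y := by
  have := rr_sq y
  split_ifs at this
  · exact Or.inl (inv_eq_of_mul_eq_one_right this)
  · exact Or.inr (inv_eq_of_mul_eq_one_right (by rw [mul_neg, this, neg_neg]))

theorem rr_inj {x y : Y6} (h : rr x = rr y ∨ rr x = -rr y) : x = y := by
  have e : x + y = 0 := by
    refine rr_eq_one ?_
    have k := rr_sq y
    have m := rr_mul x y
    generalize rr x = a, rr y = b, rr (x + y) = c at *
    have k' : b * b = 1 ∨ b * b = -1 := by split_ifs at k; exacts [Or.inl k, Or.inr k]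
    rcases h with rfl | rfl <;> rcases k' with k | k <;> rcases m with m | m <;>
      simp only [neg_mul, k, neg_neg, neg_inj] at m <;> simp [m, ← neg_eq_iff_eq_neg]
  rw [← add_zero x, ← y_add_self y, ← add_assoc, e, zero_add]

/-- The extraspecial group of order `2 ^ 7`. -/
def R0 : Subgroup G8 where
  carrier := {g | ∃ y, g = rr y ∨ g = -rr y}
  one_mem' := ⟨0, Or.inl rr_zero.symm⟩
  mul_mem' := by
    rintro a b ⟨x, h | h⟩ ⟨y, k | k⟩ <;> refine ⟨x + y, ?_⟩ <;> rcases rr_mul x y with e | e <;>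
      simp [h, k, e]
  inv_mem' := by
    rintro a ⟨x, k | k⟩ <;> refine ⟨x, ?_⟩ <;> rcases rr_inv x with h | h <;> simp [k, h, inv_neg]

theorem mem_R0 {g : G8} : g ∈ R0 ↔ ∃ y, g = rr y ∨ g = -rr y := Iff.rfl
theorem rr_mem (y : Y6) : rr y ∈ R0 := ⟨y, Or.inl rfl⟩
theorem neg_one_mem : (-1 : G8) ∈ R0 := ⟨0, Or.inr (by rw [rr_zero])⟩

theorem neg_mem_of {S : Subgroup G8} (h1 : -1 ∈ S) {g : G8} (h : g ∈ S) : -g ∈ S := by
  rw [← neg_one_mul]; exact S.mul_mem h1 h

theorem neg_one_sp : (-1 : G8) ∈ Sp := fun u v => by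
  simp only [Units.val_neg, Units.val_one, neg_mulVec, one_mulVec, B0_neg, B0_neg', neg_neg]

theorem R0_le_Sp : R0 ≤ Sp := by
  rintro _ ⟨y, e | e⟩ <;> rw [e]
  exacts [rr_def y ▸ (rr_ok y).sp, neg_mem_of neg_one_sp (rr_def y ▸ (rr_ok y).sp)]

/-- A subgroup containing `-1` and the six basic elements contains `R0`. -/
theorem R0_le {S : Subgroup G8} (h1 : -1 ∈ S) (h : ∀ y ∈ B6, rr y ∈ S) : R0 ≤ S := by
  have a : ∀ x y, rr x ∈ S → rr y ∈ S → rr (x + y) ∈ S := fun x y hx hy => by
    rcases rr_mul x y with e | e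
    · exact e ▸ S.mul_mem hx hy
    · have := neg_mem_of h1 (S.mul_mem hx hy); rwa [e, neg_neg] at this
  have k : ∀ y, rr y ∈ S := y_ind (rr_zero ▸ S.one_mem) fun b hb y hy => a _ _ (h b hb) hy
  rintro _ ⟨y, e | e⟩ <;> rw [e]
  exacts [k y, neg_mem_of h1 (k y)]

/-- The normaliser of `R0` in the symplectic group. -/
def Nn : Subgroup G8 := Sp ⊓ normalizer (R0 : Set G8)

theorem R0_le_Nn : R0 ≤ Nn := le_inf R0_le_Sp le_normalizer

theorem mem_norm_R0 {g : G8} (h : ∀ y ∈ B6, g * rr y * g⁻¹ ∈ R0) : g ∈ normalizer (R0 : Set G8) := by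
  refine mem_normalizer_fintype fun n hn => ?_
  have e : ∀ x, x ∈ R0.comap (MulAut.conj g).toMonoidHom ↔ g * x * g⁻¹ ∈ R0 := fun _ => mem_comap
  refine (e _).1 (R0_le ((e _).2 ?_) (fun y hy => (e _).2 (h y hy)) hn)
  rw [mul_neg_one, neg_mul, mul_inv_cancel]; exact neg_one_mem

/-- Membership of a code in `R0`. -/
def inR (a : ℕ) : Prop := ∃ k ∈ R64, a = rn k ∨ a = ng (rn k)
instance (a : ℕ) : Decidable (inR a) := inferInstanceAs (Decidable (∃ _ ∈ _, _))

theorem inR.mem {a : ℕ} (h : inR a) : gl a ∈ R0 := by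
  obtain ⟨k, hk, e⟩ := h
  obtain ⟨y, rfl⟩ : ∃ y, enc y = k := ⟨_, enc_facts.1 k hk⟩
  rcases e with e | e <;> rw [e]
  · rw [← rr_def]; exact rr_mem y
  · rw [gl_ng (rr_ok y), ← rr_def]; exact neg_mem_of neg_one_mem (rr_mem y)

/-- Membership of a code in `Nn`. -/
def inN (a : ℕ) : Prop := ok a ∧ ∀ k ∈ E6, inR (mm (mm a (rn k)) (iv a))
instance (a : ℕ) : Decidable (inN a) := inferInstanceAs (Decidable (_ ∧ _))

theorem inN.mem {a : ℕ} (h : inN a) : gl a ∈ Nn :=
  ⟨h.1.sp, mem_norm_R0 fun y hy => by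
    rw [rr_def, gl_conj h.1 (rr_ok y)]; exact (h.2 _ (List.mem_map_of_mem hy)).mem⟩

def nX1 : ℕ := 332308266601664922792259462862209280
def nZ1 : ℕ := 170141832500052438108462610784243154945
def nX2 : ℕ := 5316932285356383329716588405288075280
def nZ2 : ℕ := 170141832498814493346828762106927775745
def nI : ℕ := 21270244081297444169032890387919863816
def nJ : ℕ := 191410453988581566532047185167465906181
def nt1 : ℕ := 85073512398455524246986441380818321417
def nt2 : ℕ := 90740926088535892592474040986490904865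
def nt3 : ℕ := 96410935867537174565951992091101106465
def nsg : ℕ := 93890116574079389482292567932708144721
def npi : ℕ := 85070916248865645840174802364765569280
def nc0 : ℕ := 85073512397294915615172309082112526592
/-- The reflection in the plane `p` (coordinates `2p`, `2p+1`). -/
def ns (p : Fin 4) : ℕ := en + 262145 * 2 ^ (36 * p.1)

noncomputable def sp (p : Fin 4) : G8 := gl (ns p)
noncomputable def c0 : G8 := gl nc0

theorem named_inN : (∀ a ∈ [nX1, nZ1, nX2, nZ2, nI, nJ], inR a ∧ ok a) ∧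
    (∀ a ∈ [nt1, nt2, nt3, nsg, npi, nc0], inN a) ∧ ∀ p, inN (ns p) := by decide +kernel

theorem sp_mem (p : Fin 4) : sp p ∈ Nn := (named_inN.2.2 p).mem
theorem c0_mem : c0 ∈ Nn := (named_inN.2.1 _ (by simp)).mem
theorem ns_ok (p : Fin 4) : ok (ns p) := (named_inN.2.2 p).1

theorem sp_ap (p : Fin 4) (v : V8) (i : Fin 8) : ((sp p).1 *ᵥ v) i = if i.1 / 2 = p.1 then -v i else v i := by
  have : ∀ p : Fin 4, dec (ns p) = diagonal fun i : Fin 8 => if i.1 / 2 = p.1 then -1 else 1 := by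
    decide +kernel
  rw [sp, (ns_ok p).val, this, mulVec_diagonal]
  split_ifs <;> simp

/-- The six standard generators generate `R0`. -/
theorem R0_le' {S : Subgroup G8} (h : ∀ a ∈ [nX1, nZ1, nX2, nZ2, nI, nJ], gl a ∈ S) : R0 ≤ S := by
  have o := fun a ha => (named_inN.1 a ha).2
  have m : ∀ {a b}, ok a ∧ gl a ∈ S → ok b ∧ gl b ∈ S → ok (mm a b) → ok (mm a b) ∧ gl (mm a b) ∈ S :=
    fun ha hb k => ⟨k, gl_mul ha.1 hb.1 ▸ S.mul_mem ha.2 hb.2⟩
  have x1 : ok nX1 ∧ gl nX1 ∈ S := ⟨o _ (by simp), h _ (by simp)⟩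
  have z1 : ok nZ1 ∧ gl nZ1 ∈ S := ⟨o _ (by simp), h _ (by simp)⟩
  have x2 : ok nX2 ∧ gl nX2 ∈ S := ⟨o _ (by simp), h _ (by simp)⟩
  have z2 : ok nZ2 ∧ gl nZ2 ∈ S := ⟨o _ (by simp), h _ (by simp)⟩
  have hi : ok nI ∧ gl nI ∈ S := ⟨o _ (by simp), h _ (by simp)⟩
  have hj : ok nJ ∧ gl nJ ∈ S := ⟨o _ (by simp), h _ (by simp)⟩
  have h1 : -1 ∈ S := by
    have := (m hi hi (by decide +kernel)).2
    rwa [show mm nI nI = ng en by decide +kernel, gl_neg_one] at this
  have f : ∀ {a} (y : Y6), ok a ∧ gl a ∈ S → a = rn (enc y) ∨ a = ng (rn (enc y)) → rr y ∈ S := by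
    rintro _ y k (e | e) <;> rw [e] at k
    · rw [rr_def]; exact k.2
    · have := neg_mem_of h1 k.2; rwa [gl_ng (rr_ok y), neg_neg, ← rr_def] at this
  refine R0_le h1 fun y hy => ?_
  simp only [B6, List.mem_cons, List.not_mem_nil, or_false] at hy
  rcases hy with rfl | rfl | rfl | rfl | rfl | rfl
  · exact f _ hi (by decide +kernel)
  · exact f _ hj (by decide +kernel)
  · exact f _ (m (m x1 z1 (by decide +kernel)) z2 (by decide +kernel)) (by decide +kernel)
  · exact f _ (m (m x1 z1 (by decide +kernel)) x2 (by decide +kernel)) (by decide +kernel)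
  · exact f _ (m (m z1 x2 (by decide +kernel)) z2 (by decide +kernel)) (by decide +kernel)
  · exact f _ (m x1 z1 (by decide +kernel)) (by decide +kernel)

/-- The subgroup of index 40. -/
def X0 : Subgroup G8 where
  carrier := {g | g ∈ Nn ∧ g * c0 * g⁻¹ * c0⁻¹ ∈ R0}
  one_mem' := ⟨Nn.one_mem, by simp⟩
  mul_mem' {a b} ha hb := ⟨Nn.mul_mem ha.1 hb.1, by
    have := R0.mul_mem ((mem_normalizer_iff.1 ha.1.2 _).1 hb.2) ha.2
    convert this using 1; group⟩
  inv_mem' {a} ha := ⟨Nn.inv_mem ha.1, by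
    have := (mem_normalizer_iff.1 (Nn.inv_mem ha.1).2 _).1 (R0.inv_mem ha.2)
    convert this using 1; group⟩

theorem mem_X0 {g : G8} : g ∈ X0 ↔ g ∈ Nn ∧ g * c0 * g⁻¹ * c0⁻¹ ∈ R0 := Iff.rfl
theorem X0_le : X0 ≤ Nn := fun _ h => h.1

theorem R0_le_X0 : R0 ≤ X0 := fun r hr => ⟨R0_le_Nn hr, by
  have := R0.mul_mem hr ((mem_normalizer_iff.1 c0_mem.2 _).1 (R0.inv_mem hr))
  convert this using 1; group⟩

/-- Membership of a code in `X0`. -/
def inX (a : ℕ) : Prop := inN a ∧ inR (mm (mm (mm a nc0) (iv a)) (iv nc0))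
instance (a : ℕ) : Decidable (inX a) := inferInstanceAs (Decidable (_ ∧ _))

theorem inX.mem {a : ℕ} (h : inX a) : gl a ∈ X0 := ⟨h.1.mem, by
  have o : ok nc0 := (named_inN.2.1 _ (by simp)).1
  rw [c0, gl_conj h.1.1 o, gl_inv o, gl_mul' _ o.unit_iv]
  · exact h.2.mem
  · rw [dec_mm, dec_mm]; exact (h.1.1.unit.mul o.unit).mul h.1.1.unit_iv⟩

theorem sp_mem_X0 (p : Fin 4) : sp p ∈ X0 :=
  inX.mem ((by decide +kernel : ∀ p, inX (ns p)) p)
theorem c0_mem_X0 : c0 ∈ X0 := ⟨c0_mem, by simp⟩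

end Cfsg.Lib.Mon.B3
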