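import Cfsg.Agent.Mon.B3Pa

/-! The `3`-subgroups of `Nn`. -/

set_option autoImplicit false

namespace Cfsg.Lib.Mon.B3

open Subgroup Matrix Module Pa

theorem B0_Cv_Iv {g : G8} (hg : g ∈ Sp) {c v : V8} (hc : c ∈ Cv g) (hv : v ∈ Iv g) : B0 c v = 0 := by
  obtain ⟨u, rfl⟩ := mem_Iv.1 hv
  rw [B0_sub', ← hg c u, mem_Cv.1 hc, sub_self]

theorem perp {g : G8} (hg : g ∈ Sp) {v : V8} (h : ∀ c ∈ Cv g, B0 c v = 0) : v ∈ Iv g := by
  let B : LinearMap.BilinForm (ZMod 3) V8 := LinearMap.mk₂ _ B0 B0_add B0_smul B0_add' B0_smul'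
  have hB : B.Nondegenerate := ⟨fun x k => eq_zero_of_B0 fun u => by rw [B0_swap, neg_eq_zero]; exact k u,
    fun x k => eq_zero_of_B0 k⟩
  have e1 : finrank (ZMod 3) (Iv g) + finrank (ZMod 3) (Cv g) = finrank (ZMod 3) V8 := by
    unfold Iv Cv; exact LinearMap.finrank_range_add_finrank_ker _
  have e2 : finrank (ZMod 3) (B.orthogonal (Cv g)) = finrank (ZMod 3) V8 - finrank (ZMod 3) (Cv g) :=
    LinearMap.BilinForm.finrank_orthogonal hB _
  have e : Iv g = B.orthogonal (Cv g) := Submodule.eq_of_le_of_finrank_eq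
    (fun _ hv _ hc => B0_Cv_Iv hg hc hv) ((Nat.eq_sub_of_add_eq e1).trans e2.symm)
  rw [e]; exact h

namespace Pb

/-- The type of an element of order three, with a distinguished vector. -/
def Ty (g : G8) (v : V8) : Prop := ((finrank (ZMod 3) (Cv g) = 4 ∧ Cv g ≤ Iv g) ∨
    (finrank (ZMod 3) (Cv g) = 4 ∧ Cv g ⊓ Iv g ≤ I2 g ∧ finrank (ZMod 3) (I2 g) = 2) ∨
    (finrank (ZMod 3) (Cv g) = 3 ∧ Cv g ≤ Iv g ∧ finrank (ZMod 3) (I2 g) = 2)) ∧
  v ∈ Iv g ∧ (finrank (ZMod 3) (Cv g) = 3 → v ∈ I2 g)

noncomputable def eqv (n : G8) : V8 ≃ₗ[ZMod 3] V8 := LinearEquiv.ofLinearMap (toLin' n.1) (toLin' n⁻¹.1)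
  (by rw [← toLin'_mul, Units.mul_inv, toLin'_one]) (by rw [← toLin'_mul, Units.inv_mul, toLin'_one])

theorem lin_cj (n : G8) (A : M8) : toLin' (n.1 * A * n⁻¹.1) =
    (eqv n).toLinearMap ∘ₗ (toLin' A ∘ₗ (eqv n).symm.toLinearMap) := by
  rw [mul_assoc, toLin'_mul, toLin'_mul]; rfl

theorem sub_cj (n g : G8) : (n * g * n⁻¹).1 - 1 = n.1 * (g.1 - 1) * n⁻¹.1 := by
  rw [mul_sub, sub_mul, mul_one, Units.mul_inv]; rfl

theorem Ty.cj {g : G8} {v : V8} (h : Ty g v) (n : G8) : Ty (n * g * n⁻¹) (n.1 *ᵥ v) := by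
  have r : ∀ A : M8, LinearMap.range (toLin' (n.1 * A * n⁻¹.1)) =
      (LinearMap.range (toLin' A)).map (eqv n).toLinearMap := fun A => by
    rw [lin_cj, LinearMap.range_comp, LinearEquiv.range_comp]
  have e1 : Cv (n * g * n⁻¹) = (Cv g).map (eqv n).toLinearMap := by
    rw [Cv, sub_cj, lin_cj, LinearEquiv.ker_comp, LinearMap.ker_comp, Submodule.map_equiv_eq_comap_symm, Cv]
  have e2 : Iv (n * g * n⁻¹) = (Iv g).map (eqv n).toLinearMap := by rw [Iv, sub_cj, r, Iv]
  have e3 : I2 (n * g * n⁻¹) = (I2 g).map (eqv n).toLinearMap := by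
    rw [I2, sub_cj, I2, ← r]
    simp only [mul_assoc, Units.inv_mul_cancel_left]
  have i : Function.Injective (eqv n).toLinearMap := (eqv n).injective
  rw [Ty, e1, e2, e3, ← Submodule.map_inf _ i]
  simp only [LinearEquiv.finrank_map_eq, Submodule.map_le_map_iff_of_injective i]
  exact ⟨h.1, ⟨v, h.2.1, rfl⟩, fun k => ⟨v, h.2.2 k, rfl⟩⟩

noncomputable def Co (s : Finset (Fin 8)) : Submodule (ZMod 3) V8 := Pi.spanSubset (ZMod 3) (s : Set (Fin 8))

theorem mem_Co {s : Finset (Fin 8)} {v : V8} : v ∈ Co s ↔ ∀ i ∉ s, v i = 0 := Pi.mem_spanSubset_iff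

theorem dim_Co (s : Finset (Fin 8)) : finrank (ZMod 3) (Co s) = s.card :=
  Pi.dim_spanSubset.trans (Set.ncard_coe_finset s)

theorem jord {g : G8} (s t u : Finset (Fin 8))
    (hg : g.1 = 1 + of fun i j => if i ∈ s ∧ j = i + 1 then 1 else 0)
    (h : (∀ i, i ∈ t ↔ i - 1 ∉ s) ∧ (∀ i, i ∈ u ↔ i ∈ s ∧ i + 1 ∈ s) ∧ ((t.card = 4 ∧ t ⊆ s) ∨
      (t.card = 4 ∧ (∀ i ∈ t, i ∈ s → i ∈ u) ∧ u.card = 2) ∨ (t.card = 3 ∧ t ⊆ s ∧ u.card = 2)) ∧ 0 ∈ s ∧
      (t.card = 3 → 0 ∈ u)) : Ty g (Pi.single 0 1) := by
  obtain ⟨ht, hu, h, h0, h1⟩ := h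
  have k : ∀ v : V8, g.1 *ᵥ v - v = fun i => if i ∈ s then v (i + 1) else 0 := fun v => by
    rw [hg, add_mulVec, one_mulVec, add_sub_cancel_left]
    ext i
    by_cases c : i ∈ s <;> simp [mulVec, dotProduct, c]
  have e1 : Cv g = Co t := by
    ext v
    rw [mem_Cv, mem_Co, ← sub_eq_zero, k, funext_iff]
    refine ⟨fun a i hi => ?_, fun a i => ?_⟩
    · simpa [not_not.1 (mt (ht i).2 hi)] using a (i - 1)
    · split_ifs with c
      exacts [a _ fun b => (ht _).1 b (by simpa using c), rfl]
  have e2 : Iv g = Co s := by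
    ext v
    simp only [mem_Iv, mem_Co, k]
    refine ⟨by rintro ⟨u, rfl⟩ i hi; exact if_neg hi, fun a => ⟨fun i => v (i - 1), funext fun i => ?_⟩⟩
    split_ifs with c
    exacts [by simp only [add_sub_cancel_right], (a i c).symm]
  have e3 : I2 g = Co u := by
    ext v
    simp only [mem_I2, mem_Co, k, hu]
    refine ⟨by rintro ⟨_, w, rfl, rfl⟩ i hi; by_cases c : i ∈ s <;> simp_all,
      fun a => ⟨_, fun i => v (i - 1 - 1), rfl, funext fun i => ?_⟩⟩
    split_ifs with c d
    exacts [by simp only [add_sub_cancel_right], (a i fun e => d e.2).symm,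
      (a i fun e => c e.1).symm]
  have m : ∀ {a b : Finset (Fin 8)}, a ⊆ b → Co a ≤ Co b := fun e _ hv =>
    mem_Co.2 fun i hi => mem_Co.1 hv i fun c => hi (e c)
  have z : ∀ {a : Finset (Fin 8)}, 0 ∈ a → Pi.single 0 1 ∈ Co a := fun e =>
    mem_Co.2 fun i hi => Pi.single_eq_of_ne (by rintro rfl; exact hi e) _
  rw [Ty, e1, e2, e3, dim_Co, dim_Co]
  refine ⟨h.imp (And.imp_right m) (Or.imp (And.imp_right (And.imp_left fun e v hv => mem_Co.2 fun i hi => ?_))
    (And.imp_right (And.imp_left m))), z h0, fun e => z (h1 e)⟩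
  by_cases c : i ∈ t
  exacts [mem_Co.1 hv.2 i fun d => hi (e i c d), mem_Co.1 hv.1 i c]

def JL : List ℕ := [85072214324240871650613377003277254661, 85070916250026237943778301698356019205,
  85072214324240871650685434322438324229]

theorem JL_unit : ∀ k ∈ JL, mm k (mm k k) = en := by decide +kernel

theorem JL_ty {k : ℕ} (h : k ∈ JL) : Ty (gl k) (Pi.single 0 1) := by
  have e := gl_val' (unit_of (JL_unit k h))
  simp only [JL, List.mem_cons, List.not_mem_nil, or_false] at h
  rcases h with rfl | rfl | rfl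
  · exact jord {0, 2, 4, 6} {0, 2, 4, 6} ∅ (e.trans (by decide +kernel)) (by decide +kernel)
  · exact jord {0, 1, 3, 4} {0, 3, 6, 7} {0, 3} (e.trans (by decide +kernel)) (by decide +kernel)
  · exact jord {0, 1, 3, 4, 6} {0, 3, 6} {0, 3} (e.trans (by decide +kernel)) (by decide +kernel)

def CP : ℕ := 0x96244a891622621696455096228889100000000000000000000000000000000000000000000000000000000000000000000000000000000000000000000000000000000000000000000000000000000004240220169100690188562aa0964681000000000000000000000000000000009608484115952a242602462a646859a40000000000000000000000000000000000000000000000000000000000000000000000000000000000000000000000002004661912958918828060a0528a465900000000000000000000000000000000082806200889819a419aa4665a88551100000000000000000000000000000000950490a26068298468128818948586990000000000000000000000000000000000000000000000000000000000000000000000000000000000000000000000004228448205401180009555084a0a1a22000000000000000000000000000000000904021459915aa68864460a8a2a64a80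0000000000000000000000000000000000000000000000000000000000000000000000000000000000000000000000000000000000000000000000000000000aa04496a1494a694501a901128514924042409205489999245828846a29489150000000000000000000000000000000000000000000000000000000000000000000000000000000000000000000000000000000000000000000000000000000005100a040056444428aa2812582268650000000000000000000000000000000006100808064524628919028460814a550000000000000000000000000000000000000000000000000000000000000000000000000000000000000000000000004220a64010828a49a4561908800a100600000000000000000000000000000000a9244a8218a0a6809025a022086a2108000000000000000000000000000000002a00484899199014659928912159809a0000000000000000000000000000000000000000000000000000000000000000000000000000000000000000000000001a2409850645aa081122a50614a8a16400000000000000000000000000000000610452615091994a422a841401445844000000000000000000000000000000000000000000000000000000000000000000000000000000000000000000000000000000000000000000000000000000004618a18a885aa26260054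40698a0690048205a08a168962520484a696658a8a188209504945059615a5081291550a485a400482065441a65646415616a5414494900659495508a955140a58115605a9909004444856026a145608aa101605091022004048988a11911882529698869295610545844086009920891412508a1954a101984962455a511148a555404692569249454819494016a48681998a04065492069902294a169aa9498596a9408598520a26490a4654554940449108419410500061858a0694544a0295564a0a55588206608688410652a9466a5a5a448154410a6289048a84911684a995658981998104010994810a992681291985819952110298858181119410860896228a159252046509a0496a588146209a5241461125881881148424524140809826081814a006a44a10815a5662882692018a511520091a091240869420452a524145421a5009a18a424820546a4686151649959a60016482908628146182449982804259520994444042909aa044589150460499a5426a448102565650882499a641411408014280484052180042041080486414400a68080489069880815814488221100000000000000000000000000000000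
def CQ : ℕ := 0x2a6165a686502111895a80a1202946440000000000000000000000000000000000000000000000000000000000000000000000000000000000000000000000000000000000000000000000000000000000290212094a2a26a21405194892909400000000000000000000000000000000548a5046816016852281410a66665a2400000000000000000000000000000000000000000000000000000000000000000000000000000000000000000000000021a60951810a286926a001954951929500000000000000000000000000000000018004810a942425540606a28289155400000000000000000000000000000000110119898016105229914506a412892400000000000000000000000000000000000000000000000000000000000000000000000000000000000000000000000049645a91401695a422458a10a9a08a0500000000000000000000000000000000084a06960a81926a51090614a856886a000000000000000000000000000000000000000000000000000000000000000000000000000000000000000000000000000000000000000000000000000000006822985540a16666485149022a5856aa086904100a941146610506a2481aa602000000000000000000000000000000000000000000000000000000000000000000000000000000000000000000000000000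0000000000000000000000000000008210211026a4a81a988061459280588000000000000000000000000000000000062024105198892624406852a26615a000000000000000000000000000000000000000000000000000000000000000000000000000000000000000000000000445a14180519494aa0948a10586960440000000000000000000000000000000094aa248280a119642910460125a401850000000000000000000000000000000068640888019586a29642409a2111501500000000000000000000000000000000000000000000000000000000000000000000000000000000000000000000000056250a26429096506080410a9804500800000000000000000000000000000000911495588520a146888045069601145900000000000000000000000000000000000000000000000000000000000000000000000000000000000000000000000000000000000000000000000000000000421890994650941254688601645a29a64519996404444a6259420195809a619a82a652500444495166090915028141081111a66604440a2698650999028588a64159aa8508880a6219028aaa9595020604800a140888488802264aaa119185a508a9085204448111a164022218885184206599640888859102504048242192208aaa9a0108880a6268448840a2902a5146a21029055542108a62198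2a94262600048005a044482a6250a4aaa61510521415914a50444448084258aaaa044242a089a00480444488805240aaaa666151282a6605608884aaa5205059100614414426a61600444866699200951842590141aaa599904440951818a0555018668091a494111088801599869808418561a645a4502a608888222002948041a4941a941596004022229a8895152541201110002a661a804448a62aa98848056102929aa851658044441115164484096988628859169598159a1910aaa68a9914a9624a209506108888951aa98484069641651182112180444051924a58048249a061149511884055581a480488004245662208444a1558480a1a04444915184846921088845154444666a804818a98080909400000000000000000000000000000000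
def cP (x : W) : ℕ := (CP >>> ix x) % 2 ^ 128
def cQ (x : W) : ℕ := (CQ >>> ix x) % 2 ^ 128
/-- The vector fixed by the base group. -/
def n0 : V8 := ![1, 0, 1, 0, 1, 0, 0, 0]

theorem cert : ∀ w ∈ LW, w ^ 3 = 1 → w ≠ 1 → mm (cP w) (cQ w) = en ∧
    (∃ k ∈ JL, mm (pc w) (cP w) = mm (cP w) k) ∧ (w.d = 0 → dec (cP w) *ᵥ Pi.single 0 1 = n0) := by
  decide +kernel

theorem ty_φ {w : W} (h3 : w ^ 3 = 1) (h1 : w ≠ 1) : ∃ v, Ty (φ w) v ∧ (w.d = 0 → v = n0) := by
  obtain ⟨a, ⟨k, hk, b⟩, c⟩ := cert w (mem_LW w) h3 h1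
  have := (JL_ty hk).cj (gl (cP w))
  rw [gl_mul' (unit_of a) (unit_of (JL_unit k hk)), ← b, ← gl_mul' (pc_ok w).1.unit (unit_of a),
    mul_inv_cancel_right, gl_val' (unit_of a)] at this
  exact ⟨_, this, c⟩

theorem fix_n0 {v : V8} (h : ∀ g ∈ [g1, g2, g3], (φ g).1 *ᵥ v = v) : v = v 0 • n0 := by
  have k : ∀ (a : ℕ), ∀ g ∈ [g1, g2, g3], dec (mm a (ad (pc g) (ng en))) *ᵥ v = 0 := fun a g hg => by
    rw [dec_mm, dec_ad, dec_ng, dec_en, ← mulVec_mulVec, add_mulVec, ← φ_val, h g hg, neg_mulVec, one_mulVec,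
      add_neg_cancel, mulVec_zero]
  have e : (1 : M8) = dec (mm 42535295865736277952573523265675460608 (ad (pc g1) (ng en))) +
      dec (mm 79228163141453636237107658752 (ad (pc g2) (ng en))) +
      dec (mm 158456325046975419269387386880 (ad (pc g3) (ng en))) + vecMulVec n0 (Pi.single 0 1) := by
    decide +kernel
  have := congrArg (· *ᵥ v) e
  simp only [add_mulVec, one_mulVec] at this
  rw [k _ _ (by simp), k _ _ (by simp), k _ _ (by simp), zero_add, zero_add, zero_add, vecMulVec_mulVec] at this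
  simpa using this

theorem cube {A : Subgroup G8} (h3 : ∀ a ∈ A, a ^ 3 = 1) {n : G8} {w : W} (h : n * φ w * n⁻¹ ∈ A) :
    w ^ 3 = 1 := cj_eq_one.1 (by rw [map_pow, ← conj_pow]; exact h3 _ h)

theorem card_le {B : Subgroup W} (p : W → Prop) [DecidablePred p] (h : ∀ w ∈ B, p w) :
    Nat.card B ≤ (Finset.univ.filter p).card := by
  rw [← Fintype.card_subtype, ← Nat.card_eq_fintype_card]
  exact Nat.card_le_card_of_injective (Subtype.map id h) (Subtype.map_injective h fun _ _ e => e)

theorem zp3 {g : G8} (h3 : g ^ 3 = 1) : ∀ a ∈ zpowers g, a ^ 3 = 1 := by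
  rintro _ ⟨m, rfl⟩
  rw [← zpow_natCast, ← _root_.zpow_mul, mul_comm, _root_.zpow_mul, zpow_natCast, h3, _root_.one_zpow]

theorem cen_W : ∀ w ∈ LW, w ≠ 1 →
    (∀ u ∈ [g1, g4], (u * w * u⁻¹ * w⁻¹) ^ 4 = 1) → w = gc ∨ w ^ 2 = gc := by decide +kernel

theorem full {X : Subgroup G8} (hX : X ≤ Nn) (h81 : 81 ∣ Nat.card X) {y : G8} (hy : y ∈ X) (y3 : y ^ 3 = 1) :
    ∃ n ∈ Nn, (∀ u, n * φ u * n⁻¹ ∈ X) ∧ ∃ w, y = n * φ w * n⁻¹ := by
  obtain ⟨Q, hQ⟩ := ((isP (zp3 y3)).comap_subtype (K := X)).exists_le_sylow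
  obtain ⟨n, hn, B, hcard, hB, hs⟩ := red ((map_subtype_le Q.1).trans hX) (Q.2.map _)
  have hT : B = ⊤ := by
    rw [← card_eq_iff_eq_top, card_W]
    refine Nat.dvd_antisymm (card_W ▸ B.card_subgroup_dvd_card) ?_
    rw [hcard, card_subtype]
    exact Q.pow_dvd_card_of_pow_dvd_card (n := 4) h81
  exact ⟨n, hn, fun u => map_subtype_le Q.1 ((hB u).1 (hT ▸ mem_top u)),
    hs y ⟨⟨y, hy⟩, hQ (mem_zpowers y), rfl⟩⟩

end Pb

open Pb

theorem ty {g : G8} (hg : g ∈ Nn) (h3 : g ^ 3 = 1) (h1 : g ≠ 1) :
    (finrank (ZMod 3) (Cv g) = 4 ∧ Cv g ≤ Iv g) ∨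
    (finrank (ZMod 3) (Cv g) = 4 ∧ Cv g ⊓ Iv g ≤ I2 g ∧ finrank (ZMod 3) (I2 g) = 2) ∨
    (finrank (ZMod 3) (Cv g) = 3 ∧ Cv g ≤ Iv g ∧ finrank (ZMod 3) (I2 g) = 2) := by
  have k := zp3 h3
  obtain ⟨n, -, B, -, -, h⟩ := red (zpowers_le_of_mem hg) (isP k)
  obtain ⟨w, rfl⟩ := h g (mem_zpowers g)
  obtain ⟨v, hv, -⟩ := ty_φ (cube k (mem_zpowers _)) (mt cj_eq_one.2 h1)
  exact (hv.cj n).1

theorem exp3 {A : Subgroup G8} (hA : A ≤ Nn) (h3 : ∀ a ∈ A, a ^ 3 = 1) : Nat.card A ≤ 27 := by
  obtain ⟨n, -, B, hc, hB, -⟩ := red hA (isP h3)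
  have h1 := card_le (fun w => w ^ 3 = 1) fun w hw => cube h3 ((hB w).1 hw)
  rw [(by decide +kernel : (Finset.univ.filter fun w : W => w ^ 3 = 1).card = 45)] at h1
  obtain ⟨m, h2⟩ := card_W ▸ B.card_subgroup_dvd_card
  rw [← hc]
  by_contra h4
  have : m < 3 := by nlinarith
  interval_cases m <;> omega

theorem ab27 {A : Subgroup G8} (hA : A ≤ Nn) (h3 : ∀ a ∈ A, a ^ 3 = 1)
    (hc : ∀ a ∈ A, ∀ b ∈ A, a * b = b * a) (h : Nat.card A = 27) :
    ∃ n : V8, (∀ v, (∀ a ∈ A, a.1 *ᵥ v = v) → ∃ k : ZMod 3, v = k • n) ∧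
      ∀ g ∈ A, g ≠ 1 → n ∈ Iv g ∧ (finrank (ZMod 3) (Cv g) = 3 → n ∈ I2 g) := by
  obtain ⟨n, -, B, hcard, hB, hs⟩ := red hA (isP h3)
  have d : ∀ w ∈ B, w.d = 0 := fun w hw => by
    by_contra hd
    have h1 := card_le (fun u => u * w = w * u) fun u hu => φ_inj ((MulAut.conj n).injective (by
      simpa only [map_mul, MulAut.conj_apply] using hc _ ((hB u).1 hu) _ ((hB w).1 hw)))
    rw [(by decide +kernel : ∀ w ∈ LW, w.d ≠ 0 → (Finset.univ.filter fun u => u * w = w * u).card = 9) w
      (mem_LW w) hd] at h1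
    omega
  have j : ∀ g ∈ [g1, g2, g3], g ∈ B := fun g hg => by
    by_contra hb
    have h1 := card_le (fun u => u.d = 0 ∧ u ≠ g) fun u hu => ⟨d u hu, fun e => hb (e ▸ hu)⟩
    rw [(by decide +kernel : ∀ g ∈ [g1, g2, g3], (Finset.univ.filter fun u : W => u.d = 0 ∧ u ≠ g).card = 26)
      g hg] at h1
    omega
  refine ⟨n.1 *ᵥ n0, fun v hv => ⟨(n⁻¹.1 *ᵥ v) 0, ?_⟩, fun g hg h1 => ?_⟩
  · rw [← mulVec_smul, ← fix_n0 fun g hg => ?_, mulVec_mulVec, Units.mul_inv, one_mulVec]
    conv_rhs => rw [← hv _ ((hB g).1 (j g hg))]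
    simp only [mulVec_mulVec, Units.val_mul, ← mul_assoc, Units.inv_mul, one_mul]
  · obtain ⟨w, rfl⟩ := hs g hg
    obtain ⟨v, hv, e⟩ := ty_φ (cube h3 hg) (mt cj_eq_one.2 h1)
    exact (e (d w ((hB w).2 hg)) ▸ hv.cj n).2

theorem conj_X0 {X : Subgroup G8} (hR : R0 ≤ X) (hX : X ≤ Nn) (h81 : 81 ∣ Nat.card X) {x : G8} (hx : x ∈ X)
    (hx' : x ∉ R0) (h3 : x ^ 3 ∈ R0) (hc : ∀ g ∈ X, g * x * g⁻¹ * x⁻¹ ∈ R0) :
    ∃ n ∈ Nn, ∀ g ∈ X, n * g * n⁻¹ ∈ X0 := by
  have p : ∀ a ∈ R0, a ^ 4 = 1 := fun a ⟨y, e⟩ => by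
    have k : rr y ^ 4 = 1 := by
      rw [show 4 = 2 * 2 from rfl, pow_mul, sq (rr y), rr_sq]; split_ifs <;> simp
    rcases e with e | e <;> rw [e]
    exacts [k, by rw [Even.neg_pow (by decide), k]]
  have hk : ∀ k : ℕ, ∀ g ∈ X, g * x ^ k * g⁻¹ * (x ^ k)⁻¹ ∈ R0 := fun k g hg => by
    induction k with
    | zero => simp
    | succ k ih =>
      have := R0.mul_mem (hc g hg) ((mem_normalizer_iff.1 (hX hx).2 _).1 ih)
      convert this using 1; group
  have y3 : (x ^ 4) ^ 3 = 1 := by rw [← pow_mul, mul_comm, pow_mul, p _ h3]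
  have y1 : x ^ 4 ≠ 1 := fun e => hx' (by
    rw [← inv_eq_of_mul_eq_one_right ((pow_succ x 3).symm.trans e)]; exact R0.inv_mem h3)
  obtain ⟨n, hn, hB, w, e⟩ := full hX h81 (X.pow_mem hx 4) y3
  have z : w = gc ∨ w ^ 2 = gc := cen_W w (mem_LW w) (fun k => y1 (e.trans (cj_eq_one.2 k))) fun u _ => by
    have := p _ (hk 4 _ (hB u))
    rw [e] at this
    rw [← cj_eq_one (n := n), map_pow, ← conj_pow, ← this]
    simp only [map_mul, map_inv, _root_.mul_inv_rev, inv_inv, mul_assoc, inv_mul_cancel_left]
  obtain ⟨k, e'⟩ : ∃ k, x ^ k = n * c0 * n⁻¹ := by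
    rcases z with z | z
    exacts [⟨_, by rw [e, z, φ_gc]⟩, ⟨4 * 2, by rw [pow_mul, e, conj_pow, ← map_pow, z, φ_gc]⟩]
  refine ⟨n⁻¹, Nn.inv_mem hn, fun g hg => ⟨Nn.mul_mem (Nn.mul_mem (Nn.inv_mem hn) (hX hg))
    (Nn.inv_mem (Nn.inv_mem hn)), ?_⟩⟩
  have := (mem_normalizer_iff.1 (Nn.inv_mem hn).2 _).1 (hk k g hg)
  rw [e'] at this
  convert this using 1; group

end Cfsg.Lib.Mon.B3
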