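import Cfsg.Agent.Mon.B3W

/-! The Sylow `3`-subgroup `3 ≀ 3` of `Nn`. -/

set_option autoImplicit false

namespace Cfsg.Lib.Mon.B3

open Subgroup Matrix

namespace Pa

/-- The wreath product of order 81. -/
@[ext] structure W where
  a : ZMod 3
  b : ZMod 3
  c : ZMod 3
  d : ZMod 3
  deriving DecidableEq

def r (d a b c : ZMod 3) : ZMod 3 := if d = 0 then a else if d = 1 then b else c

theorem r_add (d a b c a' b' c' : ZMod 3) : r d (a + a') (b + b') (c + c') = r d a b c + r d a' b' c' := by
  unfold r; split_ifs <;> rfl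

theorem r_r : ∀ d e a b c : ZMod 3, r d (r e a c b) (r e c b a) (r e b a c) = r (d + e) a c b := by
  decide +kernel

instance : Mul W := ⟨fun x y => ⟨x.a + r x.d y.a y.c y.b, x.b + r x.d y.b y.a y.c, x.c + r x.d y.c y.b y.a,
  x.d + y.d⟩⟩
instance : One W := ⟨⟨0, 0, 0, 0⟩⟩
instance : Inv W := ⟨fun x => ⟨-r x.d x.a x.b x.c, -r x.d x.b x.c x.a, -r x.d x.c x.a x.b, -x.d⟩⟩

theorem mul_def (x y : W) : x * y = ⟨x.a + r x.d y.a y.c y.b, x.b + r x.d y.b y.a y.c,
  x.c + r x.d y.c y.b y.a, x.d + y.d⟩ := rfl

def L3 : List (ZMod 3) := [0, 1, 2]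
def LW : List W := L3.flatMap fun d => L3.flatMap fun c => L3.flatMap fun b => L3.map fun a => ⟨a, b, c, d⟩

theorem mem_LW (x : W) : x ∈ LW := by
  have h : ∀ a : ZMod 3, a ∈ L3 := by decide
  simp only [LW, List.mem_flatMap, List.mem_map]
  exact ⟨_, h x.d, _, h x.c, _, h x.b, _, h x.a, rfl⟩

theorem allW {P : W → Prop} (h : ∀ x ∈ LW, P x) (x : W) : P x := h x (mem_LW x)

instance : Fintype W := ⟨⟨LW, by decide +kernel⟩, mem_LW⟩

instance : Group W := Group.ofLeftAxioms
  (fun x y z => by ext <;> simp only [mul_def, r_add, r_r, add_assoc])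
  (allW (by decide +kernel)) (allW (by decide +kernel))

theorem card_W : Nat.card W = 81 := by rw [Nat.card_eq_fintype_card]; decide +kernel

def ix (x : W) : ℕ := 128 * (x.a.val + 3 * x.b.val + 9 * x.c.val + 27 * x.d.val)
def PT : ℕ := 0x4951981a51861a641a98a28698258651495115685186682a1a9889529825524649515289518689a11a98942a98252a684519589258618a19198a92a49258268a451991a85861164a198aa8629258851645191685586162a8198a8529925854624195185656186a8218a9829595825624419559285618819a18a99a42958228a641959a81561814a618a9a62895828165419518569582562456186a8218a9829541955928958228a65618819a18a99a4241959a8195828165561814a618a9a6284951981a9825865151861a641a98a28649511568982552465186682a1a9889524951528998252a68518689a11a98942a451958929258268a58618a19198a92a4451991a8925885165861164a198aa8624519168592585462586162a8198a852945195892198a92a49258268a58618a19451991a8198aa862925885165861164a45191685198a852992585462586162a84195185618a982959582562456186a824195592818a99a42958228a65618819a41959a8118a9a62895828165561814a64951981a1a98a2869825865151861a64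495115681a988952982552465186682a495152891a98942a98252a68518689a146a21a946825a246a186982a2a98495246a2514668251a68a18649a12a98642a46a2942568254651a1862a642a985286426a561428a96a42658218a6a618419a426a954228a9562865824165a61824a6426a14a928a942956582a624a6189a824a269254a861264a298a5862625845164a26194aa86192a8298a45296258a4624a265461a8614a19298a62a46258168a4a26925462584516a861264a298a58624a26194a6258a462a86192a8298a45294a2654616258168aa8614a19298a62a446a21a942a9849526825a246a186982a46a251462a98642a68251a68a18649a146a294252a98528668254651a1862a64426a5614a618419a28a96a42658218a6426a9542a61824a628a9562865824165426a14a9a6189a8228a942956582a624426a5614658218a6a618419a28a96a42426a954265824165a61824a628a95628426a14a96582a624a6189a8228a942954a269254298a586262584516a861264a4a26194a298a45296258a462a86192a84a265461298a62a46258168aa8614a1946a21a94a186982a2a9849526825a24646a25146a18649a12a98642a68251a6846a29425a1862a642a9852866825465140005000000400050400050000400050400090000004000904000900004000904000100000040001040001000040001048885aaa48445a554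48455a54448555a4888966648449699448499694448999648881222484412114484112144481112444455558484a5a58448a55a8844aa554444999984846969844869968844669944441111848421218448211288442211444455558844aa558484a5a58448a55a444499998844669984846969844869964444111188442211848421218448211240005000004000500004000504000500400090000040009000040009040009004000100000400010000400010400010048885aaa4448555a48445a55448455a5488896664448999648449699448499694888122244481112484412114484112148885aaa448455a54448555a48445a554888966644849969444899964844969948881222448411214448111248441211444455558448a55a8844aa558484a5a54444999984486996884466998484696944441111844821128844221184842121400050000400050000400050000400054000900004000900004000900004000940001000040001000040001000040001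
/-- The code of the matrix of an element. -/
def pc (x : W) : ℕ := (PT >>> ix x) % 2 ^ 128

def g1 : W := ⟨1, 0, 0, 0⟩
def g2 : W := ⟨0, 1, 0, 0⟩
def g3 : W := ⟨0, 0, 1, 0⟩
def g4 : W := ⟨0, 0, 0, 1⟩
def gc : W := ⟨1, 1, 1, 0⟩

theorem pc_ok : ∀ x, ok (pc x) ∧ (dec (pc x) = 1 → x = 1) := allW (by decide +kernel)

theorem pc_mul : ∀ g ∈ [g1, g2, g3, g4], ∀ x ∈ LW, mm (pc g) (pc x) = pc (g * x) := by decide +kernel

theorem w_ind {S : Submonoid W} (h : ∀ g ∈ [g1, g2, g3, g4], g ∈ S) (x : W) : x ∈ S := by
  rw [(allW (by decide +kernel) : ∀ x : W, x = g1 ^ x.a.val * g2 ^ x.b.val * g3 ^ x.c.val * g4 ^ x.d.val) x]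
  exact S.mul_mem (S.mul_mem (S.mul_mem (S.pow_mem (h _ (by simp)) _) (S.pow_mem (h _ (by simp)) _))
    (S.pow_mem (h _ (by simp)) _)) (S.pow_mem (h _ (by simp)) _)

theorem pc_one : gl (pc 1) = 1 := by rw [← gl_en]; exact congrArg gl (by decide +kernel)

/-- The embedding of the wreath product. -/
noncomputable def φ : W →* G8 := MonoidHom.mk' (fun x => gl (pc x)) fun x => by
  let S : Submonoid W :=
    { carrier := {x | ∀ y, gl (pc (x * y)) = gl (pc x) * gl (pc y)}
      one_mem' := fun y => by rw [one_mul, pc_one, one_mul]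
      mul_mem' := fun {a b} ha hb y => by rw [mul_assoc, ha, hb, ha, mul_assoc] }
  exact w_ind (S := S) (fun g hg y => by rw [gl_mul (pc_ok g).1 (pc_ok y).1, pc_mul g hg y (mem_LW y)]) x

theorem φ_def (x : W) : φ x = gl (pc x) := rfl
theorem φ_val (x : W) : (φ x).1 = dec (pc x) := (pc_ok x).1.val

theorem φ_inj : Function.Injective φ := (injective_iff_map_eq_one _).2 fun x h =>
  (pc_ok x).2 (by rw [← φ_val, h]; rfl)

theorem φ_mem (x : W) : φ x ∈ Nn := w_ind (S := (Nn.comap φ).toSubmonoid) (fun g hg =>
  (named_inN.2.1 _ ((by decide +kernel : ∀ g ∈ [g1, g2, g3, g4], pc g ∈ [nt1, nt2, nt3, nsg, npi, nc0]) g hg)).mem) x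

theorem φ_gc : φ gc = c0 := congrArg gl (by decide +kernel)

instance : Fact (Nat.Prime 3) := ⟨Nat.prime_three⟩

/-- Every `3`-subgroup of `Nn` is conjugate into the wreath product. -/
theorem red {A : Subgroup G8} (hA : A ≤ Nn) (hp : IsPGroup 3 A) : ∃ n ∈ Nn, ∃ B : Subgroup W,
    Nat.card B = Nat.card A ∧ (∀ w, w ∈ B ↔ n * φ w * n⁻¹ ∈ A) ∧ ∀ a ∈ A, ∃ w, a = n * φ w * n⁻¹ := by
  let ψ : W →* Nn := φ.codRestrict _ φ_mem
  have hψ : Function.Injective ψ := fun x y h => φ_inj (congrArg Subtype.val h)
  have hc : Nat.card ψ.range = 3 ^ 4 := by rw [← Nat.card_congr (MonoidHom.ofInjective hψ).toEquiv, card_W]; rfl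
  have hi : ¬3 ∣ ψ.range.index := fun h => by
    have e := card_Nn_dvd
    rw [← ψ.range.card_mul_index, hc] at e
    exact absurd ((mul_dvd_mul_left (3 ^ 4) h).trans e) (by norm_num)
  obtain ⟨Q, hQ⟩ := (hp.comap_subtype (K := Nn)).exists_le_sylow
  obtain ⟨n, rfl⟩ := MulAction.exists_smul_eq Nn ((IsPGroup.of_card hc).toSylow hi) Q
  let χ : W →* G8 := (MulAut.conj n.1).toMonoidHom.comp φ
  have hχ : Function.Injective χ := (MulAut.conj n.1).injective.comp φ_inj
  have hle : A ≤ χ.range := fun a ha => by
    obtain ⟨_, ⟨w, rfl⟩, e⟩ := hQ (show (⟨a, hA ha⟩ : Nn) ∈ A.comap Nn.subtype from ha)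
    exact ⟨w, congrArg Subtype.val e⟩
  refine ⟨n, n.2, A.comap χ, ?_, fun w => Iff.rfl, fun a ha => (hle ha).imp fun w e => e.symm⟩
  rw [← card_map_of_injective hχ, map_comap_eq_self hle]

theorem isP {A : Subgroup G8} (h3 : ∀ a ∈ A, a ^ 3 = 1) : IsPGroup 3 A :=
  fun a => ⟨1, Subtype.ext (by simpa using h3 a a.2)⟩

theorem cj_eq_one {n : G8} {w : W} : n * φ w * n⁻¹ = 1 ↔ w = 1 := by
  rw [mul_inv_eq_one, mul_eq_left, map_eq_one_iff _ φ_inj]

end Pa

end Cfsg.Lib.Mon.B3
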