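import Cfsg.Agent.Mon.Kit
import Cfsg.Agent.Mon.Frozen

/-! The Monster programme: the frozen raw codes describe elements of `GH`; their basic properties. -/

set_option autoImplicit false

namespace Cfsg.Lib.Mon

open Kit

/-- All frozen raw codes. -/
def rawL : List ℕ := [rN1, rG0, rCa, rCb, rM1, rM2, rM3, rM4, rM5, rM6, rM7, rM8, rM9, rM10, rM11, rB1, rB2, rB3, rB4, rB5, rB6, rB7, rB8, rB9, rE1, rE2, rE3, rE4, rD1, rD2, rD3, rD4]

theorem ldOK_rawL : rawL.all ldOK = true := by decide +kernel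

theorem rawL_spec {r : ℕ} (h : r ∈ rawL) : Raw r (el r) ∧ R (ld r) (el r) :=
  ld_spec (List.all_eq_true.1 ldOK_rawL r h)

theorem raw_of_W {W : List (List ℕ)} (h : (W.all fun l => l.all fun r => rawL.any fun s =>
    Nat.beq r s) = true) {i r : ℕ} (hr : r ∈ W.getD i []) : Raw r (el r) ∧ R (ld r) (el r) := by
  rw [List.getD_eq_getElem?_getD] at hr
  cases e : W[i]? with
  | none => simp [e] at hr
  | some l =>
    rw [e] at hr
    obtain ⟨s, hs, h1⟩ := List.any_eq_true.1 (List.all_eq_true.1 (List.all_eq_true.1 h l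
      (List.mem_of_getElem? e)) r hr)
    exact rawL_spec (Nat.eq_of_beq_eq_true h1 ▸ hs)

theorem raw_WM {i r : ℕ} (hr : r ∈ WM.getD i []) : Raw r (el r) ∧ R (ld r) (el r) :=
  raw_of_W (by decide +kernel) hr

theorem raw_WB {i r : ℕ} (hr : r ∈ WB.getD i []) : Raw r (el r) ∧ R (ld r) (el r) :=
  raw_of_W (by decide +kernel) hr

theorem raw_WE {i r : ℕ} (hr : r ∈ WE.getD i []) : Raw r (el r) ∧ R (ld r) (el r) :=
  raw_of_W (by decide +kernel) hr

theorem raw_WD {i r : ℕ} (hr : r ∈ WD.getD i []) : Raw r (el r) ∧ R (ld r) (el r) :=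
  raw_of_W (by decide +kernel) hr

theorem R_N1 : R (ld rN1) (el rN1) := (rawL_spec (.head _)).2
theorem raw_N1 : Raw rN1 (el rN1) := (rawL_spec (.head _)).1
theorem R_G0 : R (ld rG0) (el rG0) := (rawL_spec (.tail _ (.head _))).2
theorem raw_G0 : Raw rG0 (el rG0) := (rawL_spec (.tail _ (.head _))).1
theorem R_Ca : R (ld rCa) (el rCa) := (rawL_spec (.tail _ (.tail _ (.head _)))).2
theorem raw_Ca : Raw rCa (el rCa) := (rawL_spec (.tail _ (.tail _ (.head _)))).1
theorem R_Cb : R (ld rCb) (el rCb) := (rawL_spec (.tail _ (.tail _ (.tail _ (.head _))))).2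
theorem raw_Cb : Raw rCb (el rCb) := (rawL_spec (.tail _ (.tail _ (.tail _ (.head _))))).1
theorem R_M1 : R (ld rM1) (el rM1) := (rawL_spec (.tail _ (.tail _ (.tail _ (.tail _ (.head _)))))).2
theorem raw_M1 : Raw rM1 (el rM1) := (rawL_spec (.tail _ (.tail _ (.tail _ (.tail _ (.head _)))))).1
theorem R_M2 : R (ld rM2) (el rM2) := (rawL_spec (.tail _ (.tail _ (.tail _ (.tail _ (.tail _ (.head _))))))).2
theorem raw_M2 : Raw rM2 (el rM2) := (rawL_spec (.tail _ (.tail _ (.tail _ (.tail _ (.tail _ (.head _))))))).1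
theorem R_M3 : R (ld rM3) (el rM3) := (rawL_spec (.tail _ (.tail _ (.tail _ (.tail _ (.tail _ (.tail _ (.head _)))))))).2
theorem raw_M3 : Raw rM3 (el rM3) := (rawL_spec (.tail _ (.tail _ (.tail _ (.tail _ (.tail _ (.tail _ (.head _)))))))).1
theorem R_M4 : R (ld rM4) (el rM4) := (rawL_spec (.tail _ (.tail _ (.tail _ (.tail _ (.tail _ (.tail _ (.tail _ (.head _))))))))).2
theorem raw_M4 : Raw rM4 (el rM4) := (rawL_spec (.tail _ (.tail _ (.tail _ (.tail _ (.tail _ (.tail _ (.tail _ (.head _))))))))).1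
theorem R_M5 : R (ld rM5) (el rM5) := (rawL_spec (.tail _ (.tail _ (.tail _ (.tail _ (.tail _ (.tail _ (.tail _ (.tail _ (.head _)))))))))).2
theorem raw_M5 : Raw rM5 (el rM5) := (rawL_spec (.tail _ (.tail _ (.tail _ (.tail _ (.tail _ (.tail _ (.tail _ (.tail _ (.head _)))))))))).1
theorem R_M6 : R (ld rM6) (el rM6) := (rawL_spec (.tail _ (.tail _ (.tail _ (.tail _ (.tail _ (.tail _ (.tail _ (.tail _ (.tail _ (.head _))))))))))).2
theorem raw_M6 : Raw rM6 (el rM6) := (rawL_spec (.tail _ (.tail _ (.tail _ (.tail _ (.tail _ (.tail _ (.tail _ (.tail _ (.tail _ (.head _))))))))))).1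
theorem R_M7 : R (ld rM7) (el rM7) := (rawL_spec (.tail _ (.tail _ (.tail _ (.tail _ (.tail _ (.tail _ (.tail _ (.tail _ (.tail _ (.tail _ (.head _)))))))))))).2
theorem raw_M7 : Raw rM7 (el rM7) := (rawL_spec (.tail _ (.tail _ (.tail _ (.tail _ (.tail _ (.tail _ (.tail _ (.tail _ (.tail _ (.tail _ (.head _)))))))))))).1
theorem R_M8 : R (ld rM8) (el rM8) := (rawL_spec (.tail _ (.tail _ (.tail _ (.tail _ (.tail _ (.tail _ (.tail _ (.tail _ (.tail _ (.tail _ (.tail _ (.head _))))))))))))).2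
theorem raw_M8 : Raw rM8 (el rM8) := (rawL_spec (.tail _ (.tail _ (.tail _ (.tail _ (.tail _ (.tail _ (.tail _ (.tail _ (.tail _ (.tail _ (.tail _ (.head _))))))))))))).1
theorem R_M9 : R (ld rM9) (el rM9) := (rawL_spec (.tail _ (.tail _ (.tail _ (.tail _ (.tail _ (.tail _ (.tail _ (.tail _ (.tail _ (.tail _ (.tail _ (.tail _ (.head _)))))))))))))).2
theorem raw_M9 : Raw rM9 (el rM9) := (rawL_spec (.tail _ (.tail _ (.tail _ (.tail _ (.tail _ (.tail _ (.tail _ (.tail _ (.tail _ (.tail _ (.tail _ (.tail _ (.head _)))))))))))))).1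
theorem R_M10 : R (ld rM10) (el rM10) := (rawL_spec (.tail _ (.tail _ (.tail _ (.tail _ (.tail _ (.tail _ (.tail _ (.tail _ (.tail _ (.tail _ (.tail _ (.tail _ (.tail _ (.head _))))))))))))))).2
theorem raw_M10 : Raw rM10 (el rM10) := (rawL_spec (.tail _ (.tail _ (.tail _ (.tail _ (.tail _ (.tail _ (.tail _ (.tail _ (.tail _ (.tail _ (.tail _ (.tail _ (.tail _ (.head _))))))))))))))).1
theorem R_M11 : R (ld rM11) (el rM11) := (rawL_spec (.tail _ (.tail _ (.tail _ (.tail _ (.tail _ (.tail _ (.tail _ (.tail _ (.tail _ (.tail _ (.tail _ (.tail _ (.tail _ (.tail _ (.head _)))))))))))))))).2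
theorem raw_M11 : Raw rM11 (el rM11) := (rawL_spec (.tail _ (.tail _ (.tail _ (.tail _ (.tail _ (.tail _ (.tail _ (.tail _ (.tail _ (.tail _ (.tail _ (.tail _ (.tail _ (.tail _ (.head _)))))))))))))))).1
theorem R_B1 : R (ld rB1) (el rB1) := (rawL_spec (.tail _ (.tail _ (.tail _ (.tail _ (.tail _ (.tail _ (.tail _ (.tail _ (.tail _ (.tail _ (.tail _ (.tail _ (.tail _ (.tail _ (.tail _ (.head _))))))))))))))))).2
theorem raw_B1 : Raw rB1 (el rB1) := (rawL_spec (.tail _ (.tail _ (.tail _ (.tail _ (.tail _ (.tail _ (.tail _ (.tail _ (.tail _ (.tail _ (.tail _ (.tail _ (.tail _ (.tail _ (.tail _ (.head _))))))))))))))))).1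
theorem R_B2 : R (ld rB2) (el rB2) := (rawL_spec (.tail _ (.tail _ (.tail _ (.tail _ (.tail _ (.tail _ (.tail _ (.tail _ (.tail _ (.tail _ (.tail _ (.tail _ (.tail _ (.tail _ (.tail _ (.tail _ (.head _)))))))))))))))))).2
theorem raw_B2 : Raw rB2 (el rB2) := (rawL_spec (.tail _ (.tail _ (.tail _ (.tail _ (.tail _ (.tail _ (.tail _ (.tail _ (.tail _ (.tail _ (.tail _ (.tail _ (.tail _ (.tail _ (.tail _ (.tail _ (.head _)))))))))))))))))).1
theorem R_B3 : R (ld rB3) (el rB3) := (rawL_spec (.tail _ (.tail _ (.tail _ (.tail _ (.tail _ (.tail _ (.tail _ (.tail _ (.tail _ (.tail _ (.tail _ (.tail _ (.tail _ (.tail _ (.tail _ (.tail _ (.tail _ (.head _))))))))))))))))))).2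
theorem raw_B3 : Raw rB3 (el rB3) := (rawL_spec (.tail _ (.tail _ (.tail _ (.tail _ (.tail _ (.tail _ (.tail _ (.tail _ (.tail _ (.tail _ (.tail _ (.tail _ (.tail _ (.tail _ (.tail _ (.tail _ (.tail _ (.head _))))))))))))))))))).1
theorem R_B4 : R (ld rB4) (el rB4) := (rawL_spec (.tail _ (.tail _ (.tail _ (.tail _ (.tail _ (.tail _ (.tail _ (.tail _ (.tail _ (.tail _ (.tail _ (.tail _ (.tail _ (.tail _ (.tail _ (.tail _ (.tail _ (.tail _ (.head _)))))))))))))))))))).2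
theorem raw_B4 : Raw rB4 (el rB4) := (rawL_spec (.tail _ (.tail _ (.tail _ (.tail _ (.tail _ (.tail _ (.tail _ (.tail _ (.tail _ (.tail _ (.tail _ (.tail _ (.tail _ (.tail _ (.tail _ (.tail _ (.tail _ (.tail _ (.head _)))))))))))))))))))).1
theorem R_B5 : R (ld rB5) (el rB5) := (rawL_spec (.tail _ (.tail _ (.tail _ (.tail _ (.tail _ (.tail _ (.tail _ (.tail _ (.tail _ (.tail _ (.tail _ (.tail _ (.tail _ (.tail _ (.tail _ (.tail _ (.tail _ (.tail _ (.tail _ (.head _))))))))))))))))))))).2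
theorem raw_B5 : Raw rB5 (el rB5) := (rawL_spec (.tail _ (.tail _ (.tail _ (.tail _ (.tail _ (.tail _ (.tail _ (.tail _ (.tail _ (.tail _ (.tail _ (.tail _ (.tail _ (.tail _ (.tail _ (.tail _ (.tail _ (.tail _ (.tail _ (.head _))))))))))))))))))))).1
theorem R_B6 : R (ld rB6) (el rB6) := (rawL_spec (.tail _ (.tail _ (.tail _ (.tail _ (.tail _ (.tail _ (.tail _ (.tail _ (.tail _ (.tail _ (.tail _ (.tail _ (.tail _ (.tail _ (.tail _ (.tail _ (.tail _ (.tail _ (.tail _ (.tail _ (.head _)))))))))))))))))))))).2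
theorem raw_B6 : Raw rB6 (el rB6) := (rawL_spec (.tail _ (.tail _ (.tail _ (.tail _ (.tail _ (.tail _ (.tail _ (.tail _ (.tail _ (.tail _ (.tail _ (.tail _ (.tail _ (.tail _ (.tail _ (.tail _ (.tail _ (.tail _ (.tail _ (.tail _ (.head _)))))))))))))))))))))).1
theorem R_B7 : R (ld rB7) (el rB7) := (rawL_spec (.tail _ (.tail _ (.tail _ (.tail _ (.tail _ (.tail _ (.tail _ (.tail _ (.tail _ (.tail _ (.tail _ (.tail _ (.tail _ (.tail _ (.tail _ (.tail _ (.tail _ (.tail _ (.tail _ (.tail _ (.tail _ (.head _))))))))))))))))))))))).2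
theorem raw_B7 : Raw rB7 (el rB7) := (rawL_spec (.tail _ (.tail _ (.tail _ (.tail _ (.tail _ (.tail _ (.tail _ (.tail _ (.tail _ (.tail _ (.tail _ (.tail _ (.tail _ (.tail _ (.tail _ (.tail _ (.tail _ (.tail _ (.tail _ (.tail _ (.tail _ (.head _))))))))))))))))))))))).1
theorem R_B8 : R (ld rB8) (el rB8) := (rawL_spec (.tail _ (.tail _ (.tail _ (.tail _ (.tail _ (.tail _ (.tail _ (.tail _ (.tail _ (.tail _ (.tail _ (.tail _ (.tail _ (.tail _ (.tail _ (.tail _ (.tail _ (.tail _ (.tail _ (.tail _ (.tail _ (.tail _ (.head _)))))))))))))))))))))))).2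
theorem raw_B8 : Raw rB8 (el rB8) := (rawL_spec (.tail _ (.tail _ (.tail _ (.tail _ (.tail _ (.tail _ (.tail _ (.tail _ (.tail _ (.tail _ (.tail _ (.tail _ (.tail _ (.tail _ (.tail _ (.tail _ (.tail _ (.tail _ (.tail _ (.tail _ (.tail _ (.tail _ (.head _)))))))))))))))))))))))).1
theorem R_B9 : R (ld rB9) (el rB9) := (rawL_spec (.tail _ (.tail _ (.tail _ (.tail _ (.tail _ (.tail _ (.tail _ (.tail _ (.tail _ (.tail _ (.tail _ (.tail _ (.tail _ (.tail _ (.tail _ (.tail _ (.tail _ (.tail _ (.tail _ (.tail _ (.tail _ (.tail _ (.tail _ (.head _))))))))))))))))))))))))).2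
theorem raw_B9 : Raw rB9 (el rB9) := (rawL_spec (.tail _ (.tail _ (.tail _ (.tail _ (.tail _ (.tail _ (.tail _ (.tail _ (.tail _ (.tail _ (.tail _ (.tail _ (.tail _ (.tail _ (.tail _ (.tail _ (.tail _ (.tail _ (.tail _ (.tail _ (.tail _ (.tail _ (.tail _ (.head _))))))))))))))))))))))))).1
theorem R_E1 : R (ld rE1) (el rE1) := (rawL_spec (.tail _ (.tail _ (.tail _ (.tail _ (.tail _ (.tail _ (.tail _ (.tail _ (.tail _ (.tail _ (.tail _ (.tail _ (.tail _ (.tail _ (.tail _ (.tail _ (.tail _ (.tail _ (.tail _ (.tail _ (.tail _ (.tail _ (.tail _ (.tail _ (.head _)))))))))))))))))))))))))).2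
theorem raw_E1 : Raw rE1 (el rE1) := (rawL_spec (.tail _ (.tail _ (.tail _ (.tail _ (.tail _ (.tail _ (.tail _ (.tail _ (.tail _ (.tail _ (.tail _ (.tail _ (.tail _ (.tail _ (.tail _ (.tail _ (.tail _ (.tail _ (.tail _ (.tail _ (.tail _ (.tail _ (.tail _ (.tail _ (.head _)))))))))))))))))))))))))).1
theorem R_E2 : R (ld rE2) (el rE2) := (rawL_spec (.tail _ (.tail _ (.tail _ (.tail _ (.tail _ (.tail _ (.tail _ (.tail _ (.tail _ (.tail _ (.tail _ (.tail _ (.tail _ (.tail _ (.tail _ (.tail _ (.tail _ (.tail _ (.tail _ (.tail _ (.tail _ (.tail _ (.tail _ (.tail _ (.tail _ (.head _))))))))))))))))))))))))))).2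
theorem raw_E2 : Raw rE2 (el rE2) := (rawL_spec (.tail _ (.tail _ (.tail _ (.tail _ (.tail _ (.tail _ (.tail _ (.tail _ (.tail _ (.tail _ (.tail _ (.tail _ (.tail _ (.tail _ (.tail _ (.tail _ (.tail _ (.tail _ (.tail _ (.tail _ (.tail _ (.tail _ (.tail _ (.tail _ (.tail _ (.head _))))))))))))))))))))))))))).1
theorem R_E3 : R (ld rE3) (el rE3) := (rawL_spec (.tail _ (.tail _ (.tail _ (.tail _ (.tail _ (.tail _ (.tail _ (.tail _ (.tail _ (.tail _ (.tail _ (.tail _ (.tail _ (.tail _ (.tail _ (.tail _ (.tail _ (.tail _ (.tail _ (.tail _ (.tail _ (.tail _ (.tail _ (.tail _ (.tail _ (.tail _ (.head _)))))))))))))))))))))))))))).2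
theorem raw_E3 : Raw rE3 (el rE3) := (rawL_spec (.tail _ (.tail _ (.tail _ (.tail _ (.tail _ (.tail _ (.tail _ (.tail _ (.tail _ (.tail _ (.tail _ (.tail _ (.tail _ (.tail _ (.tail _ (.tail _ (.tail _ (.tail _ (.tail _ (.tail _ (.tail _ (.tail _ (.tail _ (.tail _ (.tail _ (.tail _ (.head _)))))))))))))))))))))))))))).1
theorem R_E4 : R (ld rE4) (el rE4) := (rawL_spec (.tail _ (.tail _ (.tail _ (.tail _ (.tail _ (.tail _ (.tail _ (.tail _ (.tail _ (.tail _ (.tail _ (.tail _ (.tail _ (.tail _ (.tail _ (.tail _ (.tail _ (.tail _ (.tail _ (.tail _ (.tail _ (.tail _ (.tail _ (.tail _ (.tail _ (.tail _ (.tail _ (.head _))))))))))))))))))))))))))))).2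
theorem raw_E4 : Raw rE4 (el rE4) := (rawL_spec (.tail _ (.tail _ (.tail _ (.tail _ (.tail _ (.tail _ (.tail _ (.tail _ (.tail _ (.tail _ (.tail _ (.tail _ (.tail _ (.tail _ (.tail _ (.tail _ (.tail _ (.tail _ (.tail _ (.tail _ (.tail _ (.tail _ (.tail _ (.tail _ (.tail _ (.tail _ (.tail _ (.head _))))))))))))))))))))))))))))).1
theorem R_D1 : R (ld rD1) (el rD1) := (rawL_spec (.tail _ (.tail _ (.tail _ (.tail _ (.tail _ (.tail _ (.tail _ (.tail _ (.tail _ (.tail _ (.tail _ (.tail _ (.tail _ (.tail _ (.tail _ (.tail _ (.tail _ (.tail _ (.tail _ (.tail _ (.tail _ (.tail _ (.tail _ (.tail _ (.tail _ (.tail _ (.tail _ (.tail _ (.head _)))))))))))))))))))))))))))))).2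
theorem raw_D1 : Raw rD1 (el rD1) := (rawL_spec (.tail _ (.tail _ (.tail _ (.tail _ (.tail _ (.tail _ (.tail _ (.tail _ (.tail _ (.tail _ (.tail _ (.tail _ (.tail _ (.tail _ (.tail _ (.tail _ (.tail _ (.tail _ (.tail _ (.tail _ (.tail _ (.tail _ (.tail _ (.tail _ (.tail _ (.tail _ (.tail _ (.tail _ (.head _)))))))))))))))))))))))))))))).1
theorem R_D2 : R (ld rD2) (el rD2) := (rawL_spec (.tail _ (.tail _ (.tail _ (.tail _ (.tail _ (.tail _ (.tail _ (.tail _ (.tail _ (.tail _ (.tail _ (.tail _ (.tail _ (.tail _ (.tail _ (.tail _ (.tail _ (.tail _ (.tail _ (.tail _ (.tail _ (.tail _ (.tail _ (.tail _ (.tail _ (.tail _ (.tail _ (.tail _ (.tail _ (.head _))))))))))))))))))))))))))))))).2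
theorem raw_D2 : Raw rD2 (el rD2) := (rawL_spec (.tail _ (.tail _ (.tail _ (.tail _ (.tail _ (.tail _ (.tail _ (.tail _ (.tail _ (.tail _ (.tail _ (.tail _ (.tail _ (.tail _ (.tail _ (.tail _ (.tail _ (.tail _ (.tail _ (.tail _ (.tail _ (.tail _ (.tail _ (.tail _ (.tail _ (.tail _ (.tail _ (.tail _ (.tail _ (.head _))))))))))))))))))))))))))))))).1
theorem R_D3 : R (ld rD3) (el rD3) := (rawL_spec (.tail _ (.tail _ (.tail _ (.tail _ (.tail _ (.tail _ (.tail _ (.tail _ (.tail _ (.tail _ (.tail _ (.tail _ (.tail _ (.tail _ (.tail _ (.tail _ (.tail _ (.tail _ (.tail _ (.tail _ (.tail _ (.tail _ (.tail _ (.tail _ (.tail _ (.tail _ (.tail _ (.tail _ (.tail _ (.tail _ (.head _)))))))))))))))))))))))))))))))).2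
theorem raw_D3 : Raw rD3 (el rD3) := (rawL_spec (.tail _ (.tail _ (.tail _ (.tail _ (.tail _ (.tail _ (.tail _ (.tail _ (.tail _ (.tail _ (.tail _ (.tail _ (.tail _ (.tail _ (.tail _ (.tail _ (.tail _ (.tail _ (.tail _ (.tail _ (.tail _ (.tail _ (.tail _ (.tail _ (.tail _ (.tail _ (.tail _ (.tail _ (.tail _ (.tail _ (.head _)))))))))))))))))))))))))))))))).1
theorem R_D4 : R (ld rD4) (el rD4) := (rawL_spec (.tail _ (.tail _ (.tail _ (.tail _ (.tail _ (.tail _ (.tail _ (.tail _ (.tail _ (.tail _ (.tail _ (.tail _ (.tail _ (.tail _ (.tail _ (.tail _ (.tail _ (.tail _ (.tail _ (.tail _ (.tail _ (.tail _ (.tail _ (.tail _ (.tail _ (.tail _ (.tail _ (.tail _ (.tail _ (.tail _ (.tail _ (.head _))))))))))))))))))))))))))))))))).2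
theorem raw_D4 : Raw rD4 (el rD4) := (rawL_spec (.tail _ (.tail _ (.tail _ (.tail _ (.tail _ (.tail _ (.tail _ (.tail _ (.tail _ (.tail _ (.tail _ (.tail _ (.tail _ (.tail _ (.tail _ (.tail _ (.tail _ (.tail _ (.tail _ (.tail _ (.tail _ (.tail _ (.tail _ (.tail _ (.tail _ (.tail _ (.tail _ (.tail _ (.tail _ (.tail _ (.tail _ (.head _))))))))))))))))))))))))))))))))).1

theorem φ_of_cap {c p q : ℕ} {g : GH} (h : R c g) (hp : p < 2 ^ 25)
    (e : Nat.beq (cap c p) q = true) : φ g p = q :=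
  (h.cap_eq hp).symm.trans (Nat.eq_of_beq_eq_true e)

theorem mem_H_of_cap {c : ℕ} {g : GH} (h : R c g) (e : Nat.beq (cap c pT) pT = true) :
    g ∈ FxS [pT] := (mem_FxS_one (by decide)).2 (φ_of_cap h (by decide) e)

theorem mem_T2_of_cap {c : ℕ} {g : GH} (h : R c g) (e : Nat.beq (cap c pT2) pT2 = true) :
    g ∈ FxS [pT2] := (mem_FxS_one (by decide)).2 (φ_of_cap h (by decide) e)

theorem N1_mem_H : el rN1 ∈ FxS [pT] := mem_H_of_cap R_N1 (by decide +kernel)
theorem N1_mem_T2 : el rN1 ∈ FxS [pT2] := mem_T2_of_cap R_N1 (by decide +kernel)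
theorem φ_N1_Z1 : φ (el rN1) pZ1 = pW := φ_of_cap R_N1 (by decide) (by decide +kernel)
theorem φ_N1_W : φ (el rN1) pW = pZ1 := φ_of_cap R_N1 (by decide) (by decide +kernel)
theorem N1_sq : el rN1 * el rN1 = 1 ∨ el rN1 * el rN1 = cc * 1 :=
  (R_N1.mul R_N1).ceq R_one (by decide +kernel)

theorem G0_est : el rG0 ∈ Est := R_G0.est (by decide +kernel)
theorem Ca_est : el rCa ∈ Est := R_Ca.est (by decide +kernel)
theorem G0_sq : el rG0 * el rG0 = 1 := (R_G0.mul R_G0).beq R_one (by decide +kernel)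
theorem Ca_sq : el rCa * el rCa = 1 := (R_Ca.mul R_Ca).beq R_one (by decide +kernel)
theorem Cb_sq : el rCb * el rCb = 1 ∨ el rCb * el rCb = cc * 1 :=
  (R_Cb.mul R_Cb).ceq R_one (by decide +kernel)
theorem φ_G0_T : φ (el rG0) pT = pT2 := φ_of_cap R_G0 (by decide) (by decide +kernel)
theorem φ_G0_T2 : φ (el rG0) pT2 = pT := φ_of_cap R_G0 (by decide) (by decide +kernel)
theorem Ca_mem_H : el rCa ∈ FxS [pT] := mem_H_of_cap R_Ca (by decide +kernel)
theorem Cb_mem_H : el rCb ∈ FxS [pT] := mem_H_of_cap R_Cb (by decide +kernel)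
theorem braid_Ca : el rG0 * el rCa * el rG0 = el rCa * el rG0 * el rCa :=
  ((R_G0.mul R_Ca).mul R_G0).beq ((R_Ca.mul R_G0).mul R_Ca) (by decide +kernel)
theorem braid_Cb : el rG0 * el rCb * el rG0 = el rCb * el rG0 * el rCb ∨
    el rG0 * el rCb * el rG0 = cc * (el rCb * el rG0 * el rCb) :=
  ((R_G0.mul R_Cb).mul R_G0).ceq ((R_Cb.mul R_G0).mul R_Cb) (by decide +kernel)
theorem φ_G0_T3 : φ (el rG0) pT3 = pT3 := φ_of_cap R_G0 (by decide) (by decide +kernel)
theorem φ_Ca_T2 : φ (el rCa) pT2 = pT3 := φ_of_cap R_Ca (by decide) (by decide +kernel)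
theorem φ_Cb_T2 : φ (el rCb) pT2 = pmul pT pT2 ^^^ 2 ^ 24 :=
  φ_of_cap R_Cb (by decide) (by decide +kernel)
theorem comm_Ca_Cb : el rCa * el rCb = el rCb * el rCa ∨ el rCa * el rCb = cc * (el rCb * el rCa) :=
  (R_Ca.mul R_Cb).ceq (R_Cb.mul R_Ca) (by decide +kernel)

theorem mem_H_of_W {W : List (List ℕ)} (h0 : ∀ {i r : ℕ}, r ∈ W.getD i [] → R (ld r) (el r))
    (h : (W.all fun l => l.all fun r => Nat.beq (cap (ld r) pT) pT) = true) {i r : ℕ}
    (hr : r ∈ W.getD i []) : el r ∈ FxS [pT] := by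
  have h1 := h0 hr
  rw [List.getD_eq_getElem?_getD] at hr
  cases e : W[i]? with
  | none => simp [e] at hr
  | some l =>
    rw [e] at hr
    exact mem_H_of_cap h1 (List.all_eq_true.1 (List.all_eq_true.1 h l
      (List.mem_of_getElem? e)) r hr)

theorem WB_mem_H {i r : ℕ} (hr : r ∈ WB.getD i []) : el r ∈ FxS [pT] :=
  mem_H_of_W (fun h => (raw_WB h).2) (by decide +kernel) hr

theorem WE_mem_H {i r : ℕ} (hr : r ∈ WE.getD i []) : el r ∈ FxS [pT] :=
  mem_H_of_W (fun h => (raw_WE h).2) (by decide +kernel) hr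

theorem WD_mem_H {i r : ℕ} (hr : r ∈ WD.getD i []) : el r ∈ FxS [pT] :=
  mem_H_of_W (fun h => (raw_WD h).2) (by decide +kernel) hr

theorem WD_mem : ∀ l ∈ WD, ∀ r ∈ l, el r ∈ FxS [pT] := fun l hl r hr => by
  obtain ⟨i, hi, rfl⟩ := List.getElem_of_mem hl
  exact WD_mem_H (i := i) (by rwa [List.getD_eq_getElem _ _ hi])

end Cfsg.Lib.Mon
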