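import Cfsg.Agent.Mon.Pauli
import Cfsg.Agent.Mon.GLat

/-! The Monster programme: the classes of the Leech lattice modulo 2 as Pauli codes. -/

set_option autoImplicit false

namespace Cfsg.Lib.Mon

open Cfsg Cfsg.Lib.Spor Cfsg.Lib.Spor.CK

theorem bits_sum (f : ℕ → ℕ) (hf : ∀ k, f k < 2) (n : ℕ) :
    (∑ k ∈ Finset.range n, f k * 2 ^ k) < 2 ^ n ∧
      ∀ i, (∑ k ∈ Finset.range n, f k * 2 ^ k).testBit i = (decide (i < n) && decide (f i = 1)) := by
  induction n with
  | zero => simp
  | succ n ih =>
    have h := hf n
    rw [Finset.sum_range_succ]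
    refine ⟨by rw [pow_succ]; nlinarith [ih.1, Nat.two_pow_pos n], fun i => ?_⟩
    rw [add_comm, mul_comm, Nat.testBit_two_pow_mul_add _ ih.1, ih.2]
    rcases lt_trichotomy i n with e | e | e
    · simp [e, e.trans (Nat.lt_succ_self n)]
    · subst e
      obtain e | e : f i = 0 ∨ f i = 1 := by omega
      all_goals simp [e]
    · rw [if_neg (by omega), Nat.testBit_lt_two_pow (h.trans_le (Nat.le_self_pow (by omega) 2))]
      simp [show ¬ i < n + 1 by omega]

theorem cls_aux (x : leechLattice) (k : ℕ) : (dt x (Lv ((k + 12) % 24)) / 8 % 2).toNat < 2 := by omega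

theorem cls_lt (x : leechLattice) : cls x < 2 ^ 24 := (bits_sum _ (cls_aux x) 24).1

theorem testBit_cls (x : leechLattice) (i : ℕ) :
    (cls x).testBit i = (decide (i < 24) && decide (dt x (Lv ((i + 12) % 24)) / 8 % 2 = 1)) := by
  rw [cls, (bits_sum _ (cls_aux x) 24).2]
  congr 1
  exact decide_eq_decide.2 (by omega)

theorem cls_add (x y : leechLattice) : cls (x + y) = cls x ^^^ cls y := by
  refine Nat.eq_of_testBit_eq fun i => ?_
  rw [Nat.testBit_xor, testBit_cls, testBit_cls, testBit_cls, dt_add_left, ← Bool.and_xor_distrib_left]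
  congr 1
  have h1 := eight_dvd_dt x (Lv ((i + 12) % 24))
  have h2 := eight_dvd_dt y (Lv ((i + 12) % 24))
  by_cases e1 : dt x (Lv ((i + 12) % 24)) / 8 % 2 = 1 <;>
    by_cases e2 : dt y (Lv ((i + 12) % 24)) / 8 % 2 = 1 <;> simp only [e1, e2] <;> simp <;> omega

theorem cls_add_self (x : leechLattice) : cls (x + x) = 0 := by rw [cls_add, Nat.xor_self]

theorem cls_zero : cls 0 = 0 := by simpa using cls_add_self 0

theorem Cg.cls_eq {x y : leechLattice} (h : Cg x y) : cls x = cls y := by
  obtain ⟨w, rfl⟩ := h
  rw [cls_add, cls_add_self, Nat.xor_zero]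

theorem cls_neg (x : leechLattice) : cls (-x) = cls x := (cg_neg x).cls_eq

theorem cls_sub (x y : leechLattice) : cls (x - y) = cls x ^^^ cls y := by
  rw [sub_eq_add_neg, cls_add, cls_neg]

theorem cls_mod (x : leechLattice) : cls x % 2 ^ 24 = cls x := Nat.mod_eq_of_lt (cls_lt x)

theorem Lv_spec {k : ℕ} (hk : k < 24) :
    Sh (Lv k) ∧ pk (Lv k) = LX.getD k 0 ∧ (nm (Lv k) = 32 ∨ nm (Lv k) = 64) := by
  have h : ∀ k < 24, (isLV 32 (LX.getD k 0) || isLV 64 (LX.getD k 0)) = true := by decide +kernel
  rcases Bool.or_eq_true _ _ ▸ h k hk with e | e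
  · exact ⟨(isLV_sh e).1, (isLV_sh e).2.1, Or.inl (isLV_sh e).2.2⟩
  · exact ⟨(isLV_sh e).1, (isLV_sh e).2.1, Or.inr (isLV_sh e).2.2⟩

theorem sh_Lv {k : ℕ} (hk : k < 24) : Sh (Lv k) ∧ pk (Lv k) = LX.getD k 0 :=
  ⟨(Lv_spec hk).1, (Lv_spec hk).2.1⟩

/-- The packed matrix with the rows `Lv ((k + 12) % 24)`. -/
def LM : ℕ := 0x300180140060060020014008004002801000600400200100080040020010004004002001400800600200100060040028014008005001800c0060040020008008004002001000800400280100080040020014008005002801000a0050028014008004002001000800400200100080050020010008004002801000a005002001400a00500280100080040020010008004002001000a0040020010008005003000c00a004001800c00a0030010010008004002001000800400200140080040020010008003003001000a0030018010006002002801000a00400200100080040028010008004002001000800500280100080050020010008005002801400a0040020010008005002001000800400200100080040028014008004002001400a005002001400a004002001000a0040020010008004002001000800500180180080040018014006004002800c008004002001400800400200080080040020010008004002801400a00500280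10008005002001000a004002801000800400200100080040020010008005002801400a005002001000a00400200140080050020010008004002001000800400200100080048024012009004802401200900480240120090048024012009004802401200900480240120050040020010008004002001000800400200100080040020010008004002001000800400200180040040020010008004002001000800400200100080040020010008004002001000800400300100040040020010008004002001000800400200100080040020010008004002001000800600200100040040020010008004002001000800400200100080040020010008004002001000c0040020010004004002001000800400200100080040020010008004002001000800400200180080040020010004004002001000800400200100080040020010008004002001000800400300100080040020010004004002001000800400200100080040020010008004002001000800600200100080040020010004004002001000800400200100080040020010008004002001000c00400200100080040020010004004002001000800400200100080040020010008004002001800800400200100080040020010004004002001000800400200100080040020010008004003001000800400200100080040020010004004002001000800400200100080040020010008006002001000800400200100080040020010004008002001000800400200100080040020010008004002001000800400200100080040020010008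

/-- Evaluate `x` to a numeral, then continue. -/
def frN (x : ℕ) (k : ℕ → ℕ) : ℕ := Nat.rec 0 (fun n _ => k n) (Nat.succ x)

theorem frN_eq (x : ℕ) (k : ℕ → ℕ) : frN x k = k x := rfl

/-- Kernel version of `cls` on packed vectors. -/
def clsP (X : ℕ) : ℕ := frN (Nat.shiftLeft (app LM X) 1) fun Y => bitMask Y 24

theorem unpackM_LM (p q : GolayPt) :
    unpackM LM p q = (Lv ((ptIdx p + 12) % 24) : GolayPt → ℤ) q := by
  have h := sh_Lv (Nat.mod_lt (ptIdx p + 12) (by norm_num : 0 < 24))
  have h' : ∀ p q : GolayPt, unpackM LM p q = unpack (LX.getD ((ptIdx p + 12) % 24) 0) q := by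
    decide +kernel
  rw [← unpack_pack h.1.small, show pack _ = _ from h.2, h']

theorem clsP_pk {x : leechLattice} (hx : Sh x) : clsP (pk x) = cls x := by
  have hv : validM LM = true := by decide +kernel
  let y : GolayPt → ℤ := fun p => dt x (Lv ((ptIdx p + 12) % 24)) / 8
  have hy : Small y := fun p => by
    have := abs_dot_le hx (sh_Lv (Nat.mod_lt (ptIdx p + 12) (by norm_num : 0 < 24))).1
    simp only [y, dt, abs_le]
    omega
  have h1 : app LM (pk x) = pack y := by
    rw [← packM_unpackM hv]
    refine app_pack (small_unpackM hv) hx.small hy fun i => ?_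
    simp only [unpackM_LM, y]
    rw [Int.mul_ediv_cancel' (eight_dvd_dt _ _), dt_comm]
    rfl
  refine Nat.eq_of_testBit_eq fun i => ?_
  rw [clsP, frN_eq, testBit_bitMask, testBit_cls, h1]
  by_cases hi : i < 24
  · have h2 := vd_cast hy i
    have h3 : ptIdx (idxPt i) = i := by interval_cases i <;> rfl
    have h4 : y (idxPt i) = dt x (Lv ((i + 12) % 24)) / 8 := by simp only [y, h3]
    rw [h4] at h2
    refine congrArg _ ?_
    change ((pack y) <<< 1).testBit _ = _
    rw [Nat.testBit_shiftLeft, decide_eq_true (by omega), Bool.true_and, Nat.add_sub_cancel,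
      ← add_zero (13 * i), ← testBit_dg _ _ _ (by norm_num), dg_pack hy hi, Nat.testBit_zero]
    exact decide_eq_decide.2 (by omega)
  · simp [hi]

theorem cls_Lv {k : ℕ} (hk : k < 24) : cls (Lv k) = 2 ^ k := by
  have h : ∀ k < 24, clsP (LX.getD k 0) = 2 ^ k := by decide +kernel
  rw [← clsP_pk (sh_Lv hk).1, (sh_Lv hk).2, h k hk]

/-- Induction over all classes. -/
theorem cls_induction {P : leechLattice → Prop} (h0 : P 0)
    (hs : ∀ k < 24, ∀ x, P x → P (x + Lv k)) : ∀ p < 2 ^ 24, ∃ x, cls x = p ∧ P x :=
  bit_induction ⟨0, cls_zero, h0⟩ fun k hk p hp ⟨x, e, hx⟩ =>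
    ⟨x + Lv k, by rw [cls_add, e, cls_Lv hk, xor_pow_eq_add hp], hs k hk x hx⟩

theorem cls_surj {p : ℕ} (hp : p < 2 ^ 24) : ∃ x, cls x = p := by
  obtain ⟨x, hx, -⟩ := cls_induction (P := fun _ => True) trivial (fun _ _ _ _ => trivial) p hp
  exact ⟨x, hx⟩

theorem cls_eq_iff {x y : leechLattice} : cls x = cls y ↔ Cg x y := by
  refine ⟨fun h => ?_, Cg.cls_eq⟩
  let R := (nsmulAddMonoidHom (α := leechLattice) 2).range
  have hR : ∀ {a b : leechLattice}, (QuotientAddGroup.mk a : leechLattice ⧸ R) = QuotientAddGroup.mk b ↔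
      Cg b a := fun {a b} => by
    rw [QuotientAddGroup.eq, cg_iff, neg_add_eq_sub]
    exact exists_congr fun z => eq_comm
  let f : leechLattice ⧸ R → Fin (2 ^ 24) := Quotient.lift (fun a => ⟨cls a, cls_lt a⟩)
    fun a b hab => Fin.ext (hR.1 (Quotient.sound hab)).symm.cls_eq
  have hc : Nat.card (leechLattice ⧸ R) = 2 ^ 24 := index_range_two_nsmul_leech
  have : Finite (leechLattice ⧸ R) := Nat.finite_of_card_ne_zero (by rw [hc]; norm_num)
  have hs : Function.Surjective f := fun p => by
    obtain ⟨a, ha⟩ := cls_surj p.2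
    exact ⟨QuotientAddGroup.mk a, Fin.ext ha⟩
  have hb := hs.bijective_of_nat_card_le (by rw [hc, Nat.card_eq_fintype_card, Fintype.card_fin])
  exact hR.1 (hb.1 (Fin.ext h.symm : f (QuotientAddGroup.mk y) = f (QuotientAddGroup.mk x)))

theorem cls_eq_zero {x : leechLattice} : cls x = 0 ↔ ∃ w, x = w + w := by
  rw [← cls_zero, cls_eq_iff]
  exact exists_congr fun w => by rw [zero_add]

/-- Induction over the lattice modulo `2Λ`. -/
theorem cg_induction {P : leechLattice → Prop} (h0 : P 0) (hs : ∀ k < 24, ∀ x, P x → P (x + Lv k))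
    (hc : ∀ x y, Cg x y → P y → P x) (x : leechLattice) : P x := by
  obtain ⟨y, e, hy⟩ := cls_induction h0 hs _ (cls_lt x)
  exact hc x y (cls_eq_iff.1 e.symm) hy

theorem xor_cast {a b : ℕ} (ha : a < 2) (hb : b < 2) : ((a ^^^ b : ℕ) : ℤ) = (a + b) % 2 := by
  interval_cases a <;> interval_cases b <;> rfl

theorem pcomm_cls (x y : leechLattice) : (pcomm (cls x) (cls y) : ℤ) = dt x y / 8 % 2 := by
  induction x using cg_induction with
  | h0 => rw [cls_zero, pcomm_zero, show dt 0 y = 0 from dotInt_zero_left _]; rfl
  | hs k hk x ih =>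
    have h1 : (pcomm (2 ^ k) (cls y) : ℤ) = dt (Lv k) y / 8 % 2 := by
      rw [pcomm_pow hk, ← Nat.toNat_testBit, testBit_cls, decide_eq_true (Nat.mod_lt _ (by norm_num)),
        Bool.true_and, show ((k + 12) % 24 + 12) % 24 = k by omega, dt_comm]
      by_cases e : dt (Lv k) y / 8 % 2 = 1
      · simp [e]
      · simp only [e, decide_false, Bool.toNat_false]; omega
    have h2 := eight_dvd_dt x y
    have h3 := eight_dvd_dt (Lv k) y
    rw [cls_add, cls_Lv hk, pcomm_xor, xor_cast (pcomm_lt _ _) (pcomm_lt _ _), ih, h1, dt_add_left]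
    omega
  | hc x x' h ih =>
    have h1 := h.dt_mod y
    rw [h.cls_eq, ih, dt_comm x, dt_comm x']
    omega

theorem par_quad (p q : ℕ) : par (((p ^^^ q) >>> 12) &&& (p ^^^ q)) =
    par ((p >>> 12) &&& p) ^^^ par ((q >>> 12) &&& q) ^^^ pcomm p q := by
  simp only [pcomm_def, Nat.shiftRight_xor_distrib, Nat.and_xor_distrib_right,
    Nat.and_xor_distrib_left, par_xor]
  ac_rfl

theorem sixteen_dvd_nm (x : leechLattice) : (16 : ℤ) ∣ nm x := sixteen_dvd_sqNorm x.2

theorem par_cls (x : leechLattice) : (par ((cls x >>> 12) &&& cls x) : ℤ) = nm x / 16 % 2 := by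
  induction x using cg_induction with
  | h0 => rw [cls_zero, nm_zero]; rfl
  | hs k hk x ih =>
    have h0 : ∀ k < 24, par ((2 ^ k >>> 12) &&& 2 ^ k) = 0 := by decide +kernel
    have h1 := pcomm_cls x (Lv k)
    have h2 := eight_dvd_dt x (Lv k)
    have h3 := sixteen_dvd_nm x
    have h4 := (Lv_spec hk).2.2
    rw [cls_add, par_quad, cls_Lv hk, h0 k hk, Nat.xor_zero, xor_cast (par_lt _) (pcomm_lt _ _), ih,
      ← cls_Lv hk, h1, nm_add]
    omega
  | hc x x' h ih =>
    rw [h.cls_eq, ih]
    obtain ⟨w, rfl⟩ := h
    have h2 := eight_dvd_dt x' w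
    have h3 := sixteen_dvd_nm w
    have h4 := sixteen_dvd_nm x'
    rw [nm_add, nm_add, dt_add_right, dt_self]
    omega

end Cfsg.Lib.Mon
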