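import Cfsg.Agent.Mon.GExist
import Cfsg.Agent.SporChar.Co0Sign
import Cfsg.Agent.Spor.M24Gens

/-!
The Monster programme: the group `Est = 2^11.M24` of even standard automorphisms, and raw codes of
monomial elements.
-/

set_option autoImplicit false

namespace Cfsg.Lib.Mon

open Cfsg Cfsg.Lib.Spor Cfsg.Lib.Spor.CK

theorem φ_pZ_mul (g : GH) (p : ℕ) : φ (pq pZ * g) p = φ g p := by
  rw [φ_mul, φ_pq_pZ (φ_lt g p)]

theorem GH_mul_fst (g h : GH) (u : W) : (g * h).1.1 u = g.1.1 (h.1.1 u) := rfl

theorem GH_inv_apply {g : GH} {u v : W} (h : g.1.1 u = v) : g⁻¹.1.1 v = u := by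
  rw [← h]; exact g.1.1.symm_apply_apply u

theorem φ_apply (g : GH) (p : ℕ) (u : W) : g.1.1 (pl p u) = pl (φ g p) (g.1.1 u) :=
  LinearEquiv.congr_fun (φ_spec g p) u

theorem pl_diag {p : ℕ} (h : p % 4096 = 0) (v : Fin 4096) (c : ℝ) : pl p (Pi.single v c) =
    Pi.single v (sg (p >>> 24 + par ((p >>> 12) &&& v.1)) * c) := by
  rw [pl_single, xorF_of_mod h]

theorem pl_fix_iff {p : ℕ} {v : Fin 4096} : pl p (Pi.single v 1) = Pi.single v 1 ↔
    p % 4096 = 0 ∧ (p >>> 24 + par ((p >>> 12) &&& v.1)) % 2 = 0 := by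
  constructor
  · intro h
    rw [pl_single, mul_one] at h
    have e := congrFun h (xorF v p)
    rw [Pi.single_eq_same] at e
    by_cases e2 : xorF v p = v
    · rw [e2, Pi.single_eq_same, ← sg_zero, sg_eq_iff] at e
      refine ⟨?_, e⟩
      have := congrArg Fin.val e2
      rw [xorF_val, and_4095] at this
      have h2 := congrArg (v.1 ^^^ ·) this
      simpa [← Nat.xor_assoc] using h2
    · rw [Pi.single_eq_of_ne e2] at e
      exact absurd e (sg_ne_zero _)
  · rintro ⟨h1, h2⟩
    rw [pl_diag h1, sg_congr (b := 0) h2, sg_zero, one_mul]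

/-- The state of an element whose images of the `Z_k` fix a basis vector. -/
theorem state_of_fix {g : GH} {v : Fin 4096}
    (h : ∀ k < 12, pl (φ g (2 ^ (12 + k))) (Pi.single v 1) = Pi.single v 1) :
    g.1.1 (Pi.single 0 1) = Pi.single v 1 ∨ (pq pZ * g).1.1 (Pi.single 0 1) = Pi.single v 1 := by
  have h1 : g⁻¹.1.1 (Pi.single v 1) = Pi.single 0 (g⁻¹.1.1 (Pi.single v 1) 0) :=
    eq_single_of_Z fun k hk => (GH_inv_apply (by
      rw [φ_apply, show g.1.1 (g⁻¹.1.1 (Pi.single v 1)) = Pi.single v 1 from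
        g.1.1.apply_symm_apply _, h k hk])).symm
  generalize g⁻¹.1.1 (Pi.single v 1) 0 = c at h1
  have h2 := g⁻¹.2.1 (Pi.single v 1) (Pi.single v 1)
  rw [h1] at h2
  simp only [single_dotProduct, Pi.single_eq_same, mul_one] at h2
  have h3 := GH_inv_apply h1
  rw [inv_inv] at h3
  rcases mul_self_eq_one_iff.1 h2 with rfl | rfl
  · exact Or.inl h3
  · right
    rw [GH_mul_fst, pq_fst, show pl pZ = ng from pl_pZ, ng_apply, ← h3, ← map_neg, ← Pi.single_neg]

/-- Kernel check for the raw code of a monomial element. -/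
noncomputable def monoRaw (r : ℕ) : Bool :=
  isCo0 ((r >>> 600) % 2 ^ 7488) && decide (r >>> 8088 < 4096) &&
  (allLT 24 fun k => Nat.beq ((r >>> (25 * k)) % 2 ^ 25 % 2 ^ 24)
    (clsP (app ((r >>> 600) % 2 ^ 7488) (LX.getD k 0)))) &&
  allLT 12 fun k => Nat.beq ((r >>> (25 * (12 + k))) % 2 ^ 25 % 4096) 0 &&
    Nat.beq ((((r >>> (25 * (12 + k))) % 2 ^ 25) >>> 24 +
      par ((((r >>> (25 * (12 + k))) % 2 ^ 25) >>> 12) &&& (r >>> 8088))) % 2) 0

theorem monoRaw_spec {r : ℕ} (h : monoRaw r = true) : Raw r (el r) ∧ ∃ hv : r >>> 8088 < 4096,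
    (el r).1.1 (Pi.single 0 1) = Pi.single ⟨r >>> 8088, hv⟩ 1 := by
  simp only [monoRaw, Bool.and_eq_true, decide_eq_true_eq, allLT_iff, Nat.beq_eq] at h
  obtain ⟨⟨⟨h1, hv⟩, h2⟩, h3⟩ := h
  obtain ⟨b, hb⟩ := isCo0_sound h1
  obtain ⟨g, hg, hf⟩ := exists_GH b (fun k => (r >>> (25 * k)) % 2 ^ 25)
    (fun k _ => Nat.mod_lt _ (by norm_num)) (fun k hk => by
      rw [h2 k hk, ← hb, ← (sh_Lv hk).2, app_cm _ (sh_Lv hk).1, clsP_pk ((sh_Lv hk).1.smul b)])
  have key : ∀ g' : GH, g'.1.2 = b → (∀ p, φ g' p = φ g p) →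
      g'.1.1 (Pi.single 0 1) = Pi.single ⟨r >>> 8088, hv⟩ 1 → Raw r (el r) ∧
      ∃ hv : r >>> 8088 < 4096, (el r).1.1 (Pi.single 0 1) = Pi.single ⟨r >>> 8088, hv⟩ 1 := by
    intro g' e1 e2 e3
    have : Raw r g' := ⟨fun k hk => (e2 _).trans (hf k hk), e1 ▸ hb, hv, by rw [e3]; simp⟩
    rw [this.el_eq]
    exact ⟨this, hv, e3⟩
  rcases state_of_fix (g := g) (v := ⟨r >>> 8088, hv⟩) (fun k hk => by
    rw [hf _ (by omega)]; exact pl_fix_iff.2 (h3 k hk)) with e | e
  · exact key g hg (fun _ => rfl) e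
  · exact key _ (by rw [mul_snd, pq_snd, one_mul, hg]) (φ_pZ_mul g) e

/-- `Est` as a subgroup. -/
noncomputable def EstS : Subgroup GH where
  carrier := Est
  one_mem' := ⟨⟨1, (map_one permCo0).symm⟩, rfl, rfl⟩
  mul_mem' := by
    rintro g h ⟨⟨σ, h1⟩, h2, h3⟩ ⟨⟨τ, h4⟩, h5, h6⟩
    exact ⟨⟨σ * τ, by rw [mul_snd, h1, h4, map_mul]⟩, by rw [GH_mul_fst, h5, h2],
      by rw [GH_mul_fst, h6, h3]⟩
  inv_mem' := by
    rintro g ⟨⟨σ, h1⟩, h2, h3⟩
    exact ⟨⟨σ⁻¹, by rw [inv_snd, h1, map_inv]⟩, GH_inv_apply h2, GH_inv_apply h3⟩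

theorem mem_EstS {g : GH} : g ∈ EstS ↔ g ∈ Est := Iff.rfl

/-- The codes of the even cocode elements. -/
def Ev (p : ℕ) : Prop := p < 2 ^ 24 ∧ p % 2 ^ 13 = 0

instance : DecidablePred Ev := fun p => inferInstanceAs (Decidable (p < 2 ^ 24 ∧ p % 2 ^ 13 = 0))

theorem Ev.lt {p : ℕ} (h : Ev p) : p < 2 ^ 25 := h.1.trans (by norm_num)

theorem Ev.xor {p q : ℕ} (hp : Ev p) (hq : Ev q) : Ev (p ^^^ q) :=
  ⟨Nat.xor_lt_two_pow hp.1 hq.1, by rw [Nat.xor_mod_two_pow, hp.2, hq.2]; rfl⟩

theorem ev_iff {p : ℕ} (hp : p < 2 ^ 25) : Ev p ↔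
    pl p (Pi.single 0 1) = Pi.single 0 1 ∧ pl p (Pi.single 1 1) = Pi.single 1 1 := by
  have e : par (p >>> 12 &&& (1 : Fin 4096).1) = p >>> 12 % 2 := by
    simpa using par_and_pow (p >>> 12) (j := 0) (by norm_num)
  rw [pl_fix_iff, pl_fix_iff, e, Fin.val_zero, Nat.and_zero, par_zero, Ev]
  simp only [Nat.shiftRight_eq_div_pow]
  omega

theorem pq_mem_Est {p : ℕ} (hp : p < 2 ^ 25) : pq p ∈ Est ↔ Ev p := by
  rw [ev_iff hp, ← pq_fst]
  exact ⟨fun h => h.2, fun h => ⟨⟨1, by rw [pq_snd, map_one]⟩, h⟩⟩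

theorem Ev.φ {e : GH} (he : e ∈ Est) {p : ℕ} (hp : Ev p) : Ev (φ e p) := by
  obtain ⟨h0, h1⟩ := (ev_iff hp.lt).1 hp
  refine (ev_iff (φ_lt e p)).2 ⟨?_, ?_⟩
  · rw [← he.2.1, ← φ_apply, h0]
  · rw [← he.2.2, ← φ_apply, h1]

theorem perm_fourDiff (σ : M24) (i j : GolayPt) : permCo0 σ • fourDiff i j =
    fourDiff ((σ : Equiv.Perm GolayPt) i) ((σ : Equiv.Perm GolayPt) j) := by
  refine permCo0_smul_eq_iff.2 fun p => ?_
  simp only [fourDiff, Pi.sub_apply, fourVec, ind, Finset.mem_singleton,
    EmbeddingLike.apply_eq_iff_eq]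
  ring

theorem sh_fourDiff (i : GolayPt) : Sh (fourDiff i none) := by
  unfold Sh; revert i; decide +kernel

theorem ev_fourDiff (i j : GolayPt) : Ev (cls (fourDiff i j)) := by
  have h : ∀ i, Ev (cls (fourDiff i none)) := fun i => by
    rw [← clsP_pk (sh_fourDiff i)]; revert i; decide +kernel
  have : fourDiff i j = fourDiff i none - fourDiff j none := by
    apply Subtype.ext; simp [fourDiff]
  rw [this, cls_sub]
  exact (h i).xor (h j)

theorem cls_e8' (j : GolayPt) : cls (e8 j) = 2 ^ 12 := by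
  rw [← clsP_pk (sh_e8 j)]; revert j; decide +kernel

theorem exists_fourDiff : ∀ k < 11, ∃ i, i ≠ none ∧ cls (fourDiff i none) = 2 ^ (13 + k) := by
  simp only [fun i => (clsP_pk (sh_fourDiff i)).symm]
  decide +kernel

theorem cls_fourDiff_T : cls (fourDiff (some 0) (some 1)) = pT := by
  rw [← clsP_pk (by unfold Sh; decide +kernel)]; decide +kernel

/-- An element over a coordinate permutation maps the even cocode to itself up to signs. -/
theorem φ_ev_of_perm {g : GH} {σ : M24} (h : g.1.2 = permCo0 σ) {k : ℕ} (hk : k < 11) :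
    Ev (φ g (2 ^ (13 + k)) % 2 ^ 24) := by
  obtain ⟨i, -, hi⟩ := exists_fourDiff k hk
  rw [φ_cls g (x := fourDiff i none) (by rw [← hi]; exact Nat.mod_eq_of_lt (cls_lt _)), h,
    perm_fourDiff]
  exact ev_fourDiff _ _

theorem φ_Z0_of_perm {g : GH} {σ : M24} (h : g.1.2 = permCo0 σ) :
    φ g (2 ^ 12) % 2 ^ 24 = 2 ^ 12 := by
  rw [φ_cls g (x := e8 none) (by rw [cls_e8']; rfl), h, permCo0_e8, cls_e8']

theorem φ_Z0 {e : GH} (he : e ∈ Est) : φ e (2 ^ 12) = 2 ^ 12 := by
  obtain ⟨σ, h⟩ := he.1
  have h1 := φ_Z0_of_perm h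
  have h2 : pl (φ e (2 ^ 12)) (Pi.single 0 1) = Pi.single 0 1 := by
    rw [← he.2.1, ← φ_apply, pl_fix_iff.2 (by decide)]
  have h3 := (pl_fix_iff.1 h2).2
  have h4 := φ_lt e (2 ^ 12)
  rw [Fin.val_zero, Nat.and_zero, par_zero, Nat.shiftRight_eq_div_pow] at h3
  omega

theorem exists_Est (σ : M24) : ∃ e ∈ Est, e.1.2 = permCo0 σ := by
  obtain ⟨g, hg, hf⟩ := exists_GH (permCo0 σ) (fun k => cls (permCo0 σ • Lv k))
    (fun k _ => (cls_lt _).trans (by norm_num)) (fun k _ => Nat.mod_eq_of_lt (cls_lt _))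
  have hlt : ∀ k < 24, φ g (2 ^ k) < 2 ^ 24 := fun k hk => hf k hk ▸ cls_lt _
  have h0 : φ g (2 ^ 12) = 2 ^ 12 := by
    rw [← Nat.mod_eq_of_lt (hlt 12 (by norm_num)), φ_Z0_of_perm hg]
  have h1 : ∀ k < 11, Ev (φ g (2 ^ (13 + k))) := fun k hk => by
    rw [← Nat.mod_eq_of_lt (hlt (13 + k) (by omega))]; exact φ_ev_of_perm hg hk
  obtain ⟨g', e1, e2, e3⟩ : ∃ g' : GH, g'.1.2 = permCo0 σ ∧ (∀ p, φ g' p = φ g p) ∧
      g'.1.1 (Pi.single 0 1) = Pi.single 0 1 := by
    rcases state_of_fix (g := g) (v := 0) (fun k hk => by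
      rcases k with _ | k
      · rw [h0]; exact pl_fix_iff.2 (by decide)
      · rw [show 12 + (k + 1) = 13 + k by omega]
        exact ((ev_iff (φ_lt _ _)).1 (h1 k (by omega))).1) with e | e
    · exact ⟨g, hg, fun _ => rfl, e⟩
    · exact ⟨_, by rw [mul_snd, pq_snd, one_mul, hg], φ_pZ_mul g, e⟩
  have e4 : (g' * pq 1).1.1 (Pi.single 0 1) = g'.1.1 (Pi.single 1 1) := by
    rw [GH_mul_fst, pq_fst]; exact congrArg _ (pl_single_zero 1 1)
  rcases state_of_fix (g := g' * pq 1) (v := 1) (fun k hk => by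
    rw [φ_mul, e2, φ_pq _ (Nat.pow_lt_pow_right (by norm_num) (by omega))]
    rcases k with _ | k
    · rw [show (2 : ℕ) ^ (12 + 0) ^^^ pcomm 1 (2 ^ (12 + 0)) <<< 24 = 2 ^ 12 ^^^ 2 ^ 24 by decide,
        φ_neg, h0]
      exact pl_fix_iff.2 (by decide)
    · rw [show 12 + (k + 1) = 13 + k by omega, show pcomm 1 (2 ^ (13 + k)) = 0 by
        have : k < 11 := by omega
        interval_cases k <;> rfl, Nat.zero_shiftLeft, Nat.xor_zero]
      exact ((ev_iff (φ_lt _ _)).1 (h1 k (by omega))).2) with e | e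
  · exact ⟨g', ⟨⟨σ, e1⟩, e3, e4 ▸ e⟩, e1⟩
  · have e5 : (pq (2 ^ 12) * g').1.2 = permCo0 σ := by rw [mul_snd, pq_snd, one_mul, e1]
    refine ⟨pq (2 ^ 12) * g', ⟨⟨σ, e5⟩, ?_, ?_⟩, e5⟩
    · rw [GH_mul_fst, e3, pq_fst]; exact pl_fix_iff.2 (by decide)
    · rw [GH_mul_fst, e4, pq_fst, show pl pZ = ng from pl_pZ, ng_apply, neg_eq_iff_eq_neg] at e
      rw [GH_mul_fst, e, pq_fst, map_neg, pl_diag (by decide), ← Pi.single_neg,
        sg_congr (b := 1) (by decide), sg_one]
      simp

/-- The kernel of the projection to `Co0` consists of Pauli elements. -/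
theorem exists_pq_of_snd {g : GH} (h : g.1.2 = 1) : ∃ p < 2 ^ 25, g = pq p := by
  have key : ∀ n ≤ 24, ∃ p < 2 ^ 25, ∀ k < n, φ (pq p * g) (2 ^ k) = 2 ^ k := by
    intro n
    induction n with
    | zero => exact fun _ => ⟨0, by norm_num, by simp⟩
    | succ n ih =>
      intro hn
      obtain ⟨p, hp, h1⟩ := ih (by omega)
      have hl : ∀ k < 24, 2 ^ k < 2 ^ 25 := fun k hk =>
        Nat.pow_lt_pow_right (by norm_num) (by omega)
      have h2 : φ (pq p * g) (2 ^ n) % 2 ^ 24 = 2 ^ n % 2 ^ 24 := by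
        rw [φ_cls _ (x := Lv n) (by
          rw [cls_Lv hn]; exact Nat.mod_eq_of_lt (Nat.pow_lt_pow_right (by norm_num) hn)),
          mul_snd, pq_snd, h, mul_one, one_smul, cls_Lv hn,
          Nat.mod_eq_of_lt (Nat.pow_lt_pow_right (by norm_num) hn)]
      rcases eq_or_neg_of_mod (φ_lt _ _) (hl n hn) h2 with e | e
      · exact ⟨p, hp, fun k hk => by
          rcases Nat.lt_succ_iff_lt_or_eq.1 hk with hk | rfl
          exacts [h1 k hk, e]⟩
      · have hc : ∀ n < 24, ∀ k < 24,
            pcomm (2 ^ ((n + 12) % 24)) (2 ^ k) = if k = n then 1 else 0 := by decide +kernel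
        have hc' : ∀ n < 24, pcomm (2 ^ ((n + 12) % 24)) (2 ^ n ^^^ 2 ^ 24) = 1 := by
          decide +kernel
        refine ⟨pmul (2 ^ ((n + 12) % 24)) p, pmul_lt (hl _ (Nat.mod_lt _ (by norm_num))) hp,
          fun k hk => ?_⟩
        rw [← pq_mul, mul_assoc, φ_mul, φ_pq _ (φ_lt _ _)]
        rcases Nat.lt_succ_iff_lt_or_eq.1 hk with hk | rfl
        · rw [h1 k hk, hc n hn k (by omega), if_neg hk.ne]; simp
        · rw [e, hc' k hn, Nat.xor_assoc]; simp
  obtain ⟨p, hp, h1⟩ := key 24 le_rfl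
  have h2 : (pq p * g).1.2 = (1 : GH).1.2 := by rw [mul_snd, pq_snd, h, mul_one]; rfl
  have h3 : pq p * pq (pmul p (pmul p p)) = 1 := by
    rw [← pq_mul, ← pq_mul, ← mul_assoc, pq_mul, pq_mul, pmul_self p]
    rcases (by have := par_lt ((p >>> 12) &&& p); omega :
      par ((p >>> 12) &&& p) = 0 ∨ par ((p >>> 12) &&& p) = 1) with e | e <;> rw [e] <;>
      exact pq_zero
  have h4 := pmul_lt hp (pmul_lt hp hp)
  rcases ext_φ h2 (fun k hk => by
    rw [h1 k hk, φ_one (Nat.pow_lt_pow_right (by norm_num) (by omega))]) with e | e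
  · exact ⟨_, h4, mul_left_cancel (e.symm.trans h3.symm)⟩
  · refine ⟨_, pmul_lt h4 (by decide : pZ < 2 ^ 25), mul_left_cancel (a := pq p) ?_⟩
    rw [← pq_mul, ← mul_assoc, h3, one_mul]
    calc pq p * g = pq pZ * (pq pZ * (pq p * g)) := by rw [← mul_assoc, pZ_mul_pZ, one_mul]
      _ = pq pZ := by rw [← e, mul_one]

/-- A lift of the fixed point free involution `(0 1)(2 20)(3 12)⋯`. -/
def rS1 : ℕ := 0x4002001000800400200100080040020010010004002001000800400200100080040020010008004002001000800400200100080040020010008004004001000800400200100080040020010008004002001000800400200100080040020010008004002001000800400400100080040020010008004002002000800400200100080040020010008004002001000800400200100080040020010008004002001000800400200100080040020010008004002001000800400200200080040020010008004002001000800400200100080040020010008004002001000800400200100100040020010008004002001000800400200100080040020010008004002001000800400200100080040040010008004002001000800400200100080040020010008004002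00100100040020010008004002001000800400200100080040020010008004002001000800400200100080080020010008004002001000800400200100080040020020008004002001000800400200100080040020010008004002001000800400200100080040020010008004002001000800400200100080040020010008004002002000800400200100100040020010008004002001000800400200100080040020010008004002001000800400200100080040020010008004002001000800400200100080040020010008004002001001000400200100080040040010008004002001000800400200100080040020010008004002001000800400200100080040020010010004002001000800400200100080040020010008004002001000800400200100080080020010008004002001000800400200100080040020010008004002001000800400200100080040020010008004004001000800400200100080040020010008004002001000800400200100080040020010008004002001000800400200200080040020010008004002001000800400200100080040020010008004002002000800400200100080040020010008004002001000800400200100080040020010008008002001000800400200100080040020010008004002001000800400200100080040020010008004002001000800800200100080040020010008004002001000800400200100080040020010008004002001000800400200100080040020010008008002001000800800200100080040020010008004002001000800400200100080040020010008004002001000800400400100080040020010008004002001000800400200100080040020010008004002001000863800030d0000dc4000cf40006ba00021d00018c8000c540000f600011d00003640000010006ebef8333fed000040081408a6181853166ff0113fdc9cfdd623800434557f1820404c74001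

/-- A lift of an element of order three fixing the points `0` and `2`. -/
def rS2 : ℕ := 0x40020010008004002001000800400200100080040020010008004004001000800400200100080040020010008004002001000800400200100080040020010008004002001000800400200200080040020010008004002001000800400400100080040020010008004002001000800400200100080040020010008004002001000800400200100080040020020008004002001000800400200100080040020010008004002001000800400200100080040020010008004002001001000400200100080040020010008004002001000800400200100080080020010008004002001000800400200100080040020010008004002002000800400200100080040020010008004002001000800400200100080040020010010004002001000800400200100080040020010008004002001000800400200100080040020010008004002001000800400200100080040020010010004002001000800400200100080040020010008004002001000800400200200080040020010008004002001000800400200100080040020010008004002001000800400200100080040020010008004002001000800400400100080040020010008004004001000800400200100080040020010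008004002001000800400200100080040020010008008002001000800400200100080040020010008004002001000800400200100080040020010008004002001000800400200100080040020010008004002001000800800200100080040020010008004002001000800400200100080040040010008004002001000800400200100080040020010008004002001000800800200100080040020010008004002001000800400200100080040020010008004002001000800400200100100040020010008004002001000800400200100080040020010008004002001000800400200100080040020010008004002001000800400200100100040020010008004002001000800400200100080040020010008004002002000800400200100080040020010008004002001001000400200100080040020010008004002001000800400200100080040040010008004002001000800400200100080040020010008004002001000800400200100080040020020008004002001000800400200100080040020010008004002001000800400200100080040020010008004002001000800400200100080040020010008008002001000800400200100080080020010008004002001000800400200100080040020010008004002001000800400200100082cc0003670001744000c980005aa000366000094c000d880007cc0000bc0001a3000000100060f63039b91b9b90814a1256069f0312976f70400810c680580ae3251220088f30150d98001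

/-- The permutations of `rS1`, `rS2`. -/
def gensS : List ℕ := [474489962974495409642717018325405697, 278328660836123563718560481289963616]

/-- Certificate: `gensS` generates `M24`. -/
def certS : List Cfsg.Lib.Spor.PK.Cert :=
  [⟨0, [64, 1025, 960, 193, 768, 321, 640, 1153, 1281, 1216, 128, 897, 384, 1473, 704, 1089, 257,
    1344, 512, 449, 577, 833, 1408], [[1], [0, 1, 0, 1, 0, 1, 1, 0]]⟩,
   ⟨1, [1024, 192, 1217, 1281, 896, 1345, 640, 257, 576, 448, 1089, 832, 1409, 704, 384, 129, 513,
    1472, 1153, 768, 961, 320], [[1, 0, 0], [0, 0, 1, 0, 1, 1, 0, 1, 1, 0, 1, 0, 0, 1, 0, 0, 1, 1, 0]]⟩,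
   ⟨2, [1344, 961, 1024, 705, 1088, 1216, 512, 257, 1280, 192, 577, 321, 1472, 832, 640, 1409, 385,
    768, 1153, 449, 896], [[0, 1, 1, 0, 1, 1, 0, 0, 0, 1], [0, 0, 0, 0, 0, 0, 1, 0, 0, 0, 0, 0]]⟩,
   ⟨3, [768, 1409, 1216, 833, 1344, 577, 384, 1089, 704, 961, 512, 1153, 1024, 896, 448, 320, 1281,
    640, 1472, 257], [[1, 1, 0, 1, 0, 0, 1, 1, 0, 1, 1], [1, 0, 0, 1, 0, 0, 0]]⟩,
   ⟨4, [704, 1409, 320, 1089, 896, 833, 448, 1281, 768, 1345, 961, 576, 1152, 513, 385, 1217, 1024,
    1473, 641], [[0, 1, 0, 0, 1, 0, 1, 0, 0], [0, 0, 1, 0, 1, 0, 0, 1], [0, 1, 1, 0, 1, 0, 1]]⟩,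
   ⟨5, [1280, 577, 1154, 1408, 1345, 706, 896, 1217, 384, 513, 833, 1088, 1025, 1474, 961], [[1, 2]]⟩,
   ⟨6, [1024, 1344], []⟩]

theorem pclosure_gensS : MP.pclosure gensS = M24 :=
  (MP.pk_chain_low (fun t ht => MP.inSub_M24
    (List.all_eq_true.1 (by decide +kernel : gensS.all MP.isM24 = true) t ht))
    (cert := certS) (by decide +kernel) (by rw [MP.card_M24]; decide +kernel)).1

theorem mono_Yb : monoRaw rYb = true := by decide +kernel
theorem mono_Zb : monoRaw rZb = true := by decide +kernel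
theorem mono_S1 : monoRaw rS1 = true := by decide +kernel
theorem mono_S2 : monoRaw rS2 = true := by decide +kernel

theorem raw_Yb : Raw rYb (el rYb) := (monoRaw_spec mono_Yb).1
theorem raw_Zb : Raw rZb (el rZb) := (monoRaw_spec mono_Zb).1
theorem raw_S1 : Raw rS1 (el rS1) := (monoRaw_spec mono_S1).1
theorem raw_S2 : Raw rS2 (el rS2) := (monoRaw_spec mono_S2).1

/-- The table of a raw code applied to `p`. -/
def rawAp (r p : ℕ) : ℕ :=
  Nat.rec 0 (fun k a => if p.testBit k then pmul a ((r >>> (25 * k)) % 2 ^ 25) else a) 24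

theorem Raw.φ_eq {r : ℕ} {g : GH} (h : Raw r g) {p : ℕ} (hp : p < 2 ^ 24) : φ g p = rawAp r p := by
  have key : ∀ n ≤ 24, φ g (p % 2 ^ n) = Nat.rec (motive := fun _ => ℕ) 0
      (fun k a => if p.testBit k then pmul a ((r >>> (25 * k)) % 2 ^ 25) else a) n := by
    intro n
    induction n with
    | zero => intro _; simpa [Nat.mod_one] using φ_zero g
    | succ n ih =>
      intro hn
      have e := Nat.mod_pow_succ (x := p) (b := 2) (k := n)
      rw [← Nat.toNat_testBit] at e
      change _ = if _ then pmul _ _ else _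
      rw [← ih (by omega), e]
      split_ifs with hb
      · rw [hb, Bool.toNat_true, mul_one, φ_add_pow g hn (Nat.mod_lt _ (by positivity)), h.1 n hn]
      · rw [Bool.eq_false_iff.2 hb, Bool.toNat_false, mul_zero, add_zero]
  rw [← Nat.mod_eq_of_lt hp, key 24 le_rfl, Nat.mod_eq_of_lt hp]; rfl

/-- A monomial raw code with state `e_0`, permutation matrix `t` and `a e_1 = e_1`. -/
theorem est_of_raw {r t : ℕ} (h : monoRaw r = true) (ht : MP.isM24 t = true) (h0 : r >>> 8088 = 0)
    (hm : SporChar.Co.isMonoMat t 0 ((r >>> 600) % 2 ^ 7488) = true)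
    (h1 : r % 2 ^ 25 % 4096 = 1 ∧ r % 2 ^ 25 < 2 ^ 24) :
    el r ∈ Est ∧ (el r).1.2 = permCo0 ⟨MP.toPerm t, MP.toPerm_mem_M24 ht⟩ := by
  obtain ⟨hr, hv, e⟩ := monoRaw_spec h
  have hA : isCo0 ((r >>> 600) % 2 ^ 7488) = true := by
    simp only [monoRaw, Bool.and_eq_true] at h; exact h.1.1.1
  have e1 : (el r).1.2 = permCo0 ⟨MP.toPerm t, MP.toPerm_mem_M24 ht⟩ := by
    refine cm_inj (hr.2.1.trans ?_)
    rw [← SporChar.Co.cm_mono (σ := ⟨MP.toPerm t, MP.toPerm_mem_M24 ht⟩) (MP.rep_of_isM24 ht)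
      (by decide +kernel) hA hm, permCo0_def, show SporChar.Co.gw 0 = golayEmpty from
      Subtype.ext ((SporChar.Co.gw_coe (by decide +kernel)).trans maskSet_zero)]
  have e2 : (el r).1.1 (Pi.single 0 1) = Pi.single 0 1 := by
    rw [e]; exact congrArg (Pi.single · 1) (Fin.ext h0)
  refine ⟨⟨⟨_, e1⟩, e2, ?_⟩, e1⟩
  have e3 := hr.1 0 (by norm_num)
  simp only [pow_zero, mul_zero, Nat.shiftRight_zero] at e3
  rw [← pl_single_zero 1 1, φ_apply, e2, show (1 : Fin 4096).1 = 1 from rfl, e3, pl_single,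
    pl_single, Fin.val_zero, Nat.and_zero, Nat.and_zero, Nat.shiftRight_eq_div_pow,
    Nat.div_eq_of_lt h1.2]
  congr 1
  apply Fin.ext
  rw [xorF_val, xorF_val, and_4095, h1.1]; rfl

theorem S1_spec : el rS1 ∈ Est ∧ (el rS1).1.2 =
    permCo0 ⟨MP.toPerm 474489962974495409642717018325405697, MP.toPerm_mem_M24 (by decide +kernel)⟩ :=
  est_of_raw mono_S1 (by decide +kernel) (by decide +kernel) (by decide +kernel) (by decide +kernel)

theorem S2_spec : el rS2 ∈ Est ∧ (el rS2).1.2 =
    permCo0 ⟨MP.toPerm 278328660836123563718560481289963616, MP.toPerm_mem_M24 (by decide +kernel)⟩ :=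
  est_of_raw mono_S2 (by decide +kernel) (by decide +kernel) (by decide +kernel) (by decide +kernel)

theorem S1_mem : el rS1 ∈ Est ∧ el rS1 ∈ FxS [pT] :=
  ⟨S1_spec.1, (mem_FxS_one (by decide)).2 ((raw_S1.φ_eq (by decide)).trans (by decide +kernel))⟩

theorem S2_mem : el rS2 ∈ Est ∧ el rS2 ∈ FxS [pT2] :=
  ⟨S2_spec.1, (mem_FxS_one (by decide)).2 ((raw_S2.φ_eq (by decide)).trans (by decide +kernel))⟩

theorem pT_mem_Est : pq pT ∈ Est := (pq_mem_Est (by decide)).2 (by decide)

/-- Induction over the even cocode. -/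
theorem Ev.mem {T : Subgroup GH} (h : ∀ k < 11, pq (2 ^ (13 + k)) ∈ T) {p : ℕ} (hp : Ev p) :
    pq p ∈ T := by
  refine bit_induction (P := fun x => x % 2 ^ 13 = 0 → pq x ∈ T) (n := 24)
    (fun _ => pq_zero ▸ T.one_mem) (fun k hk x hx ih e => ?_) p hp.1 hp.2
  have hk' : 13 ≤ k := by
    by_contra hn
    have : 2 ^ k ≤ 2 ^ 12 := Nat.pow_le_pow_right (by norm_num) (by omega)
    omega
  obtain ⟨j, rfl⟩ := Nat.exists_eq_add_of_le hk'
  rw [← pmul_add_pow hk hx, ← pq_mul]
  refine T.mul_mem (ih ?_) (h j (by omega))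
  rw [pow_add] at e; omega

theorem EstS_eq : EstS = Subgroup.closure {el rS1, el rS2, pq pT} := by
  set C := Subgroup.closure ({el rS1, el rS2, pq pT} : Set GH)
  have hC : C ≤ EstS := (Subgroup.closure_le _).2 (by
    rintro _ (rfl | rfl | rfl)
    exacts [S1_mem.1, S2_mem.1, pT_mem_Est])
  have h1 : ∀ σ : M24, ∃ e ∈ C, e.1.2 = permCo0 σ := by
    let K : Subgroup M24 :=
      { carrier := {σ | ∃ e ∈ C, e.1.2 = permCo0 σ}
        one_mem' := ⟨1, C.one_mem, (map_one permCo0).symm⟩
        mul_mem' := by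
          rintro σ τ ⟨e, he, h⟩ ⟨e', he', h'⟩
          exact ⟨e * e', C.mul_mem he he', by rw [mul_snd, h, h', map_mul]⟩
        inv_mem' := by
          rintro σ ⟨e, he, h⟩
          exact ⟨e⁻¹, C.inv_mem he, by rw [inv_snd, h, map_inv]⟩ }
    have : M24 ≤ K.map M24.subtype := pclosure_gensS.ge.trans (MP.pclosure_le.2 (by
      simp only [gensS, List.forall_mem_cons]
      exact ⟨⟨_, ⟨_, Subgroup.subset_closure (by simp), S1_spec.2⟩, rfl⟩,
        ⟨_, ⟨_, Subgroup.subset_closure (by simp), S2_spec.2⟩, rfl⟩, by simp⟩))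
    intro σ
    obtain ⟨τ, hτ, e⟩ := this σ.2
    exact (Subtype.ext e : τ = σ) ▸ hτ
  refine le_antisymm (fun e he => ?_) hC
  obtain ⟨σ, hσ⟩ := he.1
  obtain ⟨c, hc, hc'⟩ := h1 σ
  obtain ⟨p, hp, e1⟩ := exists_pq_of_snd (g := c⁻¹ * e)
    (by rw [mul_snd, inv_snd, hσ, hc', inv_mul_cancel])
  have h2 : pq p ∈ C := Ev.mem (fun k hk => by
    obtain ⟨i, hi, e2⟩ := exists_fourDiff k hk
    obtain ⟨τ, hτ, e3, e4⟩ := MP.M24_trans_two (a := some 0) (b := some 1) (by decide) hi
    obtain ⟨d, hd, hd'⟩ := h1 ⟨τ, hτ⟩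
    have e5 := φ_cls d (p := pT) (x := fourDiff (some 0) (some 1)) (by rw [cls_fourDiff_T]; rfl)
    rw [hd', perm_fourDiff, e3, e4, e2,
      Nat.mod_eq_of_lt (Ev.φ (hC hd) (by decide : Ev pT)).1] at e5
    rw [← e5, ← conj_pq]
    exact C.mul_mem (C.mul_mem hd (Subgroup.subset_closure (by simp))) (C.inv_mem hd))
    ((pq_mem_Est hp).1 (e1 ▸ EstS.mul_mem (EstS.inv_mem (hC hc)) he))
  rw [← e1] at h2
  simpa using C.mul_mem hc h2

end Cfsg.Lib.Mon
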