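import Cfsg.Agent.Mon.PairGood
import Cfsg.Agent.Mon.CMp4

/-! The Monster programme: orders of products of two axes, level M. -/

set_option autoImplicit false
set_option maxRecDepth 20000

namespace Cfsg.Lib.Mon.CM

open Cfsg.Lib.Mon.Cert Cfsg.Lib.Mon.Kit

variable {X : Type*} [Group X] (A : Am X)

theorem hax0 : (pxM A).Ax 0 (cp pT) := Px.Ax.zero

/-- the axis of type 1 -/
noncomputable def ax1 : ℕ := th (cmul (cmul (cinv g1) (cp pT)) g1)

theorem hax1 : (pxM A).Ax 1 (cmul (cmul h1 ax1) (cinv h1)) :=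
  Px.Ax.step (f1 _ (hxM A)) (hax0 A) (by decide +kernel)

theorem q0 : (pxM A).Pr 0 1916928 := .root (gkM A 1) (hax0 A) (by decide +kernel)
theorem q1 : (pxM A).Pr 0 18694144 := .root (gkM A 2) (hax0 A) (by decide +kernel)
theorem q3 : (pxM A).Pr 0 2605056 := .root (gkM A 2) (hax0 A) (by decide +kernel)
theorem q4 : (pxM A).Pr 0 9347077 := .root (gkM A 4) (hax0 A) (by decide +kernel)
theorem q9 : (pxM A).Pr 1 9347073 := .root (gkM A 4) (hax1 A) (by decide +kernel)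
theorem q14 : (pxM A).Pr 2 2796583 :=
  .root' (q := 4) (gkM A 6) (f10 _ (hxM A)) (hax1 A) (by decide +kernel)
theorem q15 : (pxM A).Pr 2 16503505 :=
  .root' (q := 4149324) (gkM A 3) (f10 _ (hxM A)) (hax1 A) (by decide +kernel)
theorem q28 : (pxM A).Pr 3 16777218 :=
  .root' (q := 2) (gkM A 5) (f14 _ (hxM A)) (hax1 A) (by decide +kernel)
theorem q41 : (pxM A).Pr 4 20070474 :=
  .root' (q := 3293258) (gkM A 3) (f27 _ (hxM A)) (hax1 A) (by decide +kernel)
theorem q2 : (pxM A).Pr 0 18698240 :=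
  .link (q := 18698240) (f0 _ (hxM A)) (q1 A) (hpool0 _ (hxM A)) [] (by decide +kernel)
theorem q7 : (pxM A).Pr 1 25423872 :=
  .link (q := 8646656) (f2 _ (hxM A)) (q3 A) (hpool0 _ (hxM A)) [2, 13] (by decide +kernel)
theorem q13 : (pxM A).Pr 2 32075776 :=
  .link (q := 15298560) (f7 _ (hxM A)) (q3 A) (hpool0 _ (hxM A)) [12, 13] (by decide +kernel)
theorem q5 : (pxM A).Pr 1 14512128 :=
  .link (q := 31289344) (f2 _ (hxM A)) (q4 A) (hpool0 _ (hxM A)) [7, 6] (by decide +kernel)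
theorem q11 : (pxM A).Pr 2 11730944 :=
  .link (q := 11730944) (f7 _ (hxM A)) (q4 A) (hpool0 _ (hxM A)) [8, 2] (by decide +kernel)
theorem q12 : (pxM A).Pr 2 2605056 :=
  .link (q := 2605056) (f7 _ (hxM A)) (q4 A) (hpool0 _ (hxM A)) [12, 4, 9, 1] (by decide +kernel)
theorem q17 : (pxM A).Pr 2 21244456 :=
  .link (q := 24576) (f10 _ (hxM A)) (q9 A) (hpool1 _ (hxM A)) [12, 0] (by decide +kernel)
theorem q19 : (pxM A).Pr 3 30318592 :=
  .link (q := 30318592) (f14 _ (hxM A)) (q9 A) (hpool1 _ (hxM A)) [14, 13, 2] (by decide +kernel)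
theorem q20 : (pxM A).Pr 3 5423104 :=
  .link (q := 5423104) (f14 _ (hxM A)) (q9 A) (hpool1 _ (hxM A)) [9, 5, 5] (by decide +kernel)
theorem q22 : (pxM A).Pr 3 16543744 :=
  .link (q := 33320960) (f14 _ (hxM A)) (q9 A) (hpool1 _ (hxM A)) [4, 5, 9] (by decide +kernel)
theorem q24 : (pxM A).Pr 3 389120 :=
  .link (q := 17166336) (f14 _ (hxM A)) (q9 A) (hpool1 _ (hxM A)) [14, 12, 1] (by decide +kernel)
theorem q26 : (pxM A).Pr 3 14954496 :=
  .link (q := 31731712) (f14 _ (hxM A)) (q9 A) (hpool1 _ (hxM A)) [13, 14, 11, 8] (by decide +kernel)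
theorem q33 : (pxM A).Pr 4 11419648 :=
  .link (q := 11419648) (f27 _ (hxM A)) (q9 A) (hpool1 _ (hxM A)) [6, 5, 2] (by decide +kernel)
theorem q35 : (pxM A).Pr 4 23302144 :=
  .link (q := 6524928) (f27 _ (hxM A)) (q9 A) (hpool1 _ (hxM A)) [3, 3] (by decide +kernel)
theorem q29 : (pxM A).Pr 3 17139736 :=
  .link (q := 9662464) (f19 _ (hxM A)) (q14 A) (hpool2 _ (hxM A)) [13, 10] (by decide +kernel)
theorem q30 : (pxM A).Pr 3 15387646 :=
  .link (q := 30547968) (f17 _ (hxM A)) (q14 A) (hpool2 _ (hxM A)) [15] (by decide +kernel)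
theorem q32 : (pxM A).Pr 3 10002424 :=
  .link (q := 15106048) (f17 _ (hxM A)) (q14 A) (hpool2 _ (hxM A)) [6, 13, 9] (by decide +kernel)
theorem q39 : (pxM A).Pr 4 8050556 :=
  .link (q := 12324864) (f30 _ (hxM A)) (q14 A) (hpool2 _ (hxM A)) [6, 10] (by decide +kernel)
theorem q43 : (pxM A).Pr 5 12197888 :=
  .link (q := 12197888) (f41 _ (hxM A)) (q14 A) (hpool2 _ (hxM A)) [8, 15] (by decide +kernel)
theorem q45 : (pxM A).Pr 5 26095616 :=
  .link (q := 9318400) (f41 _ (hxM A)) (q14 A) (hpool2 _ (hxM A)) [2, 4, 8] (by decide +kernel)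
theorem q51 : (pxM A).Pr 5 21008384 :=
  .link (q := 4231168) (f41 _ (hxM A)) (q14 A) (hpool2 _ (hxM A)) [8, 6, 14, 5] (by decide +kernel)
theorem q56 : (pxM A).Pr 6 1916928 :=
  .link (q := 1916928) (f51 _ (hxM A)) (q14 A) (hpool2 _ (hxM A)) [8, 9, 3] (by decide +kernel)
theorem q57 : (pxM A).Pr 6 20992000 :=
  .link (q := 4214784) (f51 _ (hxM A)) (q14 A) (hpool2 _ (hxM A)) [9, 11] (by decide +kernel)
theorem q60 : (pxM A).Pr 6 31215616 :=
  .link (q := 14438400) (f51 _ (hxM A)) (q14 A) (hpool2 _ (hxM A)) [9, 6, 10, 7] (by decide +kernel)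
theorem q80 : (pxM A).Pr 7 4841472 :=
  .link (q := 4841472) (f77 _ (hxM A)) (q14 A) (hpool2 _ (hxM A)) [11, 6, 10] (by decide +kernel)
theorem q81 : (pxM A).Pr 7 22114304 :=
  .link (q := 5337088) (f77 _ (hxM A)) (q14 A) (hpool2 _ (hxM A)) [8, 12] (by decide +kernel)
theorem q84 : (pxM A).Pr 7 4087808 :=
  .link (q := 4087808) (f77 _ (hxM A)) (q14 A) (hpool2 _ (hxM A)) [11, 7, 14] (by decide +kernel)
theorem q87 : (pxM A).Pr 7 1085440 :=
  .link (q := 17862656) (f77 _ (hxM A)) (q14 A) (hpool2 _ (hxM A)) [14, 15, 5] (by decide +kernel)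
theorem q90 : (pxM A).Pr 7 17334272 :=
  .link (q := 17334272) (f77 _ (hxM A)) (q14 A) (hpool2 _ (hxM A)) [8, 15, 12, 7] (by decide +kernel)
theorem q31 : (pxM A).Pr 3 5153094 :=
  .link (q := 33456128) (f17 _ (hxM A)) (q15 A) (hpool2 _ (hxM A)) [11, 14] (by decide +kernel)
theorem q47 : (pxM A).Pr 5 27025408 :=
  .link (q := 27025408) (f41 _ (hxM A)) (q15 A) (hpool2 _ (hxM A)) [11, 1] (by decide +kernel)
theorem q48 : (pxM A).Pr 5 1081344 :=
  .link (q := 1081344) (f41 _ (hxM A)) (q15 A) (hpool2 _ (hxM A)) [10, 7, 5] (by decide +kernel)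
theorem q61 : (pxM A).Pr 6 14434304 :=
  .link (q := 14434304) (f51 _ (hxM A)) (q15 A) (hpool2 _ (hxM A)) [9, 13, 7] (by decide +kernel)
theorem q86 : (pxM A).Pr 7 20807680 :=
  .link (q := 20807680) (f77 _ (hxM A)) (q15 A) (hpool2 _ (hxM A)) [2, 12] (by decide +kernel)
theorem q40 : (pxM A).Pr 4 6345198 :=
  .link (q := 10113024) (f32 _ (hxM A)) (q28 A) (hpool3 _ (hxM A)) [7, 1] (by decide +kernel)
theorem q52 : (pxM A).Pr 5 32710940 :=
  .link (q := 15245312) (f48 _ (hxM A)) (q28 A) (hpool3 _ (hxM A)) [6, 5] (by decide +kernel)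
theorem q70 : (pxM A).Pr 6 20336642 :=
  .link (q := 32309248) (f54 _ (hxM A)) (q28 A) (hpool3 _ (hxM A)) [2, 11, 14] (by decide +kernel)
theorem q72 : (pxM A).Pr 6 18772998 :=
  .link (q := 4169728) (f54 _ (hxM A)) (q28 A) (hpool3 _ (hxM A)) [0] (by decide +kernel)
theorem q76 : (pxM A).Pr 6 23714488 :=
  .link (q := 33247232) (f54 _ (hxM A)) (q28 A) (hpool3 _ (hxM A)) [8, 1, 11] (by decide +kernel)
theorem q92 : (pxM A).Pr 7 24756322 :=
  .link (q := 1544192) (f87 _ (hxM A)) (q28 A) (hpool3 _ (hxM A)) [9, 1] (by decide +kernel)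
theorem q94 : (pxM A).Pr 7 29516138 :=
  .link (q := 5713920) (f87 _ (hxM A)) (q28 A) (hpool3 _ (hxM A)) [6, 5, 8] (by decide +kernel)
theorem q98 : (pxM A).Pr 8 15532032 :=
  .link (q := 15532032) (f113 _ (hxM A)) (q28 A) (hpool3 _ (hxM A)) [15, 14, 9] (by decide +kernel)
theorem q101 : (pxM A).Pr 8 17846272 :=
  .link (q := 1069056) (f113 _ (hxM A)) (q28 A) (hpool3 _ (hxM A)) [9, 12] (by decide +kernel)
theorem q103 : (pxM A).Pr 8 22831104 :=
  .link (q := 22831104) (f113 _ (hxM A)) (q28 A) (hpool3 _ (hxM A)) [3, 7] (by decide +kernel)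
theorem q105 : (pxM A).Pr 8 29208576 :=
  .link (q := 12431360) (f113 _ (hxM A)) (q28 A) (hpool3 _ (hxM A)) [3, 6, 1] (by decide +kernel)
theorem q110 : (pxM A).Pr 8 18796544 :=
  .link (q := 2019328) (f113 _ (hxM A)) (q28 A) (hpool3 _ (hxM A)) [15, 6, 4, 12] (by decide +kernel)
theorem q124 : (pxM A).Pr 10 32931840 :=
  .link (q := 32931840) (f163 _ (hxM A)) (q28 A) (hpool3 _ (hxM A)) [3, 1] (by decide +kernel)
theorem q129 : (pxM A).Pr 10 4173824 :=
  .link (q := 20951040) (f163 _ (hxM A)) (q28 A) (hpool3 _ (hxM A)) [8, 11, 7] (by decide +kernel)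
theorem q134 : (pxM A).Pr 10 26554368 :=
  .link (q := 9777152) (f163 _ (hxM A)) (q28 A) (hpool3 _ (hxM A)) [5, 13, 2] (by decide +kernel)
theorem q136 : (pxM A).Pr 10 19861504 :=
  .link (q := 3084288) (f163 _ (hxM A)) (q28 A) (hpool3 _ (hxM A)) [10, 13, 1] (by decide +kernel)
theorem q151 : (pxM A).Pr 11 28884992 :=
  .link (q := 28884992) (f231 _ (hxM A)) (q28 A) (hpool3 _ (hxM A)) [7, 5, 10] (by decide +kernel)
theorem q153 : (pxM A).Pr 11 26456064 :=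
  .link (q := 9678848) (f231 _ (hxM A)) (q28 A) (hpool3 _ (hxM A)) [10, 1, 14] (by decide +kernel)
theorem q155 : (pxM A).Pr 11 73728 :=
  .link (q := 73728) (f231 _ (hxM A)) (q28 A) (hpool3 _ (hxM A)) [5, 7] (by decide +kernel)
theorem q168 : (pxM A).Pr 11 8821677 :=
  .link (q := 12644352) (f276 _ (hxM A)) (q28 A) (hpool3 _ (hxM A)) [0, 4] (by decide +kernel)
theorem q173 : (pxM A).Pr 11 11587880 :=
  .link (q := 22642688) (f276 _ (hxM A)) (q28 A) (hpool3 _ (hxM A)) [2, 11, 4] (by decide +kernel)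
theorem q119 : (pxM A).Pr 9 18079744 :=
  .link (q := 18079744) (f152 _ (hxM A)) (q41 A) (hpool4 _ (hxM A)) [2, 5] (by decide +kernel)
theorem q121 : (pxM A).Pr 9 659456 :=
  .link (q := 6164480) (f155 _ (hxM A)) (q41 A) (hpool4 _ (hxM A)) [14] (by decide +kernel)
theorem q144 : (pxM A).Pr 10 11734716 :=
  .link (q := 3596288) (f201 _ (hxM A)) (q41 A) (hpool4 _ (hxM A)) [15, 14] (by decide +kernel)
theorem q179 : (pxM A).Pr 11 20613644 :=
  .link (q := 22491136) (f241 _ (hxM A)) (q41 A) (hpool4 _ (hxM A)) [5, 12] (by decide +kernel)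
theorem q6 : (pxM A).Pr 1 9314304 :=
  .link (q := 9314304) (f2 _ (hxM A)) (q2 A) (hpool0 _ (hxM A)) [13, 9, 2] (by decide +kernel)
theorem q8 : (pxM A).Pr 1 21991424 :=
  .link (q := 5214208) (f2 _ (hxM A)) (q2 A) (hpool0 _ (hxM A)) [8, 2, 0] (by decide +kernel)
theorem q10 : (pxM A).Pr 2 266240 :=
  .link (q := 17043456) (f7 _ (hxM A)) (q2 A) (hpool0 _ (hxM A)) [9, 12] (by decide +kernel)
theorem q27 : (pxM A).Pr 3 31731712 :=
  .link (q := 14954496) (f14 _ (hxM A)) (q7 A) (hpool1 _ (hxM A)) [4, 15] (by decide +kernel)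
theorem q50 : (pxM A).Pr 5 4231168 :=
  .link (q := 21008384) (f41 _ (hxM A)) (q13 A) (hpool2 _ (hxM A)) [2, 2] (by decide +kernel)
theorem q16 : (pxM A).Pr 2 1923706 :=
  .link (q := 26095616) (f10 _ (hxM A)) (q5 A) (hpool1 _ (hxM A)) [15, 10, 5] (by decide +kernel)
theorem q18 : (pxM A).Pr 3 30068736 :=
  .link (q := 13291520) (f14 _ (hxM A)) (q5 A) (hpool1 _ (hxM A)) [0, 3] (by decide +kernel)
theorem q21 : (pxM A).Pr 3 30507008 :=
  .link (q := 30507008) (f14 _ (hxM A)) (q5 A) (hpool1 _ (hxM A)) [5, 1] (by decide +kernel)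
theorem q25 : (pxM A).Pr 3 17162240 :=
  .link (q := 17162240) (f14 _ (hxM A)) (q5 A) (hpool1 _ (hxM A)) [0, 10, 3] (by decide +kernel)
theorem q34 : (pxM A).Pr 4 27357184 :=
  .link (q := 10579968) (f27 _ (hxM A)) (q5 A) (hpool1 _ (hxM A)) [12, 0] (by decide +kernel)
theorem q37 : (pxM A).Pr 4 27172864 :=
  .link (q := 27172864) (f27 _ (hxM A)) (q5 A) (hpool1 _ (hxM A)) [8, 2, 10, 5] (by decide +kernel)
theorem q38 : (pxM A).Pr 4 28729344 :=
  .link (q := 28729344) (f27 _ (hxM A)) (q5 A) (hpool1 _ (hxM A)) [1, 4] (by decide +kernel)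
theorem q46 : (pxM A).Pr 5 17862656 :=
  .link (q := 1085440) (f41 _ (hxM A)) (q11 A) (hpool2 _ (hxM A)) [14, 10, 0] (by decide +kernel)
theorem q88 : (pxM A).Pr 7 561152 :=
  .link (q := 17338368) (f77 _ (hxM A)) (q11 A) (hpool2 _ (hxM A)) [2, 4] (by decide +kernel)
theorem q44 : (pxM A).Pr 5 4227072 :=
  .link (q := 4227072) (f41 _ (hxM A)) (q12 A) (hpool2 _ (hxM A)) [9, 5] (by decide +kernel)
theorem q42 : (pxM A).Pr 5 16793600 :=
  .link (q := 16793600) (f41 _ (hxM A)) (q17 A) (hpool2 _ (hxM A)) [1, 11] (by decide +kernel)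
theorem q59 : (pxM A).Pr 6 14839808 :=
  .link (q := 31617024) (f51 _ (hxM A)) (q17 A) (hpool2 _ (hxM A)) [8, 6] (by decide +kernel)
theorem q62 : (pxM A).Pr 6 32071680 :=
  .link (q := 32071680) (f51 _ (hxM A)) (q17 A) (hpool2 _ (hxM A)) [10, 10, 5] (by decide +kernel)
theorem q79 : (pxM A).Pr 7 13885440 :=
  .link (q := 13885440) (f77 _ (hxM A)) (q17 A) (hpool2 _ (hxM A)) [11, 15] (by decide +kernel)
theorem q83 : (pxM A).Pr 7 24891392 :=
  .link (q := 8114176) (f77 _ (hxM A)) (q17 A) (hpool2 _ (hxM A)) [12, 1, 12] (by decide +kernel)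
theorem q85 : (pxM A).Pr 7 3776512 :=
  .link (q := 3776512) (f77 _ (hxM A)) (q17 A) (hpool2 _ (hxM A)) [5, 13, 11] (by decide +kernel)
theorem q100 : (pxM A).Pr 8 5980160 :=
  .link (q := 5980160) (f113 _ (hxM A)) (q19 A) (hpool3 _ (hxM A)) [14, 1] (by decide +kernel)
theorem q135 : (pxM A).Pr 10 3837952 :=
  .link (q := 20615168) (f163 _ (hxM A)) (q19 A) (hpool3 _ (hxM A)) [10, 3, 0] (by decide +kernel)
theorem q147 : (pxM A).Pr 11 26337280 :=
  .link (q := 26337280) (f231 _ (hxM A)) (q19 A) (hpool3 _ (hxM A)) [12, 1] (by decide +kernel)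
theorem q161 : (pxM A).Pr 11 2113536 :=
  .link (q := 20615168) (f276 _ (hxM A)) (q19 A) (hpool3 _ (hxM A)) [12, 1, 7] (by decide +kernel)
theorem q73 : (pxM A).Pr 6 18195460 :=
  .link (q := 25993216) (f54 _ (hxM A)) (q20 A) (hpool3 _ (hxM A)) [12, 0] (by decide +kernel)
theorem q96 : (pxM A).Pr 7 1345152 :=
  .link (q := 23887872) (f87 _ (hxM A)) (q20 A) (hpool3 _ (hxM A)) [8, 14, 10] (by decide +kernel)
theorem q108 : (pxM A).Pr 8 15724544 :=
  .link (q := 32501760) (f113 _ (hxM A)) (q20 A) (hpool3 _ (hxM A)) [4, 9, 15] (by decide +kernel)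
theorem q127 : (pxM A).Pr 10 17547264 :=
  .link (q := 17547264) (f163 _ (hxM A)) (q20 A) (hpool3 _ (hxM A)) [1, 6, 11] (by decide +kernel)
theorem q130 : (pxM A).Pr 10 26091520 :=
  .link (q := 26091520) (f163 _ (hxM A)) (q20 A) (hpool3 _ (hxM A)) [7, 9, 0] (by decide +kernel)
theorem q160 : (pxM A).Pr 11 29822976 :=
  .link (q := 13045760) (f231 _ (hxM A)) (q20 A) (hpool3 _ (hxM A)) [8, 2, 5] (by decide +kernel)
theorem q167 : (pxM A).Pr 11 17054589 :=
  .link (q := 27172864) (f276 _ (hxM A)) (q20 A) (hpool3 _ (hxM A)) [10, 8, 13] (by decide +kernel)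
theorem q120 : (pxM A).Pr 9 11579392 :=
  .link (q := 21495808) (f155 _ (hxM A)) (q33 A) (hpool4 _ (hxM A)) [] (by decide +kernel)
theorem q53 : (pxM A).Pr 5 22690998 :=
  .link (q := 6057984) (f48 _ (hxM A)) (q29 A) (hpool3 _ (hxM A)) [9] (by decide +kernel)
theorem q69 : (pxM A).Pr 6 28889090 :=
  .link (q := 2609152) (f54 _ (hxM A)) (q29 A) (hpool3 _ (hxM A)) [1, 6, 12] (by decide +kernel)
theorem q71 : (pxM A).Pr 6 31944760 :=
  .link (q := 30322688) (f54 _ (hxM A)) (q29 A) (hpool3 _ (hxM A)) [3, 10, 6] (by decide +kernel)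
theorem q75 : (pxM A).Pr 6 19663544 :=
  .link (q := 7114752) (f54 _ (hxM A)) (q29 A) (hpool3 _ (hxM A)) [2, 7, 11] (by decide +kernel)
theorem q91 : (pxM A).Pr 7 23861226 :=
  .link (q := 102400) (f87 _ (hxM A)) (q29 A) (hpool3 _ (hxM A)) [13, 14] (by decide +kernel)
theorem q95 : (pxM A).Pr 7 15607522 :=
  .link (q := 30511104) (f87 _ (hxM A)) (q29 A) (hpool3 _ (hxM A)) [7, 5, 3] (by decide +kernel)
theorem q99 : (pxM A).Pr 8 14954496 :=
  .link (q := 31731712) (f113 _ (hxM A)) (q29 A) (hpool3 _ (hxM A)) [13, 14, 12] (by decide +kernel)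
theorem q106 : (pxM A).Pr 8 27914240 :=
  .link (q := 11137024) (f113 _ (hxM A)) (q29 A) (hpool3 _ (hxM A)) [15, 15, 15] (by decide +kernel)
theorem q107 : (pxM A).Pr 8 5545984 :=
  .link (q := 5545984) (f113 _ (hxM A)) (q29 A) (hpool3 _ (hxM A)) [13, 14, 14] (by decide +kernel)
theorem q111 : (pxM A).Pr 8 5865472 :=
  .link (q := 5865472) (f113 _ (hxM A)) (q29 A) (hpool3 _ (hxM A)) [3, 10, 0, 5] (by decide +kernel)
theorem q126 : (pxM A).Pr 10 27172864 :=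
  .link (q := 27172864) (f163 _ (hxM A)) (q29 A) (hpool3 _ (hxM A)) [6, 3] (by decide +kernel)
theorem q128 : (pxM A).Pr 10 3301376 :=
  .link (q := 3301376) (f163 _ (hxM A)) (q29 A) (hpool3 _ (hxM A)) [7, 1, 6] (by decide +kernel)
theorem q131 : (pxM A).Pr 10 20660224 :=
  .link (q := 20660224) (f163 _ (hxM A)) (q29 A) (hpool3 _ (hxM A)) [5, 10, 6] (by decide +kernel)
theorem q146 : (pxM A).Pr 11 9158364 :=
  .link (q := 7770112) (f276 _ (hxM A)) (q29 A) (hpool3 _ (hxM A)) [0, 1, 0] (by decide +kernel)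
theorem q148 : (pxM A).Pr 11 29348572 :=
  .link (q := 14430208) (f276 _ (hxM A)) (q29 A) (hpool3 _ (hxM A)) [7, 6, 0] (by decide +kernel)
theorem q152 : (pxM A).Pr 11 33132544 :=
  .link (q := 16355328) (f231 _ (hxM A)) (q29 A) (hpool3 _ (hxM A)) [10, 12, 8] (by decide +kernel)
theorem q154 : (pxM A).Pr 11 8339456 :=
  .link (q := 8339456) (f231 _ (hxM A)) (q29 A) (hpool3 _ (hxM A)) [13, 11] (by decide +kernel)
theorem q156 : (pxM A).Pr 11 11087872 :=
  .link (q := 27865088) (f231 _ (hxM A)) (q29 A) (hpool3 _ (hxM A)) [3, 14, 4] (by decide +kernel)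
theorem q157 : (pxM A).Pr 11 593920 :=
  .link (q := 28020736) (f276 _ (hxM A)) (q29 A) (hpool3 _ (hxM A)) [2, 6, 2] (by decide +kernel)
theorem q162 : (pxM A).Pr 11 18890752 :=
  .link (q := 3837952) (f276 _ (hxM A)) (q29 A) (hpool3 _ (hxM A)) [7, 12, 0, 2] (by decide +kernel)
theorem q166 : (pxM A).Pr 11 3754869 :=
  .link (q := 26189824) (f276 _ (hxM A)) (q29 A) (hpool3 _ (hxM A)) [7, 13, 0] (by decide +kernel)
theorem q177 : (pxM A).Pr 11 28042028 :=
  .link (q := 1306624) (f276 _ (hxM A)) (q29 A) (hpool3 _ (hxM A)) [7, 14, 0] (by decide +kernel)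
theorem q182 : (pxM A).Pr 11 28164900 :=
  .link (q := 18079744) (f276 _ (hxM A)) (q29 A) (hpool3 _ (hxM A)) [13, 3, 11, 1] (by decide +kernel)
theorem q54 : (pxM A).Pr 5 32264442 :=
  .link (q := 6602752) (f43 _ (hxM A)) (q30 A) (hpool3 _ (hxM A)) [13] (by decide +kernel)
theorem q74 : (pxM A).Pr 6 21162624 :=
  .link (q := 26095616) (f54 _ (hxM A)) (q30 A) (hpool3 _ (hxM A)) [13, 7] (by decide +kernel)
theorem q77 : (pxM A).Pr 6 15609914 :=
  .link (q := 2990080) (f54 _ (hxM A)) (q30 A) (hpool3 _ (hxM A)) [9, 3, 10] (by decide +kernel)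
theorem q93 : (pxM A).Pr 7 2803980 :=
  .link (q := 7872512) (f87 _ (hxM A)) (q30 A) (hpool3 _ (hxM A)) [12, 10, 11] (by decide +kernel)
theorem q97 : (pxM A).Pr 8 1921024 :=
  .link (q := 18698240) (f113 _ (hxM A)) (q30 A) (hpool3 _ (hxM A)) [8, 12, 1] (by decide +kernel)
theorem q125 : (pxM A).Pr 10 16723968 :=
  .link (q := 33501184) (f163 _ (hxM A)) (q30 A) (hpool3 _ (hxM A)) [4, 15, 11] (by decide +kernel)
theorem q149 : (pxM A).Pr 11 2605056 :=
  .link (q := 2605056) (f231 _ (hxM A)) (q30 A) (hpool3 _ (hxM A)) [3, 12, 0] (by decide +kernel)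
theorem q150 : (pxM A).Pr 11 9342976 :=
  .link (q := 26120192) (f231 _ (hxM A)) (q30 A) (hpool3 _ (hxM A)) [2, 1, 13] (by decide +kernel)
theorem q165 : (pxM A).Pr 11 19744629 :=
  .link (q := 32309248) (f276 _ (hxM A)) (q30 A) (hpool3 _ (hxM A)) [0, 13, 10] (by decide +kernel)
theorem q178 : (pxM A).Pr 11 17180172 :=
  .link (q := 12148736) (f276 _ (hxM A)) (q30 A) (hpool3 _ (hxM A)) [14, 13, 7] (by decide +kernel)
theorem q117 : (pxM A).Pr 9 31047680 :=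
  .link (q := 31047680) (f152 _ (hxM A)) (q39 A) (hpool4 _ (hxM A)) [1, 3] (by decide +kernel)
theorem q123 : (pxM A).Pr 9 16815892 :=
  .link (q := 26529792) (f155 _ (hxM A)) (q39 A) (hpool4 _ (hxM A)) [0, 7, 2] (by decide +kernel)
theorem q138 : (pxM A).Pr 10 24942831 :=
  .link (q := 9564160) (f181 _ (hxM A)) (q39 A) (hpool4 _ (hxM A)) [0, 2, 11] (by decide +kernel)
theorem q139 : (pxM A).Pr 10 26662524 :=
  .link (q := 26144768) (f181 _ (hxM A)) (q39 A) (hpool4 _ (hxM A)) [5, 15, 15] (by decide +kernel)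
theorem q140 : (pxM A).Pr 10 19496431 :=
  .link (q := 16723968) (f181 _ (hxM A)) (q39 A) (hpool4 _ (hxM A)) [12, 8, 8] (by decide +kernel)
theorem q141 : (pxM A).Pr 10 3738375 :=
  .link (q := 16027648) (f201 _ (hxM A)) (q39 A) (hpool4 _ (hxM A)) [12, 14] (by decide +kernel)
theorem q164 : (pxM A).Pr 11 32284516 :=
  .link (q := 9289728) (f241 _ (hxM A)) (q39 A) (hpool4 _ (hxM A)) [5, 13, 13] (by decide +kernel)
theorem q180 : (pxM A).Pr 11 8387076 :=
  .link (q := 16789504) (f241 _ (hxM A)) (q39 A) (hpool4 _ (hxM A)) [6, 13, 5] (by decide +kernel)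
theorem q65 : (pxM A).Pr 6 7166941 :=
  .link (q := 8110080) (f72 _ (hxM A)) (q56 A) (hpool6 _ (hxM A)) [4, 13] (by decide +kernel)
theorem q169 : (pxM A).Pr 11 31357310 :=
  .link (q := 16818176) (f343 _ (hxM A)) (q56 A) (hpool6 _ (hxM A)) [4, 11] (by decide +kernel)
theorem q171 : (pxM A).Pr 11 9164966 :=
  .link (q := 3514368) (f291 _ (hxM A)) (q56 A) (hpool6 _ (hxM A)) [0, 12] (by decide +kernel)
theorem q175 : (pxM A).Pr 11 28865336 :=
  .link (q := 16125952) (f318 _ (hxM A)) (q56 A) (hpool6 _ (hxM A)) [1, 4, 0] (by decide +kernel)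
theorem q66 : (pxM A).Pr 6 24248539 :=
  .link (q := 24854528) (f72 _ (hxM A)) (q60 A) (hpool6 _ (hxM A)) [13] (by decide +kernel)
theorem q113 : (pxM A).Pr 8 12704239 :=
  .link (q := 32997376) (f142 _ (hxM A)) (q60 A) (hpool6 _ (hxM A)) [4, 0] (by decide +kernel)
theorem q104 : (pxM A).Pr 8 962560 :=
  .link (q := 17739776) (f113 _ (hxM A)) (q31 A) (hpool3 _ (hxM A)) [15, 15] (by decide +kernel)
theorem q181 : (pxM A).Pr 11 9274148 :=
  .link (q := 19492864) (f276 _ (hxM A)) (q31 A) (hpool3 _ (hxM A)) [6, 13] (by decide +kernel)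
theorem q116 : (pxM A).Pr 9 22401024 :=
  .link (q := 5623808) (f152 _ (hxM A)) (q40 A) (hpool4 _ (hxM A)) [6, 12] (by decide +kernel)
theorem q122 : (pxM A).Pr 9 4062274 :=
  .link (q := 9629696) (f155 _ (hxM A)) (q40 A) (hpool4 _ (hxM A)) [4, 1] (by decide +kernel)
theorem q137 : (pxM A).Pr 10 520144 :=
  .link (q := 4030464) (f181 _ (hxM A)) (q40 A) (hpool4 _ (hxM A)) [3, 14] (by decide +kernel)
theorem q142 : (pxM A).Pr 10 15151477 :=
  .link (q := 1306624) (f201 _ (hxM A)) (q40 A) (hpool4 _ (hxM A)) [14, 3] (by decide +kernel)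
theorem q143 : (pxM A).Pr 10 28511932 :=
  .link (q := 20373504) (f201 _ (hxM A)) (q40 A) (hpool4 _ (hxM A)) [13, 10, 4] (by decide +kernel)
theorem q163 : (pxM A).Pr 11 22955080 :=
  .link (q := 32022528) (f241 _ (hxM A)) (q40 A) (hpool4 _ (hxM A)) [11, 1, 5] (by decide +kernel)
theorem q64 : (pxM A).Pr 6 26257165 :=
  .link (q := 13922304) (f56 _ (hxM A)) (q52 A) (hpool5 _ (hxM A)) [4, 11] (by decide +kernel)
theorem q68 : (pxM A).Pr 6 26646921 :=
  .link (q := 32890880) (f56 _ (hxM A)) (q52 A) (hpool5 _ (hxM A)) [7, 0, 10] (by decide +kernel)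
theorem q170 : (pxM A).Pr 11 17849702 :=
  .link (q := 24653824) (f278 _ (hxM A)) (q52 A) (hpool5 _ (hxM A)) [2, 15, 3] (by decide +kernel)
theorem q114 : (pxM A).Pr 8 7799774 :=
  .link (q := 28741632) (f142 _ (hxM A)) (q70 A) (hpool6 _ (hxM A)) [9, 6, 11] (by decide +kernel)
theorem q172 : (pxM A).Pr 11 21324739 :=
  .link (q := 25604096) (f339 _ (hxM A)) (q70 A) (hpool6 _ (hxM A)) [2, 14] (by decide +kernel)
theorem q23 : (pxM A).Pr 3 2228224 :=
  .link (q := 2228224) (f14 _ (hxM A)) (q6 A) (hpool1 _ (hxM A)) [7, 9] (by decide +kernel)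
theorem q36 : (pxM A).Pr 4 10395648 :=
  .link (q := 10395648) (f27 _ (hxM A)) (q6 A) (hpool1 _ (hxM A)) [9, 6] (by decide +kernel)
theorem q49 : (pxM A).Pr 5 17858560 :=
  .link (q := 17858560) (f41 _ (hxM A)) (q10 A) (hpool2 _ (hxM A)) [13, 11, 0] (by decide +kernel)
theorem q89 : (pxM A).Pr 7 557056 :=
  .link (q := 557056) (f77 _ (hxM A)) (q10 A) (hpool2 _ (hxM A)) [11, 6] (by decide +kernel)
theorem q58 : (pxM A).Pr 6 2113536 :=
  .link (q := 2113536) (f51 _ (hxM A)) (q16 A) (hpool2 _ (hxM A)) [9, 9] (by decide +kernel)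
theorem q63 : (pxM A).Pr 6 9682944 :=
  .link (q := 9682944) (f51 _ (hxM A)) (q16 A) (hpool2 _ (hxM A)) [13, 7, 3] (by decide +kernel)
theorem q82 : (pxM A).Pr 7 9748480 :=
  .link (q := 9748480) (f77 _ (hxM A)) (q16 A) (hpool2 _ (hxM A)) [1, 1] (by decide +kernel)
theorem q102 : (pxM A).Pr 8 11735040 :=
  .link (q := 28512256) (f113 _ (hxM A)) (q18 A) (hpool3 _ (hxM A)) [1, 1, 5] (by decide +kernel)
theorem q133 : (pxM A).Pr 10 9777152 :=
  .link (q := 26554368) (f163 _ (hxM A)) (q18 A) (hpool3 _ (hxM A)) [3, 1] (by decide +kernel)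
theorem q145 : (pxM A).Pr 11 1916928 :=
  .link (q := 1916928) (f231 _ (hxM A)) (q18 A) (hpool3 _ (hxM A)) [6, 13, 2] (by decide +kernel)
theorem q158 : (pxM A).Pr 11 3301376 :=
  .link (q := 4722688) (f276 _ (hxM A)) (q18 A) (hpool3 _ (hxM A)) [3, 1] (by decide +kernel)
theorem q55 : (pxM A).Pr 5 19307260 :=
  .link (q := 20832256) (f43 _ (hxM A)) (q21 A) (hpool3 _ (hxM A)) [7, 13] (by decide +kernel)
theorem q78 : (pxM A).Pr 6 32387130 :=
  .link (q := 19767296) (f54 _ (hxM A)) (q21 A) (hpool3 _ (hxM A)) [13, 2] (by decide +kernel)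
theorem q112 : (pxM A).Pr 8 22642688 :=
  .link (q := 22642688) (f113 _ (hxM A)) (q21 A) (hpool3 _ (hxM A)) [10, 1, 14, 1] (by decide +kernel)
theorem q132 : (pxM A).Pr 10 30318592 :=
  .link (q := 30318592) (f163 _ (hxM A)) (q21 A) (hpool3 _ (hxM A)) [10, 0, 6] (by decide +kernel)
theorem q159 : (pxM A).Pr 11 33316864 :=
  .link (q := 33316864) (f231 _ (hxM A)) (q21 A) (hpool3 _ (hxM A)) [7, 0, 6] (by decide +kernel)
theorem q174 : (pxM A).Pr 11 26837432 :=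
  .link (q := 32296960) (f276 _ (hxM A)) (q21 A) (hpool3 _ (hxM A)) [7, 7] (by decide +kernel)
theorem q118 : (pxM A).Pr 9 16814080 :=
  .link (q := 3555328) (f155 _ (hxM A)) (q34 A) (hpool4 _ (hxM A)) [14, 13, 4] (by decide +kernel)
theorem q109 : (pxM A).Pr 8 2019328 :=
  .link (q := 18796544) (f113 _ (hxM A)) (q23 A) (hpool3 _ (hxM A)) [2] (by decide +kernel)
theorem q67 : (pxM A).Pr 6 8219613 :=
  .link (q := 5545984) (f71 _ (hxM A)) (q58 A) (hpool6 _ (hxM A)) [11] (by decide +kernel)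
theorem q115 : (pxM A).Pr 8 16252672 :=
  .link (q := 16973824) (f142 _ (hxM A)) (q58 A) (hpool6 _ (hxM A)) [1] (by decide +kernel)
theorem q176 : (pxM A).Pr 11 32366724 :=
  .link (q := 21499904) (f291 _ (hxM A)) (q58 A) (hpool6 _ (hxM A)) [0, 1] (by decide +kernel)

theorem hT : ∀ c ∈ pool0 ++ pool1, ∃ s, R c s ∧ s ∈ (pxM A).C.S.L := fun c hc =>
  (List.mem_append.1 hc).elim (fun h => (hpool0 _ (hxM A) c h).imp fun _ h => ⟨h.1, h.2.1⟩)
    fun h => (hpool1 _ (hxM A) c h).imp fun _ h => ⟨h.1, h.2.1⟩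

/-- orbit representatives of the stabiliser of type 0 -/
def sd0 : List ℕ := [
  1916928, 18694144, 18698240, 2605056, 9347077]

theorem hsd0 : ∀ y ∈ sd0, (pxM A).Pr 0 y :=
  PrL.cons (q0 A) <| PrL.cons (q1 A) <| PrL.cons (q2 A) <| PrL.cons (q3 A) <| PrL.cons (q4 A) <|
  PrL.nil

theorem osd0 : ∀ y ∈ sd0, y ∈ Orb (pxM A).C.S.L pT := Px.chkO_spec (hT A) (by decide) (W := [
  [], [27, 31, 17, 29, 16], [25, 0, 16, 26], [7, 14, 14, 24], [22, 14, 28, 19]]) (by decide +kernel)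

/-- orbit representatives of the stabiliser of type 1 -/
def sd1 : List ℕ := [
  14512128, 9314304, 25423872, 21991424, 9347073]

theorem hsd1 : ∀ y ∈ sd1, (pxM A).Pr 1 y :=
  PrL.cons (q5 A) <| PrL.cons (q6 A) <| PrL.cons (q7 A) <| PrL.cons (q8 A) <| PrL.cons (q9 A) <|
  PrL.nil

theorem osd1 : ∀ y ∈ sd1, y ∈ Orb (pxM A).C.S.L pT := Px.chkO_spec (hT A) (by decide) (W := [
  [21, 17, 26, 23], [8, 20, 2, 21], [16, 2, 13, 24], [8, 4, 23, 18], [24, 9, 24]]) (by decide +kernel)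

/-- orbit representatives of the stabiliser of type 2 -/
def sd2 : List ℕ := [
  266240, 11730944, 2605056, 32075776, 2796583, 16503505, 1923706, 21244456]

theorem hsd2 : ∀ y ∈ sd2, (pxM A).Pr 2 y :=
  PrL.cons (q10 A) <| PrL.cons (q11 A) <| PrL.cons (q12 A) <| PrL.cons (q13 A) <|
  PrL.cons (q14 A) <| PrL.cons (q15 A) <| PrL.cons (q16 A) <| PrL.cons (q17 A) <| PrL.nil

theorem osd2 : ∀ y ∈ sd2, y ∈ Orb (pxM A).C.S.L pT := Px.chkO_spec (hT A) (by decide) (W := [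
  [5, 18, 11, 1, 16], [28, 18, 20], [7, 14, 14, 24], [30, 20, 6, 23], [31, 15, 27, 17],
  [10, 17, 29, 6, 16], [2, 11, 26, 20], [14, 12, 31, 20]]) (by decide +kernel)

/-- orbit representatives of the stabiliser of type 3 -/
def sd3 : List ℕ := [
  30068736, 30318592, 5423104, 30507008, 16543744, 2228224, 389120, 17162240, 14954496,
  31731712, 16777218, 17139736, 15387646, 5153094, 10002424]

theorem hsd3 : ∀ y ∈ sd3, (pxM A).Pr 3 y :=
  PrL.cons (q18 A) <| PrL.cons (q19 A) <| PrL.cons (q20 A) <| PrL.cons (q21 A) <|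
  PrL.cons (q22 A) <| PrL.cons (q23 A) <| PrL.cons (q24 A) <| PrL.cons (q25 A) <|
  PrL.cons (q26 A) <| PrL.cons (q27 A) <| PrL.cons (q28 A) <| PrL.cons (q29 A) <|
  PrL.cons (q30 A) <| PrL.cons (q31 A) <| PrL.cons (q32 A) <| PrL.nil

theorem osd3 : ∀ y ∈ sd3, y ∈ Orb (pxM A).C.S.L pT := Px.chkO_spec (hT A) (by decide) (W := [
  [24, 8, 19, 18], [0, 6, 3, 24], [12, 9, 4, 24], [16, 29, 17], [18, 9, 10, 24],
  [23, 12, 21, 23], [29, 4, 15, 24], [26, 4, 11, 20], [7, 5, 16, 24, 16], [5, 11, 23, 21],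
  [16, 20, 27, 26], [22, 16, 16, 19], [14, 21, 2, 20], [23, 2, 28, 24], [31, 19, 22]]) (by decide +kernel)

/-- orbit representatives of the stabiliser of type 4 -/
def sd4 : List ℕ := [
  11419648, 27357184, 23302144, 10395648, 27172864, 28729344, 8050556, 6345198, 20070474]

theorem hsd4 : ∀ y ∈ sd4, (pxM A).Pr 4 y :=
  PrL.cons (q33 A) <| PrL.cons (q34 A) <| PrL.cons (q35 A) <| PrL.cons (q36 A) <|
  PrL.cons (q37 A) <| PrL.cons (q38 A) <| PrL.cons (q39 A) <| PrL.cons (q40 A) <|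
  PrL.cons (q41 A) <| PrL.nil

theorem osd4 : ∀ y ∈ sd4, y ∈ Orb (pxM A).C.S.L pT := Px.chkO_spec (hT A) (by decide) (W := [
  [4, 29, 18, 18], [21, 12, 8, 22], [26, 19, 1, 22], [4, 0, 6, 16], [7, 8, 20, 24],
  [7, 30, 2, 16], [30, 13, 24, 16], [23, 14, 24, 23], [24, 7, 31, 21]]) (by decide +kernel)

/-- orbit representatives of the stabiliser of type 5 -/
def sd5 : List ℕ := [
  16793600, 12197888, 4227072, 26095616, 17862656, 27025408, 1081344, 17858560, 4231168,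
  21008384, 32710940, 22690998, 32264442, 19307260]

theorem hsd5 : ∀ y ∈ sd5, (pxM A).Pr 5 y :=
  PrL.cons (q42 A) <| PrL.cons (q43 A) <| PrL.cons (q44 A) <| PrL.cons (q45 A) <|
  PrL.cons (q46 A) <| PrL.cons (q47 A) <| PrL.cons (q48 A) <| PrL.cons (q49 A) <|
  PrL.cons (q50 A) <| PrL.cons (q51 A) <| PrL.cons (q52 A) <| PrL.cons (q53 A) <|
  PrL.cons (q54 A) <| PrL.cons (q55 A) <| PrL.nil

theorem osd5 : ∀ y ∈ sd5, y ∈ Orb (pxM A).C.S.L pT := Px.chkO_spec (hT A) (by decide) (W := [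
  [9, 25, 24, 15, 16], [18, 26, 8, 16], [17, 6, 0, 24], [3, 13, 11, 1, 16], [17],
  [29, 3, 7, 0, 16], [23, 27, 13, 0, 16], [5, 10, 22, 18], [2, 17, 7, 17], [27, 22, 7, 26],
  [17, 16, 27], [29, 10, 9, 28], [16, 0, 10, 17], [26, 3, 22, 21]]) (by decide +kernel)

/-- orbit representatives of the stabiliser of type 6 -/
def sd6 : List ℕ := [
  1916928, 20992000, 2113536, 14839808, 31215616, 14434304, 32071680, 9682944, 26257165,
  7166941, 24248539, 8219613, 26646921, 28889090, 20336642, 31944760, 18772998, 18195460,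
  21162624, 19663544, 23714488, 15609914, 32387130]

theorem hsd6 : ∀ y ∈ sd6, (pxM A).Pr 6 y :=
  PrL.cons (q56 A) <| PrL.cons (q57 A) <| PrL.cons (q58 A) <| PrL.cons (q59 A) <|
  PrL.cons (q60 A) <| PrL.cons (q61 A) <| PrL.cons (q62 A) <| PrL.cons (q63 A) <|
  PrL.cons (q64 A) <| PrL.cons (q65 A) <| PrL.cons (q66 A) <| PrL.cons (q67 A) <|
  PrL.cons (q68 A) <| PrL.cons (q69 A) <| PrL.cons (q70 A) <| PrL.cons (q71 A) <|
  PrL.cons (q72 A) <| PrL.cons (q73 A) <| PrL.cons (q74 A) <| PrL.cons (q75 A) <|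
  PrL.cons (q76 A) <| PrL.cons (q77 A) <| PrL.cons (q78 A) <| PrL.nil

theorem osd6 : ∀ y ∈ sd6, y ∈ Orb (pxM A).C.S.L pT := Px.chkO_spec (hT A) (by decide) (W := [
  [], [18, 8, 28, 16], [15, 16, 20, 21], [9, 24, 5, 16], [27, 0, 15, 16], [0, 9, 23, 16],
  [14, 17, 26, 30], [24, 8, 20, 17], [16, 30, 12, 28], [13, 16, 30, 17], [25, 24, 19, 17],
  [0, 7, 5, 18], [8, 22, 20, 1, 16], [24, 5, 3, 16], [26, 31, 8, 16], [11, 2, 0, 20],
  [27, 28, 18, 19], [13, 3, 22, 19], [22, 22, 1, 19], [29, 7, 26], [29, 30, 6, 23],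
  [14, 6, 30, 26], [12, 11, 2, 23]]) (by decide +kernel)

/-- orbit representatives of the stabiliser of type 7 -/
def sd7 : List ℕ := [
  13885440, 4841472, 22114304, 9748480, 24891392, 4087808, 3776512, 20807680, 1085440, 561152,
  557056, 17334272, 23861226, 24756322, 2803980, 29516138, 15607522, 1345152]

theorem hsd7 : ∀ y ∈ sd7, (pxM A).Pr 7 y :=
  PrL.cons (q79 A) <| PrL.cons (q80 A) <| PrL.cons (q81 A) <| PrL.cons (q82 A) <|
  PrL.cons (q83 A) <| PrL.cons (q84 A) <| PrL.cons (q85 A) <| PrL.cons (q86 A) <|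
  PrL.cons (q87 A) <| PrL.cons (q88 A) <| PrL.cons (q89 A) <| PrL.cons (q90 A) <|
  PrL.cons (q91 A) <| PrL.cons (q92 A) <| PrL.cons (q93 A) <| PrL.cons (q94 A) <|
  PrL.cons (q95 A) <| PrL.cons (q96 A) <| PrL.nil

theorem osd7 : ∀ y ∈ sd7, y ∈ Orb (pxM A).C.S.L pT := Px.chkO_spec (hT A) (by decide) (W := [
  [4, 15, 20, 24], [2, 12, 31, 20], [24, 27, 22], [21, 23, 21], [25, 28, 24], [19, 31, 19, 17],
  [11, 1, 5, 22], [19, 17, 17, 22], [28, 26, 22, 23], [1, 17, 14, 21], [8, 22, 26, 20, 16],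
  [16, 16, 1, 22], [29, 30, 27, 22], [22, 0, 0, 18], [1, 20, 3, 21, 16], [21, 17, 1, 0, 16],
  [19, 17, 6, 23], [8, 6, 4, 18]]) (by decide +kernel)

/-- orbit representatives of the stabiliser of type 8 -/
def sd8 : List ℕ := [
  1921024, 15532032, 14954496, 5980160, 17846272, 11735040, 22831104, 962560, 29208576,
  27914240, 5545984, 15724544, 2019328, 18796544, 5865472, 22642688, 12704239, 7799774,
  16252672]

theorem hsd8 : ∀ y ∈ sd8, (pxM A).Pr 8 y :=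
  PrL.cons (q97 A) <| PrL.cons (q98 A) <| PrL.cons (q99 A) <| PrL.cons (q100 A) <|
  PrL.cons (q101 A) <| PrL.cons (q102 A) <| PrL.cons (q103 A) <| PrL.cons (q104 A) <|
  PrL.cons (q105 A) <| PrL.cons (q106 A) <| PrL.cons (q107 A) <| PrL.cons (q108 A) <|
  PrL.cons (q109 A) <| PrL.cons (q110 A) <| PrL.cons (q111 A) <| PrL.cons (q112 A) <|
  PrL.cons (q113 A) <| PrL.cons (q114 A) <| PrL.cons (q115 A) <| PrL.nil

theorem osd8 : ∀ y ∈ sd8, y ∈ Orb (pxM A).C.S.L pT := Px.chkO_spec (hT A) (by decide) (W := [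
  [3, 3, 17, 18], [29, 3, 17, 16], [7, 5, 16, 24, 16], [22, 22, 22, 17], [11, 25, 24, 31],
  [14, 14, 12, 16], [19, 22, 6, 17], [13, 6, 10, 4, 16], [2, 20, 17, 18], [5, 18, 1, 18],
  [4, 0, 12, 16], [30, 12, 24, 19], [19, 23, 19, 24], [1, 24, 22, 26], [6, 23, 7, 31],
  [31, 14, 28], [12, 30, 11, 18], [28, 28, 13, 17], [26, 23, 2, 20]]) (by decide +kernel)

/-- orbit representatives of the stabiliser of type 9 -/
def sd9 : List ℕ := [
  22401024, 31047680, 16814080, 18079744, 11579392, 659456, 4062274, 16815892]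

theorem hsd9 : ∀ y ∈ sd9, (pxM A).Pr 9 y :=
  PrL.cons (q116 A) <| PrL.cons (q117 A) <| PrL.cons (q118 A) <| PrL.cons (q119 A) <|
  PrL.cons (q120 A) <| PrL.cons (q121 A) <| PrL.cons (q122 A) <| PrL.cons (q123 A) <| PrL.nil

theorem osd9 : ∀ y ∈ sd9, y ∈ Orb (pxM A).C.S.L pT := Px.chkO_spec (hT A) (by decide) (W := [
  [22, 0, 5, 16], [26, 12, 5, 16], [0, 26, 29, 30], [2, 14, 3, 24], [17, 21, 23, 21],
  [1, 24, 23, 25], [2, 11, 7, 21], [31, 7, 25, 20]]) (by decide +kernel)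

/-- orbit representatives of the stabiliser of type 10 -/
def sd10 : List ℕ := [
  32931840, 16723968, 27172864, 17547264, 3301376, 4173824, 26091520, 20660224, 30318592,
  9777152, 26554368, 3837952, 19861504, 520144, 24942831, 26662524, 19496431, 3738375, 15151477,
  28511932, 11734716]

theorem hsd10 : ∀ y ∈ sd10, (pxM A).Pr 10 y :=
  PrL.cons (q124 A) <| PrL.cons (q125 A) <| PrL.cons (q126 A) <| PrL.cons (q127 A) <|
  PrL.cons (q128 A) <| PrL.cons (q129 A) <| PrL.cons (q130 A) <| PrL.cons (q131 A) <|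
  PrL.cons (q132 A) <| PrL.cons (q133 A) <| PrL.cons (q134 A) <| PrL.cons (q135 A) <|
  PrL.cons (q136 A) <| PrL.cons (q137 A) <| PrL.cons (q138 A) <| PrL.cons (q139 A) <|
  PrL.cons (q140 A) <| PrL.cons (q141 A) <| PrL.cons (q142 A) <| PrL.cons (q143 A) <|
  PrL.cons (q144 A) <| PrL.nil

theorem osd10 : ∀ y ∈ sd10, y ∈ Orb (pxM A).C.S.L pT := Px.chkO_spec (hT A) (by decide) (W := [
  [28, 5, 2, 16], [12, 24], [7, 8, 20, 24], [23, 9, 13, 0, 16], [26, 10, 23, 30],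
  [25, 18, 10, 23], [1, 6, 24], [29, 18, 16, 23], [0, 6, 3, 24], [26, 22, 26, 25], [16, 20, 28],
  [21, 14, 16, 1, 16], [1, 17, 27, 24], [12, 29, 29, 3, 16], [29, 12, 6, 24],
  [23, 10, 7, 5, 16], [25, 5, 9, 16], [6, 11, 5, 17], [1, 19, 3, 19], [27, 17, 14, 22],
  [16, 9, 20]]) (by decide +kernel)

/-- orbit representatives of the stabiliser of type 11 -/
def sd11 : List ℕ := [
  1916928, 9158364, 26337280, 29348572, 2605056, 9342976, 28884992, 33132544, 26456064, 8339456,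
  73728, 11087872, 593920, 3301376, 33316864, 29822976, 2113536, 18890752, 22955080, 32284516,
  19744629, 3754869, 17054589, 8821677, 31357310, 17849702, 9164966, 21324739, 11587880,
  26837432, 28865336, 32366724, 28042028, 17180172, 20613644, 8387076, 9274148, 28164900]

theorem hsd11 : ∀ y ∈ sd11, (pxM A).Pr 11 y :=
  PrL.cons (q145 A) <| PrL.cons (q146 A) <| PrL.cons (q147 A) <| PrL.cons (q148 A) <|
  PrL.cons (q149 A) <| PrL.cons (q150 A) <| PrL.cons (q151 A) <| PrL.cons (q152 A) <|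
  PrL.cons (q153 A) <| PrL.cons (q154 A) <| PrL.cons (q155 A) <| PrL.cons (q156 A) <|
  PrL.cons (q157 A) <| PrL.cons (q158 A) <| PrL.cons (q159 A) <| PrL.cons (q160 A) <|
  PrL.cons (q161 A) <| PrL.cons (q162 A) <| PrL.cons (q163 A) <| PrL.cons (q164 A) <|
  PrL.cons (q165 A) <| PrL.cons (q166 A) <| PrL.cons (q167 A) <| PrL.cons (q168 A) <|
  PrL.cons (q169 A) <| PrL.cons (q170 A) <| PrL.cons (q171 A) <| PrL.cons (q172 A) <|
  PrL.cons (q173 A) <| PrL.cons (q174 A) <| PrL.cons (q175 A) <| PrL.cons (q176 A) <|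
  PrL.cons (q177 A) <| PrL.cons (q178 A) <| PrL.cons (q179 A) <| PrL.cons (q180 A) <|
  PrL.cons (q181 A) <| PrL.cons (q182 A) <| PrL.nil

theorem osd11 : ∀ y ∈ sd11, y ∈ Orb (pxM A).C.S.L pT := Px.chkO_spec (hT A) (by decide) (W := [
  [], [8, 5, 24], [16, 17, 22, 17], [12, 14, 15, 17], [7, 14, 14, 24], [15, 23, 26, 17],
  [14, 10, 15, 16], [29, 0, 6, 18], [0, 4, 24], [31, 1, 29], [7, 30, 30, 23], [14, 12, 1, 30],
  [10, 26, 20, 18], [26, 10, 23, 30], [19, 11, 7, 19], [25, 6, 23], [15, 16, 20, 21],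
  [5, 0, 30, 16], [23, 30, 19], [13, 29, 30, 21], [21, 14, 17, 21], [23, 11, 0, 22],
  [8, 13, 8, 26], [14, 10, 24, 17], [13, 3, 29, 17], [13, 1, 6, 28], [18, 4, 7, 4, 16],
  [7, 27, 3, 14, 16], [20, 20, 26, 21], [11, 4, 27, 30], [8, 12, 6, 26], [9, 18, 25, 17],
  [29, 8, 26, 22], [29, 4, 22, 3, 16], [13, 1, 3, 28], [9, 13, 28, 18], [10, 9, 13, 16],
  [1, 15, 5, 16]]) (by decide +kernel)

end Cfsg.Lib.Mon.CM
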