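import Cfsg.Agent.Mon.Track
import Cfsg.Agent.Mon.PairM
import Cfsg.Agent.S1701

/-! The Monster programme: the Harada–Norton group centralises a dihedral group of order 10. -/

set_option autoImplicit false
set_option maxRecDepth 20000

namespace Cfsg.Lib.Mon

open Subgroup

section

variable {X : Type*} [Group X] {d b k x y z : X}

theorem hn_five (hb : b * b = 1) (hd : d * d = 1) {m : X} (h1 : m * m = d)
    (r2 : (b * d)⁻¹ * d * (b * d) = m⁻¹ * b * m) :
    m⁻¹ * (d * b) * m * (d * b) ^ 2 = 1 ∧ (d * b) ^ 5 = 1 := by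
  have e1 : b⁻¹ = b := inv_eq_of_mul_eq_one_right hb
  have e2 : d⁻¹ = d := inv_eq_of_mul_eq_one_right hd
  have e : m⁻¹ * (d * b) * m = ((d * b) ^ 2)⁻¹ := by
    have : m⁻¹ * (d * b) * m = d * (m⁻¹ * b * m) := by rw [← h1]; group
    rw [this, ← r2]
    simp only [sq, mul_inv_rev, e1, e2, ← mul_assoc, hd, one_mul]
  refine ⟨by rw [e, inv_mul_cancel], ?_⟩
  have e3 : d⁻¹ * (d * b) * d = (d * b) ^ 4 := by
    calc _ = m⁻¹ * (m⁻¹ * (d * b) * m) * m := by rw [← h1]; group
      _ = ((m⁻¹ * (d * b) * m) ^ 2)⁻¹ := by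
        nth_rw 1 [e]
        generalize d * b = a
        simp only [sq]; group
      _ = _ := by rw [e]; group
  rw [pow_succ, ← e3, inv_mul_cancel_left, mul_assoc, ← mul_assoc d, hd, one_mul, hb]

theorem hn_alg (hb : b * b = 1) (hd : d * d = 1) (hk : k * k = 1) (h1 : k * d * k = x * x)
    (xd : Commute x d) (xb : Commute x b) (yd : Commute y d) (yb : Commute y b) (yk : Commute y k)
    (hu : z * (x * x) * (z * (x * x)) = 1) (r1 : b⁻¹ * (k⁻¹ * b * k) * b = k⁻¹ * b * k)
    (r2 : (b * d)⁻¹ * d * (b * d) = (k * x * k)⁻¹ * b * (k * x * k))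
    (r3 : (k * b * k)⁻¹ * (z * (x * x)) * (k * b * k) =
      (k * (z * (x * x)))⁻¹ * b * (k * (z * (x * x)))) :
    (d * b) ^ 5 = 1 ∧ ∃ t, t = k * (d * b) * k ∧ t ^ 5 = 1 ∧ x⁻¹ * t * x * t ^ 2 = 1 ∧
      t⁻¹ * y⁻¹ * t * y = 1 ∧ (z * t) ^ 3 = 1 ∧ Commute t d ∧ Commute t b := by
  have e : k⁻¹ = k := inv_eq_of_mul_eq_one_right hk
  have c : ∀ a, k * (k * a) = a := fun a => by rw [← mul_assoc, hk, one_mul]
  obtain ⟨k1, k2⟩ := hn_five hb hd (m := k * x * k) (by
    simp only [mul_assoc, c]; rw [← mul_assoc x, ← h1]; simp only [mul_assoc, c, hk, mul_one]) r2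
  have s : k * (d * b) * k = x * x * (k * b * k) := by rw [← h1]; simp only [mul_assoc, c]
  have s2 : k * b * k * (k * b * k) = 1 := by
    simp only [mul_assoc, c]; rw [← mul_assoc b, hb, one_mul, hk]
  refine ⟨k2, _, rfl, ?_, ?_, ?_, ?_, ?_, ?_⟩
  · nth_rw 2 [← e]; rw [conj_pow, k2, mul_one, mul_inv_cancel]
  · have := congrArg (fun a => k * a * k) k1
    simpa only [sq, mul_inv_rev, e, mul_assoc, c, hk, mul_one, one_mul] using this
  · rw [mul_assoc, mul_assoc, ← ((yk.mul_right (yd.mul_right yb)).mul_right yk).eq]; group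
  · rw [s, ← mul_assoc z]
    rw [inv_eq_of_mul_eq_one_right s2, mul_inv_rev, inv_eq_of_mul_eq_one_right hu, e] at r3
    generalize z * (x * x) = u at *
    have r : k * b * k * u * (k * b * k) = u * (k * b * k) * u := by
      rw [r3]; simp only [mul_assoc]
    generalize k * b * k = v at *
    calc _ = u * (v * u * v) * u * v := by simp only [pow_succ, pow_zero, one_mul, mul_assoc]
      _ = u * u * v * (u * u) * v := by rw [r]; simp only [mul_assoc]
      _ = 1 := by rw [hu, one_mul, mul_one, s2]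
  · rw [s]
    refine (xd.mul_left xd).mul_left ?_
    have := congrArg (fun a => k * a * k) (xb.mul_left xb).symm.eq
    rw [← h1] at this
    simpa only [Commute, SemiconjBy, mul_assoc, c, hk, mul_one] using this
  · rw [s]
    refine (xb.mul_left xb).mul_left ?_
    rw [e, mul_assoc, inv_mul_eq_iff_eq_mul] at r1
    exact r1

end

namespace CM

open Cfsg.Lib.Spor.Bulk Cfsg.Lib.Mon.Cert Cfsg.Lib.Mon.Kit

variable {X : Type*} [Group X] (A : Am X)

/-- the facts -/
noncomputable def Fn : ℕ → ℕ × ℕ × ℕ × ℕ := nth (0, g0, 0, h0) FL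

/-- the pools -/
noncomputable def Tn : ℕ → List ℕ := nth [] [pool0, pool1, pool2, pool3, pool4, pool5, pool6, pool7,
  pool8, pool9, pool10, pool11]

theorem hFn (n : ℕ) : (pxM A).C.Fa (Fn n).1 (Fn n).2.1 (Fn n).2.2.1 (Fn n).2.2.2 :=
  nth_all (Q := fun a : ℕ × ℕ × ℕ × ℕ => (pxM A).C.Fa a.1 a.2.1 a.2.2.1 a.2.2.2) (f0 _ (hxM A))
    (hFL _ (hxM A)) n

theorem hTn : ∀ i, (pxM A).C.StL i (Tn i)
  | 0 => hpool0 _ (hxM A)
  | 1 => hpool1 _ (hxM A)
  | 2 => hpool2 _ (hxM A)
  | 3 => hpool3 _ (hxM A)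
  | 4 => hpool4 _ (hxM A)
  | 5 => hpool5 _ (hxM A)
  | 6 => hpool6 _ (hxM A)
  | 7 => hpool7 _ (hxM A)
  | 8 => hpool8 _ (hxM A)
  | 9 => hpool9 _ (hxM A)
  | 10 => hpool10 _ (hxM A)
  | 11 => hpool11 _ (hxM A)
  | _ + 12 => .nil

/-- the axis of type `1` -/
noncomputable def cA1 : ℕ := cmul (cmul h1 ax1) (cinv h1)

/-- the word of the axis of type `8` -/
noncomputable def l8 : List ℕ := [cmulP h112 pD, cPmul pD (cmulP (cmul (cinv g112) h13) pD),
  cPmul pD (cmul (cmul (cinv g13) cA1) g13), cmul (cinv h13) g112]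

theorem wd8 {e : ℕ} {u : GH} (hu : R e u) :
    (pxM A).Wd (cmul (cinv h112) e) l8 ((pxM A).ax 8 * A.ι u) := by
  obtain ⟨g, h, g1, h1, F8⟩ := f112 _ (hxM A)
  obtain ⟨g', h', g2, h2, F3⟩ := f13 _ (hxM A)
  obtain ⟨c, c1, c2⟩ := hax1 A
  refine ⟨_, _, h1.mulP' _, trivial, ⟨_, _, ((g1.inv.mul h2).mulP' _).Pmul' _, trivial, ⟨_, _,
    ((g2.inv.mul c1).mul g2).Pmul' _, trivial, ⟨_, _, h2.inv.mul g1, trivial,
    ⟨_, h1.inv.mul hu, trivial, rfl⟩, rfl⟩, rfl⟩, rfl⟩, ?_⟩
  have : A.τ⁻¹ = A.ι (pq pD) * A.τ * A.ι (pq pD) :=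
    inv_eq_of_mul_eq_one_right (by rw [← A.h2, sq]; simp only [mul_assoc])
  rw [Px.ax_eq F8, Px.ax_eq F3, c2]
  change A.ι h * (A.τ⁻¹ * ((A.ι g)⁻¹ * (A.ι h' * (A.τ⁻¹ * ((A.ι g')⁻¹ * A.ι c * A.ι g') * A.τ) *
    (A.ι h')⁻¹) * A.ι g) * A.τ) * (A.ι h)⁻¹ * A.ι u = A.ι _ * A.τ * (A.ι _ * A.τ * (A.ι _ * A.τ *
    (A.ι _ * A.τ * A.ι _)))
  simp only [this, map_mul, map_inv, mul_assoc]

/-- generators of `2.HS.2` -/
noncomputable def cx : ℕ := wmul pool8 [7, 10, 15, 15, 11, 15, 8, 2] cone
/-- generators of `2.HS.2` -/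
noncomputable def cy : ℕ := wmul pool8 [0, 8, 14, 15, 10, 14, 15, 3] cone
/-- generators of `2.HS.2` -/
noncomputable def cz : ℕ := wmul pool8 [2, 3, 15, 7, 0, 2, 1, 1] cone
/-- moves the fixed short code to `t` -/
noncomputable def cg : ℕ := wmul (pool0 ++ pool1) [17, 23, 24, 23] cone
/-- moves the axis of type `1` to `z x²` -/
def rh : ℕ := 0x50030020014008005002000c00a003001801000a004002001000a005002800c006005002001400a0040028010006004002801000c004002000c008005002800c0080040020010008004001801000400200180100060040028010008004002000c008003001801400800400200100080020018010008003002000c00800500200140060030018010006004002001000a0030028014006005002000c006004002801000a0040018010008002003000c0080050018014008004002001000800400180100080050020014008005002000c006003001801000a0040020010006003002800c00a003002000c00600400280100060040018010008004002000c008003001800c004004002001000400400280100080030020014008003002001400600300180100060040020010006005001800c00a005002001400600400180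100060040018010008004002000c008005002801400800200200100080040028018008004001801000a004002801000800400200140080050028014004004002001000400400180100080030020014008003002000c006005002801000a004002001000a003001800c006005002000c006004001801000a004001801000c0040020014008003001801400800400200100080040028010004005002001400800500200140060050028010006004002001000a005002800c0060030020014006005002000c008003002000c006003001801000a004002001000a00500180140060030020014006004001801000a0040018008008004002000c004003002800c00800400200100080040018010008004002801800a0040028010008004002000c008003002801400800400200180080040028010008004002801000600200180100080040020014008003002801400800400300100080040018010008004001801000600400280100080020030014008003002800c0080040020010008004002801000800600180100060040028010008004002000c008003001801400800400200100080060018010008004001801800600400180100080040020014008005001800c0080040020018008004001801000800400280100060060018010008004002001400800300280140080040010010008004001801000800400180100060040018010008004002000c008005002801400800600200100080040028008008004001801000a0040018018008004002000c00c003002800c008004002001000800400180100080050020014008003002001400a0030018010006004002001000a003001800c006003002000c00a038c192646bd5d1bc4c801714aff2fe7846a0b5ef06523fa4e72f7deed98aff20277fa77d5aadcc934288ec35fefe20f3903f6981ca05306d5dac61ecf7f96e35da3a3ddcdda24ea45cc42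

theorem one_of {c : ℕ} {g : GH} (h : R c g) (e : ceq c cone = true) : A.ι g = 1 := by
  rcases h.ceq R_one e with e | e <;> rw [e]
  exacts [map_one _, by rw [mul_one, A.ι_cc]]

theorem comm_of {c p : ℕ} {g : GH} (h : R c g) (e : Nat.beq (cap c p) p = true) :
    Commute (A.ι g) (A.ι (pq p)) :=
  Commute.map (show g * _ = _ * g by rw [mul_pq, ← h.cap_eq', Nat.eq_of_beq_eq_true e]) _

theorem st8 (w : List ℕ) : ∃ g, R (wmul pool8 w cone) g ∧ Commute (A.ι g) ((pxM A).ax 8) := by
  obtain ⟨s, s1, s2⟩ := Cx.wmul_spec (hpool8 _ (hxM A)) w R_one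
  refine ⟨s, mul_one s ▸ s2, ?_⟩
  have := Px.ax_stab s1
  rw [mul_assoc, inv_mul_eq_iff_eq_mul] at this
  exact this.symm

theorem at8 {c : ℕ} {g : GH} (h : R c g) : (pxM A).At ((A.ι g)⁻¹ * (pxM A).ax 8 * A.ι g) 8 c :=
  ⟨g, h, trivial, rfl⟩

theorem pq_sq (p : ℕ) (e : ceq (cmulP (cp p) p) cone = true) : A.ι (pq p) * A.ι (pq p) = 1 :=
  (map_mul _ _ _).symm.trans (one_of A ((R_cp' p).mulP' p) e)

open Cfsg.Spor in
theorem exists_hom : ∃ (b : X) (f : HN →* X), IsConj (A.ι (pq pT)) (A.ι (pq 18796544)) ∧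
    (A.ι (pq 18796544) * b) ^ 5 = 1 ∧ f.range ≤ centralizer {A.ι (pq 18796544)} ⊓ centralizer {b} ∧
    (A.ι (pq 18796544) * b = 1 → A.ι (pq 2019328) = 1) ∧
    f (.of .x) * f (.of .x) = A.ι (pq 2019328) := by
  obtain ⟨x, hx, xb⟩ := st8 A [7, 10, 15, 15, 11, 15, 8, 2]
  obtain ⟨y, hy, yb⟩ := st8 A [0, 8, 14, 15, 10, 14, 15, 3]
  obtain ⟨z, hz, zb⟩ := st8 A [2, 3, 15, 7, 0, 2, 1, 1]
  change R cx x at hx
  change R cy y at hy
  change R cz z at hz
  have xd := comm_of A (p := 18796544) hx (by decide +kernel)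
  have yd := comm_of A (p := 18796544) hy (by decide +kernel)
  have zd := comm_of A (p := 18796544) hz (by decide +kernel)
  have hk := pq_sq A 3709909 (by decide +kernel)
  have k := R_cp' 3709909
  obtain ⟨g, g1⟩ : ∃ g, R cg g := by
    refine List.rec (motive := fun w => ∃ g, R (wmul _ w cone) g) ⟨1, R_one⟩ (fun n _ ⟨g, h⟩ => ?_) _
    obtain ⟨s, s1⟩ := nth_all (Q := fun c => ∃ s, R c s) ⟨1, R_one⟩
      (fun c h => (hT A c h).imp fun _ h => h.1) n
    exact ⟨_, s1.mul h⟩
  have d0 := Px.At.of_ax (hax0 A) g1 trivial (R_cp' 18796544) (by decide +kernel)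
  have u := hz.mul (hx.mul hx)
  have u1 := Px.At.of_ax (hax1 A) (ld_spec (r := rh) (by decide +kernel)).2 trivial u
    (by decide +kernel)
  have w8 := wd8 A R_one
  rw [map_one, mul_one] at w8
  have w3 : (pxM A).Wd (cmul (cinv h112) (cp 3709909)) (cPmul 3709909 (cmulP h112 pD) :: l8.tail)
      (A.ι (pq 3709909) * (pxM A).ax 8 * A.ι (pq 3709909)) := by
    obtain ⟨a, v, a1, -, a2, a3⟩ := wd8 A k
    exact ⟨_, v, a1.Pmul' 3709909, trivial, a2, by
      rw [mul_assoc, a3, map_mul]; simp only [mul_assoc]; rfl⟩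
  have xx : A.ι x * A.ι x = A.ι (pq 2019328) := by
    rw [← map_mul, ← mul_inv_eq_one, ← map_inv, ← map_mul]
    exact one_of A ((hx.mul hx).mul (R_cp' _).inv) (by decide +kernel)
  obtain ⟨a5, t, e, t1, t2, t3, t4, t5, t6⟩ := hn_alg (b := (pxM A).ax 8) (z := A.ι z)
    (by
      rw [Px.ax, mul_assoc, mul_assoc _⁻¹ _ ((pxM A).C.U 8), mul_inv_cancel_left, mul_assoc,
        ← mul_assoc ((pxM A).A.ι _), Am.sq_pq (by exact (by decide : pmul pT pT = 0)), one_mul,
        inv_mul_cancel])
    (pq_sq A 18796544 (by decide +kernel)) hk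
    (by rw [xx, ← map_mul, ← map_mul, pq_mul, pq_mul]; rfl) xd xb yd yb
    (comm_of A hy (by decide +kernel))
    (by simp only [← map_mul]; exact one_of A (u.mul u) (by decide +kernel))
    (Px.At.cj (hFn A) (hTn A) (at8 A k) w8 (at8 A k) [(115, [1, 13, 11]), (138, [14, 15, 3, 9]),
      (139, [14, 13]), (115, [12, 14, 4])] [9, 12, 8, 7, 14] (by decide +kernel))
    (by
      simp only [← map_mul]
      exact Px.At.cj (hFn A) (hTn A) d0 (wd8 A (R_cp' _)) (at8 A ((k.mul hx).mul k))
        [(0, [0, 7, 2, 8, 8]), (5, [0, 4, 10, 14, 10, 15]), (16, [1, 0, 6, 4]),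
        (107, [4, 6, 6, 12, 14, 2])] [5, 1, 13, 0, 12, 15, 12, 2] (by decide +kernel))
    (by
      simp only [← map_mul]
      exact Px.At.cj (hFn A) (hTn A) u1 w3 (at8 A (k.mul u)) [(4, [9, 5, 5, 4]),
        (24, [14, 9, 12, 10, 4, 10]), (31, [0, 13, 7, 8]), (107, [5, 9, 6, 0, 12, 2])]
        [2, 6, 13, 11, 5, 13, 9, 3] (by decide +kernel))
  let f : HN.Gen → X := fun a => match a with
    | .x => A.ι x | .y => A.ι y | .z => A.ι z | .t => t
  have w1 := ((((((hy.mul hx).mul hy).mul hx).mul (R_cpow hy 2)).mul hx).mul hy.inv)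
  have w2 := ((((R_cpow hy 3).mul hx).mul hy).mul hx).mul hy
  have z2 := one_of A (R_cpow hz 2) (by decide +kernel)
  have zx := one_of A (R_cpow (hz.mul hx) 2) (by decide +kernel)
  have rel : ∀ r ∈ coxRelators HN.edges ∪ {r | r ∈ HN.extra}, FreeGroup.lift f r = 1 := by
    rintro r (⟨_, h, -⟩ | h)
    · exact absurd h List.not_mem_nil
    simp only [HN.extra, Set.mem_ofPred_eq, List.mem_cons, List.not_mem_nil, or_false] at h
    rcases h with rfl | rfl | rfl | rfl | rfl | rfl | rfl | rfl | rfl | rfl | rfl | rfl | rfl | rfl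
    all_goals simp only [map_mul, map_pow, map_inv, FreeGroup.lift_apply_of, f]
    any_goals assumption
    all_goals simp only [← map_mul, ← map_pow, ← map_inv]
    · exact one_of A (R_cpow hy 6) (by decide +kernel)
    · exact one_of A ((((R_cpow hx 2).mul hy).mul (R_cpow hx 2)).mul hy.inv) (by decide +kernel)
    · exact one_of A (R_cpow (((hx.inv.mul hy.inv).mul hx).mul hy) 3) (by decide +kernel)
    · exact one_of A (R_cpow (((hx.inv.mul (R_cpow hy 2)).mul hx).mul (R_cpow hy 3)) 3)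
        (by decide +kernel)
    · exact one_of A (R_cpow (hx.mul hy) 8) (by decide +kernel)
    · exact one_of A (R_cpow (((hx.mul hy).mul hx).mul (R_cpow hy 3)) 4) (by decide +kernel)
    · exact z2
    · exact zx
    · exact one_of A ((((hz.inv.mul w1.inv).mul hz).mul w1).mul (R_cpow hx 2).inv)
        (by decide +kernel)
    · exact one_of A (hz.mul (R_cpow (((w2.inv.mul hz).mul w2).mul hx) 3)) (by decide +kernel)
  obtain ⟨g', -, -, d1⟩ := d0
  refine ⟨(pxM A).ax 8, PresentedGroup.toGroup rel, isConj_iff.2 ⟨(A.ι g')⁻¹, ?_⟩, a5, ?_,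
    fun a1 => ?_, ?_⟩
  · rw [inv_inv]
    refine Eq.trans ?_ d1.symm
    rw [Px.ax, Cx.U_zero, inv_one, one_mul, mul_one]; rfl
  · rw [MonoidHom.range_eq_map, ← PresentedGroup.closure_range_of, MonoidHom.map_closure, closure_le]
    rintro _ ⟨_, ⟨a, rfl⟩, rfl⟩
    rw [PresentedGroup.toGroup.of, SetLike.mem_coe, mem_inf, mem_centralizer_singleton_iff,
      mem_centralizer_singleton_iff]
    cases a
    exacts [⟨xd, xb⟩, ⟨yd, yb⟩, ⟨zd, zb⟩, ⟨t5, t6⟩]
  · rw [e, a1, mul_one, hk, mul_one, pow_succ, ← map_pow, z2, one_mul] at t4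
    rwa [map_pow, map_mul, t4, one_mul, sq, xx] at zx
  · rw [PresentedGroup.toGroup.of]; exact xx

end CM

/-- `D10 × HN`. -/
theorem Am.Enum.exists_HN {X : Type*} [Group X] {A : Am X} (h : A.Enum) : ∃ d a : X,
    IsConj (A.ι (pq pT)) d ∧ orderOf a = 5 ∧ ∃ K ≤ centralizer {d} ⊓ centralizer {a},
      Cfsg.Spor.IsoHN K := by
  obtain ⟨b, f, h1, h2, h3, h4, h5⟩ := CM.exists_hom A
  have := Agent.S1701.result.1
  have k : f.ker = ⊥ := f.normal_ker.eq_bot_or_eq_top.resolve_right fun e =>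
    h.ι_ne_one (p := 2019328) (by decide) (by decide) (by
      rw [← h5, ← map_mul]; exact e.ge (mem_top _))
  have k' := (MonoidHom.ker_eq_bot_iff f).1 k
  have : Fact (Nat.Prime 5) := ⟨Nat.prime_five⟩
  exact ⟨_, _, h1, orderOf_eq_prime h2 fun e => h.ι_ne_one (by decide) (by decide) (h4 e), f.range,
    fun x hx => ⟨(h3 hx).1, mem_centralizer_singleton_iff.2 (Commute.mul_right
      (mem_centralizer_singleton_iff.1 (h3 hx).1) (mem_centralizer_singleton_iff.1 (h3 hx).2))⟩,
    ⟨(MonoidHom.ofInjective k').symm⟩⟩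

end Cfsg.Lib.Mon
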