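import Cfsg.Agent.Mon.UQA4

/-! The Ivanov amalgam: invariant subspaces of `Q / Z(Q)` under the monomial group. -/

set_option autoImplicit false
set_option Elab.async false

namespace Cfsg.Lib.Mon.Iv

open Cfsg Subgroup Cfsg.Lib.Spor Cfsg.Lib.Spor.CK Cfsg.Lib.Spor.Bulk Kit

/-- The keys visited by a walk. -/
noncomputable def wk (f : ℕ → ℕ → ℕ) (s n : ℕ) : ℕ → ℕ → ℕ :=
  Nat.rec (fun _ m => m) (fun k r x m => frN (f k x) fun y =>
    frN (Nat.lor m (Nat.shiftLeft 1 (Nat.shiftRight x s))) fun m' => r y m') n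

theorem wk_spec {f : ℕ → ℕ → ℕ} {s : ℕ} {P : ℕ → Prop} (hf : ∀ k x, P x → P (f k x)) (j : ℕ) :
    ∀ n x m, P x → (wk f s n x m).testBit j = true → m.testBit j = true ∨ ∃ y, P y ∧ y >>> s = j := by
  intro n
  induction n with
  | zero => exact fun x m _ h => Or.inl h
  | succ n ih =>
    intro x m hx h
    rcases ih (f n x) (m ||| 1 <<< (x >>> s)) (hf n x hx) h with e | e
    · rw [Nat.testBit_or, Bool.or_eq_true, Nat.one_shiftLeft, Nat.testBit_two_pow,
        decide_eq_true_eq] at e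
      exact e.imp id fun e => ⟨x, hx, e⟩
    · exact Or.inr e

/-- Iteration. -/
noncomputable def itr (g : ℕ → ℕ) (n : ℕ) : ℕ → ℕ :=
  Nat.rec (fun x => x) (fun _ r x => frN (g x) r) n

theorem itr_eq (g : ℕ → ℕ) (n x : ℕ) : itr g n x = g^[n] x := by
  induction n generalizing x with
  | zero => rfl
  | succ n ih => exact ih (g x)

theorem cyc {g : ℕ → ℕ} {n x0 M : ℕ} (h1 : Nat.beq (wk (fun _ => g) 0 (n + 1) x0 0) M = true)
    (h2 : Nat.beq (itr g (n + 1) x0) x0 = true) {S : ℕ → Prop} (hS : ∀ x, S x → S (g x)) {x y : ℕ}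
    (hx : M.testBit x = true) (hy : M.testBit y = true) (h : S x) : S y := by
  have key : ∀ x, M.testBit x = true → ∃ i, g^[i] x0 = x := fun x hx => by
    rw [← Nat.eq_of_beq_eq_true h1] at hx
    rcases wk_spec (P := fun y => ∃ i, g^[i] x0 = y) (fun _ y ⟨i, e⟩ =>
      ⟨i + 1, by rw [Function.iterate_succ_apply', e]⟩) x _ _ _ ⟨0, rfl⟩ hx with e | ⟨y, e, e'⟩
    · simp at e
    · exact e' ▸ e
  obtain ⟨i, rfl⟩ := key x hx
  obtain ⟨j, rfl⟩ := key y hy
  have e := Nat.eq_of_beq_eq_true h2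
  rw [itr_eq] at e
  have e1 : g^[j + n * i] (g^[i] x0) = g^[j] x0 := by
    rw [← Function.iterate_add_apply, add_assoc, ← Nat.succ_mul, Function.iterate_add_apply,
      Function.iterate_mul, Function.iterate_fixed e]
  rw [← e1]
  generalize j + n * i = k
  induction k with
  | zero => exact h
  | succ k ih => rw [Function.iterate_succ_apply']; exact hS _ ih

/-- The tableau of `rU0`. -/
def tU : ℕ := 0x23a0002f68001d980008040002e30001da000052c0008400002cc000280000027c0000010004c5d7704c84c86dcb54f7fe706a52511d486e06ebdc8f7fb2c40bf2f18ce71063b6ec800001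

/-- The tableau of the inverse of `rU0`. -/
def tV : ℕ := 0x49f0000ea000127400065600057200024b8001fe400054a00052c00020f8001d14000001000cccb8a0752b206eccc8ff24cac003544fc3b42e6908557ec2a5c93254ceae89fb894493e001

/-- The tableau of `rYb`. -/
def tY : ℕ := 0x4000001000000400000100000040000010000004000001000000400000100020060000010003424006ff1001820400444100630040164010091004064801021a0043420010000004000003

/-- The tableau of `rU1`. -/
def tS : ℕ := 0x750003ed0001004000ecc0005ed0002000000b3000084000040400020400016cc0000010003b93420eb1c01faca4c1566a06881021f06f785fcb405f63c45f73c41c082d1ca0348800001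

theorem φU (p : ℕ) : φ (el rU0) p = tmul 1 tU p := φ_U0 p

theorem φS (p : ℕ) : φ (el rU1) p = tmul 1 tS p := φ_U1 p

theorem φV (p : ℕ) : φ (el rU0)⁻¹ p = tmul 1 tV p := φ_tab R_U0.inv (by decide +kernel) p

theorem φY (p : ℕ) : φ (el rYb) p = tmul 1 tY p := φ_tab R_Yb (by decide +kernel) p

theorem U0_N : el rU0 ∈ FxS [pZ1] := Est.mem_N U0_est

theorem Yb_N : el rYb ∈ FxS [pZ1] := NP_fst NP_yb

theorem φ_congr (g : GH) {p q : ℕ} (h : p % 2 ^ 24 = q % 2 ^ 24) :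
    φ g p % 2 ^ 24 = φ g q % 2 ^ 24 := by
  obtain ⟨v, hv⟩ := exists_cls q
  rw [φ_pr g hv, φ_pr g (h.trans hv)]

theorem φ_of_pr {g h : GH} (e : pr g = pr h) (p : ℕ) : φ g p % 2 ^ 24 = φ h p % 2 ^ 24 := by
  obtain ⟨v, hv⟩ := exists_cls p
  rw [φ_pr g hv, φ_pr h hv, e]

theorem φ_xor (g : GH) (p q : ℕ) : φ g (p ^^^ q) % 2 ^ 24 = φ g p % 2 ^ 24 ^^^ φ g q % 2 ^ 24 := by
  rw [← pmul_mod, ← φ_pmul]
  exact φ_congr g (by rw [pmul_mod, Nat.xor_mod_two_pow])

theorem φ_diag {g : GH} (hg : g ∈ FxS [pZ1]) {p : ℕ} (hp : p % 4096 = 0) : φ g p % 4096 = 0 := by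
  obtain ⟨m, hm⟩ := exists_NP hg
  rw [← φ_mod]
  exact (NP_φ hm (Nat.mod_lt _ (by norm_num)) (by omega)).1

theorem xor_mod12 (p q : ℕ) : (p ^^^ q) % 4096 = p % 4096 ^^^ q % 4096 :=
  Nat.xor_mod_two_pow (n := 12)

theorem mod12_of {a b : ℕ} (h : a % 2 ^ 24 = b % 2 ^ 24) : a % 4096 = b % 4096 := by omega

theorem φ_res {g : GH} (hg : g ∈ FxS [pZ1]) {p q : ℕ} (h : p % 4096 = q % 4096) :
    φ g p % 4096 = φ g q % 4096 := by
  have h1 := φ_diag hg (p := p ^^^ q) (by rw [xor_mod12, h, Nat.xor_self])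
  have h2 := φ_xor g p q
  rw [← Nat.xor_mod_two_pow] at h2
  rw [mod12_of h2, xor_mod12] at h1
  exact Nat.eq_of_xor_eq_zero h1

/-- A subspace of `Q / Z(Q)` invariant under `rU0` and `rYb`. -/
structure Sub (S : ℕ → Prop) : Prop where
  cong : ∀ {p q}, S p → q % 2 ^ 24 = p % 2 ^ 24 → S q
  xor : ∀ {p q}, S p → S q → S (p ^^^ q)
  u : ∀ {p}, S p → S (φ (el rU0) p)
  y : ∀ {p}, S p → S (φ (el rYb) p)

theorem bit_ev : ∀ j < 2048, j ≠ 0 → (Nat.sub (ones 2048) 1).testBit j = true := by decide +kernel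

theorem bit_res : ∀ j < 2048, j ≠ 0 → (ones 4096 / 3 - 1).testBit (2 * j) = true := by decide +kernel

namespace Sub

variable {S : ℕ → Prop} (h : Sub S)
include h

theorem ev {p q : ℕ} (hp : Ev p) (h0 : p ≠ 0) (hs : S p) (hq : Ev q) : S q := by
  by_cases e : q = 0
  · rw [e, ← Nat.xor_self p]; exact h.xor hs hs
  have := cyc (g := fun j => Nat.shiftRight (Nat.xor (Nat.mul j 8192) (tmul 1 tU (Nat.mul j 8192))) 13)
    (n := 2046) (x0 := 1) (M := Nat.sub (ones 2048) 1) (by decide +kernel) (by decide +kernel)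
    (S := fun j => j < 2048 ∧ S (j * 8192)) (fun j ⟨a, b⟩ => by
      have k : Ev (j * 8192) := ⟨by omega, by omega⟩
      have k1 := k.xor (k.φ U0_est)
      have k2 := h.xor b (h.u b)
      rw [φU] at k1 k2
      have e : Nat.shiftRight (Nat.xor (Nat.mul j 8192) (tmul 1 tU (Nat.mul j 8192))) 13 =
        (j * 8192 ^^^ tmul 1 tU (j * 8192)) / 8192 := Nat.shiftRight_eq_div_pow _ _
      obtain ⟨k3, k4⟩ := k1
      rw [e]
      exact ⟨by omega, by rwa [Nat.div_mul_cancel (n := 8192) (Nat.dvd_of_mod_eq_zero k4)]⟩)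
    (x := p / 8192) (y := q / 8192)
    (bit_ev _ (by have := hp.1; omega) (by have := hp.2; omega))
    (bit_ev _ (by have := hq.1; omega) (by have := hq.2; omega))
    ⟨by have := hp.1; omega, by rwa [Nat.div_mul_cancel (n := 8192) (Nat.dvd_of_mod_eq_zero hp.2)]⟩
  have k := this.2
  rwa [Nat.div_mul_cancel (n := 8192) (Nat.dvd_of_mod_eq_zero hq.2)] at k

theorem diag {p : ℕ} (hp : p % 4096 = 0) (h0 : p % 2 ^ 24 ≠ 0) (h1 : p % 2 ^ 24 ≠ 4096) (hs : S p)
    {q : ℕ} (hq : q % 4096 = 0) : S q := by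
  have k0 := h.cong hs (Nat.mod_mod p (2 ^ 24))
  have k1 := h.xor k0 (h.u k0)
  rw [φU] at k1
  obtain ⟨k2, k3⟩ : Ev _ ∧ _ := (diag_cases (P := fun q => (2 ^ 24 ≤ q ∨ q = 0 ∨ q = 4096) ∨
    ((q ^^^ tmul 1 tU q) < 2 ^ 24 ∧ (q ^^^ tmul 1 tU q) % 2 ^ 13 = 0) ∧ q ^^^ tmul 1 tU q ≠ 0)
    (by decide +kernel) (q := p % 2 ^ 24) (by omega) (by omega)).resolve_left (by omega)
  have k4 := h.ev k2 k3 k1 (q := 2 ^ 13) (by decide)
  have k5 := h.xor k4 (h.y k4)
  rw [φY, show 2 ^ 13 ^^^ tmul 1 tY (2 ^ 13) = pZ1 by decide +kernel] at k5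
  by_cases e : q % 2 ^ 13 = 0
  · exact h.cong (h.ev k2 k3 k1 (q := q % 2 ^ 24) ⟨by omega, by omega⟩) (by omega)
  · have k6 : Ev ((q ^^^ pZ1) % 2 ^ 24) := ⟨by omega, by
      have : (q ^^^ pZ1) % 2 ^ 13 = 0 := by
        rw [Nat.xor_mod_two_pow, show q % 2 ^ 13 = 4096 by omega]; rfl
      omega⟩
    refine h.cong (h.xor (h.ev k2 k3 k1 k6) k5) ?_
    rw [Nat.xor_mod_two_pow, Nat.mod_mod, ← Nat.xor_mod_two_pow, Nat.xor_xor_cancel_right]

theorem even {p : ℕ} (hp : p % 2 = 0) (h0 : p % 4096 ≠ 0) (hs : S p) {q : ℕ} (hq : q % 2 = 0) :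
    S q := by
  have key : ∀ r < 2048, r ≠ 0 → ∃ x, x % 4096 = 2 * r ∧ S x := fun r hr h1 =>
    cyc (g := fun j => Nat.land (Nat.xor j (tmul 1 tU j)) 4095) (n := 2046) (x0 := 2)
      (M := ones 4096 / 3 - 1) (by decide +kernel) (by decide +kernel)
      (S := fun j => ∃ x, x % 4096 = j ∧ S x) (fun j ⟨x, a, b⟩ => ⟨_, by
        change _ = (j ^^^ tmul 1 tU j) &&& 4095
        rw [and_4095, ← φU, xor_mod12, xor_mod12, ← a, Nat.mod_mod,
          φ_res U0_N (Nat.mod_mod x 4096)], h.xor b (h.u b)⟩)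
      (x := 2 * (p % 4096 / 2)) (bit_res _ (by omega) (by omega)) (bit_res r hr h1)
      ⟨p, by omega, hs⟩
  obtain ⟨x, a, b⟩ := key 86 (by norm_num) (by norm_num)
  have b0 := h.cong b (Nat.mod_mod x (2 ^ 24))
  have k1 := h.xor b0 (h.y b0)
  obtain ⟨k2, k3, k4⟩ := diag_cases (P := fun q => ((q ^^^ 172) ^^^ tmul 1 tY (q ^^^ 172)) % 4096 = 0 ∧
    ((q ^^^ 172) ^^^ tmul 1 tY (q ^^^ 172)) % 2 ^ 24 ≠ 0 ∧
    ((q ^^^ 172) ^^^ tmul 1 tY (q ^^^ 172)) % 2 ^ 24 ≠ 4096) (by decide +kernel)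
    (q := x % 2 ^ 24 ^^^ 172) (Nat.xor_lt_two_pow (by omega) (by norm_num))
    (by rw [xor_mod12, show x % 2 ^ 24 % 4096 = 172 by omega]; rfl)
  rw [Nat.xor_xor_cancel_right, ← φY] at k2 k3 k4
  by_cases e : q % 4096 = 0
  · exact h.diag k2 k3 k4 k1 e
  obtain ⟨x', a', b'⟩ := key (q % 4096 / 2) (by omega) (by omega)
  have := h.xor b' (h.diag k2 k3 k4 k1 (q := x' ^^^ q) (by
    rw [xor_mod12, a', show 2 * (q % 4096 / 2) = q % 4096 by omega, Nat.xor_self]))
  rwa [Nat.xor_xor_cancel_left] at this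

omit h in
theorem odd_res {p : ℕ} (hp : p % 2 = 1) : (p ^^^ φ (el rYb) p) % 4096 = 2 := by
  have k : ∀ a < 64, ∀ b < 32, ((64 * a + 2 * b + 1) ^^^ tmul 1 tY (64 * a + 2 * b + 1)) % 4096 = 2 := by
    decide +kernel
  have := k (p % 4096 / 64) (by omega) (p % 64 / 2) (by omega)
  rw [show 64 * (p % 4096 / 64) + 2 * (p % 64 / 2) + 1 = p % 4096 by omega, ← φY, xor_mod12,
    Nat.mod_mod, φ_res Yb_N (Nat.mod_mod p 4096)] at this
  rw [xor_mod12, this]

theorem odd {p : ℕ} (hp : p % 2 = 1) (hs : S p) (q : ℕ) : S q := by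
  have k := odd_res hp
  have k1 := fun q => h.even (q := q) (by omega) (by omega) (h.xor hs (h.y hs))
  by_cases e : q % 2 = 0
  · exact k1 q e
  · have := h.xor hs (k1 (p ^^^ q) (by
      rw [show (p ^^^ q) % 2 = _ from Nat.xor_mod_two_pow (n := 1), pow_one, hp,
        show q % 2 = 1 by omega]; rfl))
    rwa [Nat.xor_xor_cancel_left] at this

theorem cases (hn : ¬ S (2 ^ 13)) {p : ℕ} (hs : S p) : p % 2 ^ 24 = 0 ∨ p % 2 ^ 24 = 4096 := by
  by_contra k
  rw [not_or] at k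
  refine hn ?_
  by_cases e : p % 2 = 0
  · by_cases e' : p % 4096 = 0
    · exact h.diag e' k.1 k.2 hs rfl
    · exact h.even e e' hs rfl
  · exact h.odd (by omega) hs _

end Sub

theorem fixU {p : ℕ} (h : φ (el rU0) p % 2 ^ 24 = p % 2 ^ 24) : p % 2 ^ 24 = 0 ∨
    p % 2 ^ 24 = 4096 ∨ p % 2 ^ 24 = pD ∨ p % 2 ^ 24 = pD ^^^ 4096 := by
  have k0 : ∀ p, p % 4096 = 0 → φ (el rU0) p % 2 ^ 24 = p % 2 ^ 24 →
      p % 2 ^ 24 = 0 ∨ p % 2 ^ 24 = 4096 := fun p a b =>
    diag_cases (P := fun q => q < 2 ^ 24 → tmul 1 tU q % 2 ^ 24 = q → q = 0 ∨ q = 4096)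
      (by decide +kernel) (q := p % 2 ^ 24) (by omega) (by omega) (by omega)
      (by rw [← φU, φ_congr _ (Nat.mod_mod _ _), b])
  have k1 : ∀ a < 64, ∀ b < 64, tmul 1 tU (64 * a + b) % 4096 = 64 * a + b → 64 * a + b < 2 := by
    decide +kernel
  have k2 := k1 (p % 4096 / 64) (by omega) (p % 64) (by omega)
  rw [show 64 * (p % 4096 / 64) + p % 64 = p % 4096 by omega, ← φU,
    φ_res U0_N (Nat.mod_mod p 4096)] at k2
  have k3 := k2 (mod12_of h)
  by_cases e : p % 4096 = 0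
  · exact (k0 p e h).imp id Or.inl
  have k4 := k0 (p ^^^ pD) (by rw [xor_mod12, show p % 4096 = 1 by omega]; rfl)
    (by rw [φ_xor, h, φ_U0_D, Nat.xor_mod_two_pow])
  rw [Nat.xor_mod_two_pow] at k4
  refine Or.inr (Or.inr (k4.imp (fun e => Nat.eq_of_xor_eq_zero e) fun e => ?_))
  rw [← e, Nat.xor_comm (p % 2 ^ 24)]
  exact (Nat.xor_xor_cancel_left _ _).symm

theorem ev_cases {u : ℕ} (hu : Ev u) : u = 0 ∨ ∃ e ∈ Est, u = φ e pT ∨ u = φ e pW := by
  have key : ∀ x0 w n, Ev x0 → (wk (fun k x => Bool.rec (tmul 1 tU x) (tmul 1 tS x) (Nat.testBit w k))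
      13 n x0 0).testBit (u / 8192) = true → ∃ e ∈ Est, u = φ e x0 := fun x0 w n h0 k => by
    rcases wk_spec (P := fun y => ∃ e ∈ Est, y = φ e x0) (fun k x ⟨e, he, hx⟩ => by
      cases Nat.testBit w k
      · exact ⟨_, EstS.mul_mem U0_est he, by rw [φ_mul, φU, hx]⟩
      · exact ⟨_, EstS.mul_mem U1_est he, by rw [φ_mul, φS, hx]⟩) _ _ _ _
      ⟨1, EstS.one_mem, (φ_one h0.lt).symm⟩ k with e | ⟨y, ⟨e, he, rfl⟩, e'⟩
    · simp at e
    · refine ⟨e, he, ?_⟩
      have k1 := (h0.φ he).2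
      have k2 := hu.2
      rw [Nat.shiftRight_eq_div_pow] at e'
      omega
  have k : Nat.beq (Nat.lor
    (wk (fun k x => Bool.rec (tmul 1 tU x) (tmul 1 tS x) (Nat.testBit
      0x200000400000800001000002000004000008000010000020000018000003800000 k)) 13 284 pT 0)
    (wk (fun k x => Bool.rec (tmul 1 tU x) (tmul 1 tS x) (Nat.testBit
      0x2000004000008000010000020000040000080000100000200000400000400000800000800000800001000002000004000008000010000020000040000080000100000100000100000300000200000400000400000400000e0000040000040000080000040000040000080000100000200000400000400000200000600000500000080000100000200000400000800001000000800000400000c0000020000010000018000018000002000003000001800001a000003000000800001000001c00000a0000020000020000020000034000008c0000090000028000013800000f000003800000 k))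
      13 1852 pW 0)) (Nat.sub (ones 2048) 1) = true := by decide +kernel
  by_cases e : u = 0
  · exact Or.inl e
  have k1 := bit_ev (u / 8192) (by have := hu.1; omega) (by have := hu.2; omega)
  rw [← Nat.eq_of_beq_eq_true k, Nat.lor_eq, Nat.testBit_or, Bool.or_eq_true] at k1
  right
  rcases k1 with k1 | k1
  · exact (key _ _ _ (by decide) k1).imp fun e he => ⟨he.1, Or.inl he.2⟩
  · exact (key _ _ _ (by decide) k1).imp fun e he => ⟨he.1, Or.inr he.2⟩

theorem pD_two : ∃ x, nm x = 32 ∧ pD = cls x := by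
  have h := isLV_sh (n := 32)
    (X := 0x4802401200900480240120090048024012009004802401200900480240120090048024012005)
    (by decide +kernel)
  exact ⟨_, h.2.2, by rw [← clsP_pk h.1, h.2.1]; decide +kernel⟩

end Cfsg.Lib.Mon.Iv
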