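import Cfsg.Agent.Mon.Defs
import Cfsg.Agent.Spor.FisKit

/-! The Monster programme: kernel arithmetic in `GH`, definitions.  A code consists of the tableau
(600 bits), the packed matrix (7488 bits), a signed basis index (25 bits) and the state `a e₀` up to a
positive factor (4096 support bits, 4096 sign bits). -/

set_option autoImplicit false

namespace Cfsg.Lib.Mon.Kit

open Cfsg Cfsg.Lib.Spor Cfsg.Lib.Spor.CK Cfsg.Lib.Spor.Bulk

/-- one bit in each field -/
def RP : ℕ := 0x800000400000200000100000080000040000020000010000008000004000002000001000000800000400000200000100000080000040000020000010000008000004000002000001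
/-- the tableau of the identity -/
def ID : ℕ := 0x400000100000040000010000004000001000000400000100000040000010000004000001000000400000100000040000010000004000001000000400000100000040000010000004000001

/-- `φ g (2 ^ k)` -/
def tk (c k : ℕ) : ℕ := Nat.land (Nat.shiftRight c (Nat.mul 25 k)) 33554431
/-- the tableau -/
def tab (c : ℕ) : ℕ := Nat.land c (ones 600)
/-- the packed matrix -/
def mat (c : ℕ) : ℕ := Nat.land (Nat.shiftRight c 600) (ones 7488)
/-- the signed basis index -/
def ux (c : ℕ) : ℕ := Nat.land (Nat.shiftRight c 8088) 0x1000fff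
/-- the state -/
def st (c : ℕ) : ℕ := Nat.shiftRight c 8113
/-- assembling a code -/
def asm (F A u y : ℕ) : ℕ := Nat.lor (tab F) (Nat.shiftLeft (Nat.lor (Nat.land A (ones 7488))
  (Nat.shiftLeft (Nat.lor (Nat.land u 0x1000fff) (Nat.shiftLeft y 25)) 7488)) 600)

/-- value of a state code -/
noncomputable def val (y w : ℕ) : ℝ :=
  if y.testBit w then (if y.testBit (4096 + w) then -1 else 1) else 0

/-- The state code `y` is zero or describes `ψ` up to a positive factor. -/
def Rel (y : ℕ) (ψ : W) : Prop := y ≠ 0 → y < 2 ^ 8192 ∧ (∀ w, y.testBit (4096 + w) → y.testBit w) ∧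
  ∃ l : ℝ, 0 < l ∧ ∀ w : Fin 4096, ψ w = l * val y w

/-- The amplitude of `ψ` at the signed index `u` is positive. -/
def Pos (u : ℕ) (ψ : W) : Prop := 0 < sg (u >>> 24) * ψ (xorF 0 u)

/-- The code `c` describes `g`. -/
structure R (c : ℕ) (g : GH) : Prop where
  tk_eq' : ∀ k < 24, φ g (2 ^ k) = tk c k
  mat_eq : cm g.1.2 = mat c
  pos : Pos (ux c) (g.1.1 (Pi.single 0 1))
  rel : Rel (st c) (g.1.1 (Pi.single 0 1))

/-- Some code of `g` (never evaluated). -/
noncomputable def junk (g : GH) : ℕ := open Classical in if h : ∃ c, R c g then h.choose else 0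

/-- The element with code `c` (never evaluated). -/
noncomputable def gOf (c : ℕ) : GH := pick (R c)

/-- parities of the twelve low bits of the fields, as sign bits -/
def psg (rp t : ℕ) : ℕ :=
  (fun a => (fun b => (fun c => (fun d => Nat.shiftLeft (Nat.land (Nat.xor d (Nat.shiftRight d 1)) rp) 24)
    (Nat.xor c (Nat.shiftRight c 2))) (Nat.xor b (Nat.shiftRight b 4))) (Nat.xor a (Nat.shiftRight a 8)))
    (Nat.land t (Nat.mul rp 4095))

/-- the loop of `tmul` -/
noncomputable def tloop (rp n : ℕ) : ℕ → ℕ → ℕ → ℕ → ℕ :=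
  Nat.rec (fun _ _ a t => Nat.xor a (psg rp t)) (fun _ r F G a t => seq a (seq t ((fun o =>
    r (Nat.shiftRight F 25) (Nat.shiftRight G 1) (Nat.xor a o)
      (Nat.xor t (Nat.land (Nat.shiftRight a 12) o))) (Nat.mul (Nat.land G rp) (Nat.land F 33554431))))) n

/-- apply the tableau `F` to all fields of `G` -/
noncomputable def tmul (rp F G : ℕ) : ℕ := tloop rp 24 F G (Nat.land G (Nat.shiftLeft rp 24)) 0

/-- `pcomm p` of all fields of `F`, as sign bits -/
def csg (p F : ℕ) : ℕ := psg RP (Nat.xor (Nat.land (Nat.mul RP (Nat.land (Nat.shiftRight p 12) 4095)) F)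
  (Nat.land (Nat.shiftRight F 12) (Nat.mul RP (Nat.land p 4095))))

/-- the positions below `8192` with bit `b = 2 ^ j` clear -/
def MK (b : ℕ) : ℕ := Nat.div (ones 8192) (Nat.succ (Nat.shiftLeft 1 b))
/-- the positions below `4096` with bit `b = 2 ^ j` set -/
def NK (b : ℕ) : ℕ := Nat.shiftLeft (Nat.div (ones 4096) (Nat.succ (Nat.shiftLeft 1 b))) b

/-- one butterfly -/
noncomputable def sw (b x y : ℕ) : ℕ := Nat.rec y (fun _ _ =>
  Nat.lor (Nat.shiftLeft (Nat.land y (MK b)) b) (Nat.land (Nat.shiftRight y b) (MK b))) (Nat.land x b)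

/-- translation of the positions -/
noncomputable def xs (x y : ℕ) : ℕ := sw 2048 x (sw 1024 x (sw 512 x (sw 256 x (sw 128 x (sw 64 x
  (sw 32 x (sw 16 x (sw 8 x (sw 4 x (sw 2 x (sw 1 x y)))))))))))

/-- one step of the sign mask -/
noncomputable def zx (b z a : ℕ) : ℕ := Nat.rec a (fun _ _ => Nat.xor a (NK b)) (Nat.land z b)

/-- the sign mask of `z` (twelve bits and a sign) -/
noncomputable def zm (z : ℕ) : ℕ := zx 2048 z (zx 1024 z (zx 512 z (zx 256 z (zx 128 z (zx 64 z
  (zx 32 z (zx 16 z (zx 8 z (zx 4 z (zx 2 z (zx 1 z (Nat.mul (Nat.land (Nat.shiftRight z 12) 1)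
    (ones 4096)))))))))))))

/-- the action of a Pauli operator on a state code -/
noncomputable def pauli (p y : ℕ) : ℕ :=
  seq p (xs p (Nat.xor y (Nat.shiftLeft (Nat.land (zm (Nat.shiftRight p 12)) y) 4096)))

/-- `(1 + P) y` -/
noncomputable def step (p y : ℕ) : ℕ := (fun y' s => Bool.rec
  (Bool.rec 0 (Nat.xor (Nat.land y y') (Nat.shiftRight (Nat.xor y y') 4096))
    (Nat.beq s (Nat.land y' (ones 4096)))) (Nat.lor y y') (Nat.beq (Nat.land s y') 0))
  (pauli p y) (Nat.land y (ones 4096))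

/-- the projectors of the fields of `F`, for the fields of `G` with non-zero `x`-part -/
noncomputable def prjL (n : ℕ) : ℕ → ℕ → ℕ → ℕ :=
  Nat.rec (fun _ _ y => y) (fun _ r F G y => seq y (r (Nat.shiftRight F 25) (Nat.shiftRight G 25)
    (Nat.rec y (fun _ _ => step (Nat.land F 33554431) y) (Nat.land G 4095)))) n

/-- index of the lowest bit (unverified) -/
def low (s : ℕ) : ℕ := (fun l => (fun b => Nat.add b (Nat.shiftLeft (Nat.land (Nat.shiftRight
  0x207fb791e89754427e4d22c7224d63e4984e0232f1f6af36c087c48a5683ad8d79450f0df407d2e9b981b1d7ea99cbf680000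
  (Nat.mul 6 (Nat.mod (Nat.mod (Nat.shiftRight l b) 0x1ffffffffffffffff) 67))) 63) 6))
  (Nat.land (Nat.shiftRight
  0x218868f01f892dc5a234e5595fbabc9d6fd27fd52e8b58e980805bf7b19cd47aa73cf9128d004d984e9ed03035e83c29c1000
  (Nat.mul 6 (Nat.mod (Nat.mod l 0xffffffffffffffff) 67))) 63))
  (Nat.xor s (Nat.land s (Nat.sub s 1)))

/-- the canonical code with state `y`, or `j` if `y = 0` -/
noncomputable def fin (F A j y : ℕ) : ℕ := seq y ((fun v => (fun w => Bool.rec j
  (asm F A (Nat.lor v (Nat.shiftLeft (Nat.land (Nat.shiftRight w 4096) 1) 24)) y)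
  (Nat.beq (Nat.land w 1) 1)) (Nat.shiftRight y v)) (Nat.land (low (Nat.land y (ones 4096))) 4095))

/-- product -/
noncomputable def cmul (c d : ℕ) : ℕ := seq c (seq d ((fun F G => (fun H =>
  fin H (mmul (mat c) (mat d)) (junk (gOf c * gOf d))
    (prjL 12 (Nat.shiftRight H 300) (Nat.shiftRight G 300) (pauli (tmul 1 F (ux d)) (st c))))
    (tmul RP F G)) (tab c) (tab d)))

/-- `φ g p` -/
noncomputable def cap (c p : ℕ) : ℕ := tmul 1 (tab c) p

/-- bit `b` of all fields, with the two halves interchanged -/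
def gth (F b : ℕ) : ℕ := (fun m => Nat.lor (Nat.mod (Nat.shiftRight m 300) 16777215)
  (Nat.shiftLeft (Nat.mod (Nat.land m (ones 300)) 16777215) 12)) (Nat.land (Nat.shiftRight F b) RP)

/-- the inverse tableau (unverified) -/
noncomputable def tinv (F : ℕ) : ℕ := (fun G0 => (fun G => Nat.xor G (Nat.land (tmul RP F G)
  (Nat.shiftLeft RP 24))) (Nat.lor (Nat.shiftRight G0 300) (Nat.shiftLeft (Nat.land G0 (ones 300)) 300)))
  (Nat.rec 0 (fun b r => Nat.lor r (Nat.shiftLeft (gth F b) (Nat.mul 25 b))) 24)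

/-- inverse -/
noncomputable def cinv (c : ℕ) : ℕ := seq c ((fun G j => Bool.rec j ((fun q =>
  fin G (tr (mat c)) j (prjL 12 (Nat.shiftRight G 300) (Nat.shiftRight G 300)
    (pauli (Nat.land (Nat.xor q (psg 1 (Nat.land (Nat.shiftRight q 12) q))) 0x1000fff) 1)))
    (tmul 1 G (ux c))) (Nat.beq (tmul RP (tab c) G) ID)) (tinv (tab c)) (junk (gOf c)⁻¹))

/-- load a raw code -/
noncomputable def ld (r : ℕ) : ℕ := seq r (fin r (mat r) 0
  (prjL 12 (Nat.shiftRight (tab r) 300) RP (Nat.shiftLeft 1 (Nat.shiftRight r 8088))))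

/-- the raw code of `g` or of `cc * g` (unverified) -/
noncomputable def toRaw (c : ℕ) : ℕ := (fun u => Nat.lor (tab c) (Nat.shiftLeft (Nat.lor
  (Bool.rec (mmul cNeg (mat c)) (mat c) (Nat.blt u 4096)) (Nat.shiftLeft (Nat.land u 4095) 7488)) 600)) (ux c)

/-- the code of a Pauli element -/
noncomputable def cp (p : ℕ) : ℕ := seq p (asm (Nat.xor ID (csg p ID)) cId p (pauli p 1))

/-- the code of the identity -/
noncomputable def cone : ℕ := cp 0

/-- `g * pq p` -/
noncomputable def cmulP (c p : ℕ) : ℕ := seq c (seq p (fin (Nat.xor (tab c) (csg p ID)) (mat c)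
  (junk (gOf c * pq p)) (pauli (cap c p) (st c))))

/-- `pq p * g` -/
noncomputable def cPmul (p c : ℕ) : ℕ := seq c (seq p (fin (Nat.xor (tab c) (csg p (tab c))) (mat c)
  (junk (pq p * gOf c)) (pauli p (st c))))

/-- all digits one -/
def K1 : ℕ := Nat.div (ones 7488) 8191

/-- `cc * g` -/
noncomputable def cneg (c : ℕ) : ℕ := seq c (asm c (Nat.sub (Nat.mul 16 K1) (mat c))
  (Nat.xor (ux c) 16777216) (Nat.xor (st c) (Nat.shiftLeft (Nat.land (st c) (ones 4096)) 4096)))

/-- equality modulo `cc` -/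
noncomputable def ceq (c d : ℕ) : Bool := Bool.rec (Nat.beq c (cneg d)) true (Nat.beq c d)

/-- the Pauli code of an element of `Q ⟨cc⟩` (unverified) -/
noncomputable def asP (c : ℕ) : ℕ := Nat.land (Nat.lor (gth c 24) (Nat.xor (Nat.land (ux c) 16777216)
  (Bool.rec 0 16777216 (Nat.beq (mat c) cNeg)))) 33554431

/-- membership in `Est` -/
noncomputable def isEst (c : ℕ) : Bool := band (band (Nat.beq (st c) 1) (Nat.beq (Nat.land c 0x1000fff) 1))
  (band (Nat.beq (Nat.land (mat c) (Nat.mul 7 K1)) 0) (Nat.beq (Nat.land (Nat.lor (mat c)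
    (Nat.shiftRight (mat c) 1)) (Nat.mul 8 K1)) (Nat.mul 8 K1)))

/-- the state code of `a e_v` -/
noncomputable def scol (c v : ℕ) : ℕ := pauli (cap c v) (st c)

/-- the size of the support of the state -/
noncomputable def scnt (c : ℕ) : ℕ := Fis.popc 4096 13 (st c)

/-- the sign of `⟨w| a |v⟩`: `0` (zero), `1` (plus), `2` (minus) -/
noncomputable def amp (c w v : ℕ) : ℕ := (fun q => (fun x => (fun y => Nat.mul (Nat.land y 1)
  (Nat.succ (Nat.land (Nat.xor (Nat.shiftRight y 4096) (Nat.shiftRight (Nat.xor q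
    (psg 1 (Nat.land (Nat.shiftRight q 12) x))) 24)) 1))) (Nat.shiftRight (st c) x))
    (Nat.xor w (Nat.land q 4095))) (cap c v)

end Cfsg.Lib.Mon.Kit
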