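import Cfsg.Agent.Mon.LMon
import Cfsg.Agent.Mon.Kit
import Cfsg.Agent.Spor.LXSplit
import Cfsg.Agent.S1558
import Cfsg.Agent.S1559

/-! The normaliser `2^(5+10+20).(S3 × L5(2))` in the Monster. -/

set_option autoImplicit false

namespace Cfsg.Lib.Mon

open Subgroup Function Cfsg.Lib.Spor Cfsg.Lib.Spor.CK Cfsg.Lib.Spor.Orb Loc MulAction
open scoped Pointwise

theorem Am.Enum.comm_pq {X : Type*} [Group X] {A : Am X} (h : A.Enum) {p q : ℕ} :
    A.ι (pq p) * A.ι (pq q) = A.ι (pq q) * A.ι (pq p) ↔ pcomm p q = 0 := by
  rw [← map_mul, ← map_mul, ← pq_comm_iff, eq_comm, map_eq_iff h.ker, pq_mul q, pq_mul p]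
  exact or_iff_left fun e => cc_notMem_QH ((QH.mul_mem_cancel_left (pq_mem_QH _)).1 (e ▸ pq_mem_QH _))

theorem pr_of_ev {γ : FxS [pZ1]} (H : ∀ p, Ev p → φ γ p = p) : pr γ.1 = 1 ∨ pr γ.1 = co0Neg := by
  obtain ⟨c, hc⟩ := pm_spec γ
  obtain ⟨a1, a2⟩ := fix_duads (σ := pm γ) (c := c) (O := Finset.univ) (by decide) fun i _ j _ => by
    rw [← hc, ← φ_pr _ (cls_mod _), H _ (ev_fourDiff i j), cls_mod]
  rw [show pm γ = 1 from Subtype.ext (Equiv.ext fun i => a1 i (Finset.mem_univ _))] at hc
  refine c.1.eq_empty_or_nonempty.imp (fun e => ?_) fun ⟨i, hi⟩ => ?_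
  · rw [hc, ← SporChar.Co.sg_empty, show c = golayEmpty from Subtype.ext e]; rfl
  · rw [hc, ← SporChar.Co.sg_univ, show c = SporChar.Co.guniv from Subtype.ext
      (Finset.eq_univ_of_forall fun j => a2 i (Finset.mem_univ _) j (Finset.mem_univ _) hi)]; rfl

theorem toGL_bij {ι : Type} [Fintype ι] [DecidableEq ι] :
    Bijective (Matrix.SpecialLinearGroup.toGL (n := ι) (R := ZMod 2)) :=
  ⟨Matrix.SpecialLinearGroup.toGL_injective, fun M => ⟨⟨M, (by decide : ∀ x : ZMod 2, x ≠ 0 → x = 1)
    _ M.det_ne_zero⟩, Units.ext rfl⟩⟩

namespace Five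

/-- The codes `z`, `z2` and three sextets refining a trio. -/
def W5 : List ℕ := [16777216, 4096, 6832128, 3227648, 7471104]

/-- The trio. -/
def s5 : ℕ := 1136852874761083032735

/-- An element of `N(E) ∩ C(z)`. -/
def rF : ℕ := 0x989004002001000800400300080080040020010008004002001000800400300100080040020008008004002001000800400300080080040020010008004002001000800400100100080040020018008002002001000c0040020010008004002000800800600200100080040020010008004002001000800400100180080060020010004004002001000800400200100080040020010008004002001000800600200100040040020010008004002000800800600200100080040020010008004002001000800200200100040040020010008004002001800800600200100080040020010008004002001000800400200100080040020010008004001001000c00400200080080040020010008004002001000c004003000800800600200100040040020010008004002001000800400200100080040020010008006002001000c004002001000800400200180080060020010008004002001000800400200100080040020010008004001000800800400200100080040020010008004003001000800400200180080040010008008006002001000c00400200100080040020010008004002001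0008004002001000800400200100080040020010008006002001000800400200100080060020018008004003001000800400200100080040020010008004001001000400400200080080040020010008004002001000400400200100080040020010008002002001000800400200100080060020018008004001001000800400200100080040020010008004001001000c0040020018008004002001000800400200100040040030018008006002001000c004002001000800400200100080040020010008004002001000800400200100080040020010008004002001000800400100100040040020010004002002001000800400200100080040010008008004002001000800400200100080040010010008004002000800800400200100080040020010008004001001000400400200180080040020010008004002001000c0040020010008004002001000800400200100080040030010004004002001000c0020020010008004002001000800400200100080040020010008004001001000c004002001000c0020020010008004002001000800400200100080060020010008004002001000800200200180080040010010008004002001000800400200100080020020010008004002001000800200200180080040030010008004002001000800400200100080040020010008004003001000c00400200100040020020010008234bdb7e8010a61a080dac04098682171a5eda148084620040f940002200101ae2ba05900001a0f954b11329b46ad2c8c43733d07c59a7ca91188644c80d3e44b0c4880634f4a0014a8052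

/-- Elements of `C(E)` interchanging two octads. -/
def rFa : ℕ := 0x400200100100040020010008004002001000800400200100080040020010008004002001000800400200100080080020010008004002001000800400200100080040020010008004002001000800400200100080040020010008004002001000800400200100100040020010008004002001000800400200100080040020010008008002001000800400200100080040020010008004002001000800400200100080040020010008004002001000800400200100080040020020008004002001000800400200100080040020010008004002001000800400200100080040020010010004002001000800400200200080040020010008004002001000800400200100080040020010008004002001000800400200100080040020010008004002001000800400400100080040020010008004002001000800400200100080040020010008004002001000800400200100080040020010008004004001000800800200100080040020010008004002001000800400200100080040020010008004002001000800400200100080040020010008004002001000800400200100080080020010008004002001000800400200100080040020010008004002001000800400200100080040040010008004002001000800400200100080040020010008004002001000800800200100080040020010008004002001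00080040020010008004004001000800400200100080040020010008004002001000800400200100080040020010008004002001000800400200200080040020010008004002001000800400200100080040020010008004002001000800400200100080040020010008004002001000800800200100080040020010008004002001000800400200100080040020020008004002001000800400200100080040020010008004002001001000400200100080040020010008004002001000800400200100080040040010008004002001000800400200100080040020010008004002001000800400200100080040020010008004002001000800400200100080040020010008004002001000800400200100100040020010008004002001000800400200100080040020010008004002001000800400200200080040020010008004002001000800400200100100040020010008004002001000800400200100080040020010008004002001000800400400100080040020010008004002001000800400200100080040020010008004002002000800400200100080040020010008004002001000800400200100087500000dd80009a40003e60001330000d900006c400076600005e0000d18001e24000001000795fdb397f7b918d4803bf57e42ce5b202dfd1bf54189366401a100422dd679efaf6c366001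
def rFb : ℕ := 0x40020010008004002001000800400200100080040020010008004002001000800400400100080040020010008004002001000800400200100080040020010010004002001000800400200100080040020010008004002001000800400200100080040020010008004002001000800400200200080040020010008004002001000800400400100080040020010008004002001000800400200100080040020010008004002001000800400200100080040020020008004002001000800400200100080040020010008004002002000800400200100080040020010008004002001000800400200100080040020010008004002001000800400200100080040040010008004002001000800400200100080040020010008004002001000800400200100080040020010008004004001000800400200100080040020010008004002001000800400200100080040020010008004002001000800400200100100040020010008004002001000800400200100080040020010008004002002000800400200100080040020010008004002001000800400200100100040020010008004002001000800400200100080040020020008004002001000800400200100080040020010008004002001000800400200100080040020010008004002001000800400200100080040020010008008002001000800400200100080040040010008004002001000800400200100080040020010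008004002001000800400200100080040020010008004002001000800800200100080040020010008004002001000800400200100080040020010008004004001000800400200100080040020010008004002001000800400200100080080020010008004002001000800400200100080040020010008004002001000800400200100080040020010008004002001000800400200100080040020010008004002001001000400200100080040020010008004002001000800400200100080040020010008004002001000800800200100080040020010010004002001000800400200100080040020010008004002001000800400200100080040020010008008002001000800400200100080040020010008004002001000800400200100080040020010008004002001000800400200100080080020010008004002001000800400200100080040020010008004002001000800400200200080040020010008004002001000800400200100080040020010008004002001001000400200100080040020010008004002001000800400200100082080000040000db8000d8800000c00000c00018c8000810000088000014000150c0000010007943430a775e982040481428023804532008911104083dc88620a1c03240118000004010001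

/-- Tetrads (points) of the basis in the three octads. -/
def U5 : List (List ℕ) := [[1, 15, 150, 1045], [32, 8536096, 4325472, 8390752], [256, 622848, 2425088, 303360]]

/-- A basis of `E^⊥`, the dual vectors and supports. -/
def T5 : List (ℕ × ℕ × ℕ × ℕ × ℕ) :=
  [(1921024, 11537963, 1, 4, 3), (2609152, 14975613, 1, 4, 5), (3837952, 8685333, 1, 4, 6), (5427200, 560582, 1,
    4, 9), (12111872, 7605400, 1, 4, 17), (14839808, 2361650, 2, 4, 33), (5713920, 9470566, 2, 4, 65),
    (11735040, 14418906, 1, 4, 129), (16117760, 11831220, 1, 4, 257), (7876608, 16256872, 2, 4, 513),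
    (15536128, 7375300, 1, 4, 1025), (4845568, 16253834, 2, 4, 2049), (2, 8192, 1, 2, 5279), (16392, 32768, 2,
    2, 18147), (65600, 262144, 2, 2, 133817), (13631636, 524288, 1, 2, 304405), (6848816, 1048576, 1, 2,
    622863), (4784676, 2097152, 1, 2, 1122713), (15778868, 4194304, 1, 2, 2204803), (2099200, 8388608, 2, 2,
    4196943)]

def c5 : List Cfsg.Lib.Spor.PK.Cert :=
  [⟨1, [192, 128, 513, 577, 1985, 704, 1921, 961, 640, 1473, 1856, 897, 1409, 1025, 385, 832, 1344, 1089, 321,
    1281, 1601, 1216, 257, 448, 1793, 1537, 1728, 1152, 1665, 769], [[0, 0, 1, 0, 0, 1, 0, 1, 0, 1, 1, 1, 0],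
    [0, 0, 1, 0, 0, 1, 1, 1, 0, 1, 0, 1, 0, 0, 1, 0, 0]]⟩,
   ⟨3, [1984, 1473, 384, 1856, 1665, 1216, 1536, 1345, 640, 705, 1024, 1280, 769, 320, 961, 256, 897, 128, 833,
    1408, 513, 576, 449, 1920, 1089, 1792, 1729, 1601, 1152], [[1, 1, 1, 0, 0, 0, 0, 1, 0], [1, 1, 1, 1, 0, 1,
    0, 0]]⟩,
   ⟨4, [1920, 1537, 640, 705, 1408, 1089, 1216, 449, 1152, 385, 1728, 897, 1345, 1473, 1856, 320, 1792, 1665,
    832, 1985, 961, 576, 513, 1601, 1280, 768, 1024], [[0, 1, 1, 1, 1, 0], [1, 0, 1, 1, 1, 0, 0], [0, 0, 1, 1,
    0, 1, 1, 1, 1]]⟩,
   ⟨8, [1024, 1537, 834, 769, 1154, 1856, 1281, 1986, 1344, 1793, 578, 960, 897, 1089, 1666, 1410, 1217, 1474,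
    1600, 1730, 642, 1921, 706], [[1, 2, 0, 1, 2, 1], [0, 2, 1, 1, 0, 1, 2, 0], [0, 1, 1, 2, 0, 2, 1, 0], [0,
    1, 2, 0, 1, 2]]⟩,
   ⟨16, [1536, 1729, 1922, 1091, 1217, 1410, 1603, 1346, 1667, 1987, 1858, 1155, 1475, 1283, 1795], []⟩]

/-- A basis beginning with `E / ⟨z⟩`, with its dual basis. -/
def L5 : List (ℕ × ℕ) := [(1, 4096), (20, 6832128), (16, 3227648), (32, 7471104)]

theorem chk5 : (∀ k < 24, dsm (L5 ++ T5.map fun x => (x.1, x.2.1)) (2 ^ k) = 2 ^ k) ∧
    (∀ x ∈ L5, ∃ a < 2 ^ 5, xorComb W5 a = x.2) ∧ (∀ x ∈ T5, x.2.2.1 < 3 ∧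
      supB (fld s5 x.2.2.1 ^^^ 16777215) x.1 x.2.2.2.1 x.2.2.2.2 = true ∧
      ∀ k < 5, pcomm (xorComb W5 (2 ^ k)) x.1 = 0) ∧ ∀ j < 3, ∀ k < 4,
    supB (fld s5 j) (xorComb W5 (2 ^ (k + 1))) (if k = 0 then 8 else 4) ((U5.getD j []).getD k 0) = true := by
  decide +kernel

theorem exists_oct {σ : M24} (h : σ ∈ stabilizer M24 (fam 3 s5)) (i : Fin 3) :
    ∃ j : Fin 3, σ • maskSet (fld s5 i) = maskSet (fld s5 j) :=
  let ⟨j, hj, e⟩ := mem_fam.1 (h.le (Finset.smul_mem_smul_finset (mem_fam.2 ⟨_, i.2, rfl⟩)))
  ⟨⟨j, hj⟩, e.symm⟩

theorem lift {r t : ℕ} (s : Equiv.Perm (Fin 3)) (H : monoRaw r = true ∧ MP.isM24 t = true ∧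
    r >>> 8088 = 0 ∧ SporChar.Co.isMonoMat t 0 ((r >>> 600) % 2 ^ 7488) = true ∧
    (r % 2 ^ 25 % 4096 = 1 ∧ r % 2 ^ 25 < 2 ^ 24) ∧ (∀ i : Fin 3, MP.apM t (fld s5 i) = fld s5 (s i)) ∧
    ∀ k < 5, rawAp r (xorComb W5 (2 ^ k) % 2 ^ 24) ^^^ xorComb W5 (2 ^ k) / 2 ^ 24 * 2 ^ 24 =
      xorComb W5 (2 ^ k)) : ∃ g : FxS [pZ1], (∀ k < 5, φ g (xorComb W5 (2 ^ k)) = xorComb W5 (2 ^ k)) ∧
    ∀ i : Fin 3, pm g • maskSet (fld s5 i) = maskSet (fld s5 (s i)) := by
  obtain ⟨h1, h2, h3, h4, h5, h6, h7⟩ := H
  obtain ⟨a, b⟩ := est_of_raw h1 h2 h3 h4 h5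
  refine ⟨⟨_, NP_fst (NP_Est a)⟩, fun k hk => ((monoRaw_spec h1).1.φ_eq'
    (by revert k; decide)).trans (h7 k hk), fun i => ?_⟩
  rw [pm_eq (g := ⟨_, NP_fst (NP_Est a)⟩) (c := golayEmpty) b, ← h6]
  exact (MP.rep_of_isM24 h2).smul_maskSet _

variable {X : Type*} [Group X] {A : Am X}

theorem mem5 {p : ℕ} (H : ∀ x ∈ T5, pcomm p x.1 = 0) : A.ι (pq p) ∈ spn (A.fr W5) 5 :=
  mem_of_dual (K := (spn (A.fr W5) 5).comap A.ι) (mem_spn (a := 1) (by decide)) chk5.1 fun x hx =>
    (List.mem_append.1 hx).elim (fun hx => let ⟨_, ha, e⟩ := chk5.2.1 x hx; .inr (e ▸ mem_spn ha))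
      fun hx => let ⟨y, hy, e⟩ := List.mem_map.1 hx; .inl (e ▸ H y hy)

end Five

open Five

theorem Am.Enum.s5531 {X : Type*} [Group X] {A : Am X} (h : A.Enum) :
    ∃ (E N : Subgroup X) (O : Subgroup N), IsElementaryAbelian 2 E ∧
    Nat.card E = 2 ^ 5 ∧ N = normalizer (E : Set X) ∧ O = pCore 2 N ∧ Nat.card O = 2 ^ 35 ∧
    (center O).map O.subtype = E.subgroupOf N ∧ ∃ _ : O.Normal,
      Nonempty (N ⧸ O ≃* Equiv.Perm (Fin 3) × Matrix.SpecialLinearGroup (Fin 5) (ZMod 2)) := by
  have := h.finite
  have f : Fr (A.fr W5) 5 := h.fr_diag (by decide) (by decide +kernel)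
  obtain ⟨g, hg⟩ := f.exists_isAct (Equiv.refl _)
  have l : ∀ a < 2 ^ 5, xorComb W5 a < 2 ^ 25 := by decide +kernel
  obtain ⟨_, -, _, -, _, -, _, -, -, -, -, -, -, co⟩ :=
    Agent.S1559.result _ (mem_trios_of (s := s5) (by decide +kernel))
  obtain ⟨c1, c2⟩ := h.cnt_N co
    (P := normalizer (spn (A.fr W5) 5 : Set X)) (g := ⟨_, NP_fst (NP_Est S1_mem.1)⟩)
    (fun g hg => f.mem_norm fun k hk => (A.ι_conj g _).symm ▸ by
      rcases k with _ | k
      · exact (φ_pZ g.1).symm ▸ mem_spn (a := 1) (by decide)
      refine mem5 fun x hx => ?_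
      obtain ⟨h1, h2, -⟩ := chk5.2.2.1 x hx
      obtain ⟨i, e⟩ := exists_oct (inv_mem hg) ⟨_, h1⟩
      exact Sup.perp (inv_smul_eq_iff.1 e ▸ (sup_of (chk5.2.2.2 i i.2 k (by omega))).φ g)
        (maskSet_compl _ ▸ sup_of h2))
    fun H => by
      obtain ⟨a, ha, e⟩ := f.mem_iff.1 ((H _).1 (mem_spn (a := 4) (by decide)))
      exact absurd ((raw_S1.φ_eq (by decide)).symm.trans (φ_of_conj h.ker (l a ha) e.symm))
        (by clear e; revert a; decide +kernel)
  have cG : Nat.card (GL (Fin 5) (ZMod 2)) = PK.certOrder c5 := by
    rw [Matrix.card_GL_field]; decide +kernel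
  obtain ⟨c3, c4⟩ := hg.cnt f (cs := [[2, 3, 4, 8, 16], [1, 12, 17, 3, 23]]) (w := 9) (r := c5.drop 2)
    (List.forall_mem_cons.2 ⟨⟨A.τ⁻¹, fun k hk => ⟨by revert k; decide, (A.τ_diag (by revert k; decide)
      (by revert k; decide)).trans (congrArg (A.ι <| pq ·) (by revert k; decide))⟩⟩,
      List.forall_mem_singleton.2 ⟨A.ι (el rF), fun k hk => ⟨by revert k; decide, (A.ι_conj _ _).trans
        (congrArg (A.ι <| pq ·) (((Kit.ld_spec (by decide +kernel)).1.φ_eq' (by revert k; decide)).trans
          (by revert k; decide +kernel)))⟩⟩⟩) (by decide +kernel) (by decide +kernel)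
    ((card_le_card_group _).trans cG.le)
  obtain ⟨e⟩ := Nonempty.intro (MulEquiv.ofBijective _ (toGL_bij (ι := Fin 5)))
  have hi : Injective fun i : Fin 3 => maskSet (fld s5 i) := fun i j e => by
    have := maskSet_injOn (fld_lt _ _) (fld_lt _ _) e
    revert i j; decide +kernel
  have cN : centralizer (spn (A.fr W5) 5 : Set X) ≤ A.kN.range := h.range_kN ▸ fun x hx =>
    ⟨mem_centralizer_singleton_iff.2 (hx _ (mem_spn (a := 1) (by decide))).symm,
      mem_centralizer_singleton_iff.2 (hx _ (mem_spn (a := 3) (by decide))).symm⟩
  obtain ⟨π, hπ⟩ := exists_permHom (fun (γ : (centralizer (spn (A.fr W5) 5 : Set X)).comap A.kN) O =>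
    pm γ.1 • O) (by simp) (by simp [mul_smul]) _ hi fun γ =>
      exists_oct (c1 _ (centralizer_le_normalizer _ γ.2))
  have k1 : ∀ γ, pm γ.1 = 1 → π γ = 1 := fun γ e => Equiv.ext fun i => hi
    ((hπ γ i).symm.trans (by rw [e, one_smul]; rfl))
  have k2 : ∀ {r t s}, _ → ∃ γ, π γ = s := fun {r t s} H =>
    let ⟨γ, a, b⟩ := lift (r := r) (t := t) s H
    ⟨⟨γ, f.mem_cent fun k hk => (mul_inv_eq_iff_eq_mul.1 ((A.ι_conj γ _).trans
      (congrArg (A.ι <| pq ·) (a k hk)))).symm⟩, Equiv.ext fun i => hi ((hπ _ i).symm.trans (b i))⟩
  have k3 : ∀ p, (∀ k < 5, pcomm (xorComb W5 (2 ^ k)) p = 0) → ∃ γ ∈ π.ker, γ.1.1 = pq p := fun p H =>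
    ⟨⟨⟨pq p, pq_mem_FxS.2 ((pcomm_comm ..).trans ((pcomm_congr (p' := xorComb W5 (2 ^ 1)) (by decide) rfl).trans
      (H 1 (by decide))))⟩,
      f.mem_cent fun k hk => h.comm_pq.2 (H k hk)⟩, k1 _ (pm_of_pr (.inl (pr_pq _))), rfl⟩
  obtain ⟨a, ha⟩ := k2 (r := rFa) (t := 170667072664996130741237599261410478) (s := Equiv.swap 0 1)
    (by decide +kernel)
  obtain ⟨b, hb⟩ := k2 (r := rFb) (t := 651274766275026772613875477410623815) (s := Equiv.swap 1 2)
    (by decide +kernel)
  have := Local.isSimpleGroup_SL_two (ι := Fin 5) (by simp)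
  have cS := (Nat.card_congr e.toEquiv).trans cG
  have c5' : Nat.card (centralizer (spn (A.fr W5) 5 : Set X)) =
      2 ^ 35 * Nat.card (Equiv.Perm (Fin 3)) := by
    rw [Agent.S1558.card_stab_trio (mem_trios_of (by decide +kernel))] at c2
    have := c4.trans c2
    rw [show PK.certOrder (c5.drop 2) = 10752 by decide +kernel] at this
    rw [Nat.card_perm, Nat.card_fin, show Nat.factorial 3 = 6 from rfl]
    omega
  have c6 := e.symm.surjective.comp
    (MonoidHom.range_eq_top.1 (eq_top_of_card_eq _ (c3.trans cG.symm)))
  have c7 := (MonoidHom.ker_comp_of_injective g e.symm.toMonoidHom e.symm.injective).trans (hg.ker f)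
  have c8 : (A.kN.comp ((centralizer (spn (A.fr W5) 5 : Set X)).comap A.kN).subtype).range =
      centralizer (spn (A.fr W5) 5 : Set X) := by
    rw [MonoidHom.range_comp, range_subtype, map_comap_eq_self cN]
  have c9 : pCore 2 (Matrix.SpecialLinearGroup (Fin 5) (ZMod 2)) = ⊥ :=
    pCore_simple (by rw [cS]; decide +kernel) (by rw [cS]; decide +kernel)
  have c10 := shape_loc (e.symm.toMonoidHom.comp g) c6 c7 _ c8 π (surj_S3 π ha hb)
    (fun γ e => k1 γ (h.pm_kN e)) c5'
  have c11 := c10 (f.spn_le fun k hk => by
      obtain ⟨γ, a, b⟩ := k3 (xorComb W5 (2 ^ k)) (by revert k; decide +kernel)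
      refine ⟨γ, a, ?_⟩
      exact congrArg A.ι b)
  have c12 := fun H => c11 H pCore_S3 c9 center_S3 inner_S3
  refine (c12 fun γ _ H => ?_).elim fun O o => ⟨_, _, O, f.elem, f.card, rfl, o⟩
  have k4 : ∀ p, (∀ k < 5, pcomm (xorComb W5 (2 ^ k)) p = 0) →
      A.ι (pq p) * A.ι γ.1 = A.ι γ.1 * A.ι (pq p) := fun p hp => by
    obtain ⟨γ', a, b⟩ := k3 p hp
    rw [← b]
    exact H γ' a
  obtain ⟨p, -, e⟩ := h.exists_pq (pr_of_ev (γ := γ.1) fun p hp => φ_of_conj h.ker hp.lt
    (mul_inv_eq_iff_eq_mul.2 (k4 _ fun k hk => by
      rw [pcomm_def, par_and_right _ (by have := hp.2; omega), par_and_right _ (by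
        revert k; decide)]; rfl).symm))
  change A.ι γ.1 ∈ _
  rw [e] at k4 ⊢
  exact mem5 fun x hx => h.comm_pq.1 (k4 _ (chk5.2.2.1 x hx).2.2).symm

end Cfsg.Lib.Mon
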