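import Cfsg.Agent.Mon.LFive
import Cfsg.Agent.Mon.LSpin
import Cfsg.Agent.Mon.Theta
import Cfsg.Agent.Mon.UQTop
import Cfsg.Agent.S0287
import Cfsg.Agent.S0293
import Cfsg.Agent.S0296
import Cfsg.Agent.S1565

/-! The normaliser `2^(10+16).O10+(2)` in the Monster. -/

set_option autoImplicit false

namespace Cfsg.Lib.Mon

open Subgroup Function Cfsg.Lib.Spor Cfsg.Lib.Spor.CK Cfsg.Lib.Spor.Orb Loc MulAction Kit
open scoped Pointwise

namespace Ten

/-- A hyperbolic basis of `E`; bit 25 stands for `y_b`. -/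
def WT : List ℕ := [16777216, 4096, 458752, 1474560, 6832128, 50335746, 4098, 835584, 2883584, 14123008]

/-- The matrices of `τ⁻¹` and of `rT`. -/
def cs : List (List ℕ) := [[2, 3, 4, 8, 16, 96, 32, 128, 256, 512], [1, 351, 401, 399, 223, 637, 662, 861, 258, 772]]

/-- An element of `N(E) ∩ C(z)`. -/
def rT : ℕ := 0x5d0040020010008004001800c0080030028010006004001800c006005002800c006005001800c006004002001000800400280140080030028010006004002800c00a005001800c00a00300180140060040020010008004001800c008003002801000a004002800c00a003001800c006005002801400a0040020010008004002800c008003002801000600400280140060050018014006003002800c00a0040020010008004002800c0080030018010006004002800c006003002801400a005001801400a0040020010008004002800c008005002801000a0040028014006005002800c00a0050028014006004002001000800400280140080030018010006004002801400a003002800c006005002800c0060040020010008004001800c008003001801000a004002801400a005002800c00a003001800c00a00400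200100080040028014008003002801000a004001800c006003002800c00a003002800c00a0040020010008004002800c0080050028010006004001801400a003001800c00a005001800c00a0040020010008004001800c0080050028010006004002800c00a003002801400a003002800c006005001800c00e003002001000a004002001400800500200100080040020010008004002001000800400200100080040028014008005002801000a004002800c00a0050028014006005001800c00a003002801400a0050020010006004002000c0080070020010008004002001000800400200100080040020010008004002800c0080050018010006004001800c00a005002800c006003002801400a004002001000800400180140080030028010006004001801400a005002801400a005002801400a001001800c006003002001000a00400200140080050020010008004002001000800400200100080040020010008004002800c008003001801000a004001800c00a005001801400a005002800c006004002001000800400180140080050018010006004002800c006005001800c00a005002800c00a003002801400a005002001000e004002000c008003002001000800400200100080040020010008005001800c006003002001000a0040020004008005002001000800400200100080040020010008005001800c006007002001000a0040020014008005002001000800400200100080040020010008005003800c006003002001000a0040020014008005002001000800400200100080040020010008005001801c006003002001000a0040020014008005002001000800400200100080040020010008f5ed5c40a07b0d53a1dee8e84350a1e4b264ca8124cd248b54d9eae81dc23720b0e7355c0028808cee5065d54fe15067b89f2134dd78def1b2e8380c97cfeb83903b5a7dfbc3a004cbf847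

/-- Dual vectors, a basis of `V8`, supports in the octad. -/
def S8 : List (ℕ × ℕ × ℕ × ℕ) :=
  [(8193, 4096, 8, 4096), (204, 458752, 4, 4230), (48, 1474560, 4, 5132), (224, 6832128, 4, 5264), (8192, 4098,
    0x2000000800000000100000000020010008003ffa, 1), (228, 835584, 4, 4118), (132, 2883584, 4, 5130), (220,
    14123008, 4, 4248)]

/-- A basis of `V16`, dual vectors, preimages under `1 + u`, supports outside the octad. -/
def V16 : List (ℕ × ℕ × ℕ × ℕ × ℕ) :=
  [(4096, 9681, 65536, 8, 32), (458752, 9440840, 131072, 4, 540960), (1474560, 4195944, 163840, 4, 272448),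
    (6832128, 10489324, 3716, 4, 622848), (4098, 9445376, 35668, 2, 16771936), (835584, 4194532, 229868, 4,
    417792), (2883584, 4197888, 199948, 4, 98880), (14123008, 13634148, 114688, 4, 458816), (7114752,
    13635204, 4, 4, 8224), (1114724, 14680064, 32, 2, 1256224), (14598144, 2100492, 132, 4, 1319424),
    (10977280, 15732584, 228, 4, 395296), (69632, 13634388, 8192, 4, 8421376), (7949140, 1048576, 8193, 2,
    5939296), (3851864, 4194304, 10501, 2, 3328320), (6544058, 9437184, 10769, 2, 11150144)]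

/-- Base points, numbers of sweeps and generators of the next level. -/
def c10 : List (ℕ × ℕ × List (List ℕ)) :=
  [(1, 8, [[0, 1, 1, 1, 0, 1, 1, 0, 1, 0, 1, 1, 0, 0, 1, 0, 1, 1, 0, 1, 1, 0, 1, 0], [0, 0, 1, 1, 1, 0, 1, 1, 1,
    1, 0, 1, 0, 0, 1, 0, 1, 0, 1, 0]]),
   (3, 5, [[0, 1, 0, 1, 0, 0, 1, 1, 1, 0, 1, 1, 1, 0, 0], [1, 0, 0, 0, 0, 0, 0, 1, 0, 1, 1, 0, 0, 1, 0, 0]]),
   (32, 5, [[0, 0, 0, 0, 1, 1, 0, 1, 1, 0, 1, 1, 0, 1], [0, 0, 1, 0, 0, 0, 0, 0, 1, 1, 1, 1, 0, 1]]),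
   (4, 4, [[0, 1, 0, 1, 1, 0, 1, 0, 1], [1, 0, 0, 0, 1]]),
   (8, 3, [[1, 0, 0, 1, 1, 0, 1], [0, 0, 1, 0, 0, 1, 0, 1, 0, 0, 1, 0], [0, 1, 0, 0, 0, 1, 1, 0, 0], [0, 0, 0, 1,
    0, 0, 0, 0, 1, 0], [0, 0, 0, 0, 1, 0, 0, 0, 1, 1, 1, 0, 0], [0, 1, 1, 0, 0, 0, 0, 0]]),
   (16, 1, [[0, 0], [0, 1, 0, 1], [0, 1, 3, 0], [4], [5, 0], [0, 2, 5, 2]]),
   (64, 1, [[1], [0, 4], [2]]),
   (128, 1, [[2, 1, 0]]),
   (256, 1, [])]

/-- The element with extended code `c`. -/
noncomputable def gy (c : ℕ) : GH := (if c.testBit 25 then el rYb else 1) * pq c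

/-- The kernel code of the basis combination `a`. -/
noncomputable def cy (a : ℕ) : ℕ := PK.force (xorComb WT a) fun c =>
  if c.testBit 25 then cmulP (ld rYb) c else cp c

theorem R_cy (a : ℕ) : R (cy a) (gy (xorComb WT a)) := by
  rw [cy, PK.force_eq, gy]
  split_ifs
  exacts [(ld_spec ldOK_Yb).2.mulP' _, (one_mul (pq _)).symm ▸ R_cp' _]

/-- The quadratic form. -/
def qf (a : ℕ) : ℕ := par (a &&& 31 &&& a >>> 5)

/-- The dual bases. -/
def LT : List (ℕ × ℕ) := (S8.map fun x => (x.1, x.2.1)) ++ V16.map fun x => (x.1, x.2.1)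

theorem chk1 : (∀ k < 24, dsm LT (2 ^ k) = 2 ^ k) ∧ (∀ k < 24, dsm (LT.map Prod.swap) (2 ^ k) = 2 ^ k) ∧
    (∀ x ∈ S8, supB 5279 x.2.1 x.2.2.1 x.2.2.2 = true ∧ x.2.1 < 2 ^ 24 ∧
      ∃ k < 10, xorComb WT (2 ^ k) = x.2.1) ∧
    (∀ x ∈ V16, supB (5279 ^^^ 16777215) x.1 x.2.2.2.1 x.2.2.2.2 = true ∧ x.1 < 2 ^ 24 ∧
      rawAp rYb x.1 = x.1 ∧ ∀ k < 10, pcomm (xorComb WT (2 ^ k)) x.1 = 0) ∧
    ∀ k < 10, k = 0 ∨ k = 5 ∨ ∃ x ∈ S8, xorComb WT (2 ^ k) = x.2.1 := by decide +kernel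

theorem chk2 : (ldOK rT && PK.force (ld rT) fun G => PK.force (cinv G) fun H => (allLT 10 fun k =>
    ceq (cy ((cs.getD 1 []).getD k 0)) (cmul (cmul G (cy (2 ^ k))) H) &&
      thEq (cy (2 ^ k)) (cy ((cs.getD 0 []).getD k 0))) &&
    thK (cp 2590940) fun c => thK (cmul (cmul G c) H) fun u => V16.all fun x =>
      Nat.beq ((x.2.2.1 ^^^ cap u x.2.2.1) % 2 ^ 24) x.1) = true := by decide +kernel

theorem chk3 : (PK.force (reach2 (2 ^ 10) cs (2 ^ 1) 8) fun S => PK.force (reach2 (2 ^ 10) cs (2 ^ 140) 7) fun T =>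
    allLT 1024 fun a => Nat.beq a 0 || (Nat.beq (qf a) 0 && S.testBit a) ||
      (Nat.beq (qf a) 1 && T.testBit a)) = true := by decide +kernel

theorem chk4 : ∀ a < 2 ^ 10, quadFormPlus 5 (ZMod 2) (vc finSumFinEquiv a) = qf a ∧
    (a = 0 ∨ (xorComb WT a).testBit 25 ∨ xorComb WT a < 2 ^ 25 ∧ xorComb WT a ≠ 0) := by
  decide +kernel

theorem chk5 : lowM 10 c10 cs = 23499295948800 := by decide +kernel

theorem chk6 : ((Finset.range 1024).filter fun a => a ≠ 0 ∧ qf a = 0).card = 527 ∧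
    ((Finset.range 1024).filter fun a => a ≠ 0 ∧ a ≠ 1 ∧ qf a = 0 ∧ qf (a ^^^ 1) = 0).card = 270 := by
  decide +kernel

theorem pmul_eq {c d : ℕ} (hc : c &&& 0x2ffd = 0) (hd : d &&& 0x2ffd = 0) : pmul c d = c ^^^ d := by
  rw [pmul, par_congr (b := 0), par_zero, Nat.zero_shiftLeft, Nat.xor_zero]
  refine Nat.eq_of_testBit_eq fun i => ?_
  have a := congrArg (·.testBit (12 + i)) hc
  have b := congrArg (·.testBit i) hd
  rw [show 4096 = 2 ^ 12 from rfl, Nat.testBit_mod_two_pow, Nat.testBit_and, Nat.testBit_shiftRight]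
  simp only [Nat.testBit_and] at a b
  by_cases h : i < 12
  · revert a b
    generalize c.testBit (12 + i) = x, d.testBit i = y
    interval_cases i <;> revert x y <;> decide
  · simp [h]

variable {X : Type*} [Group X] (A : Am X)

/-- The frame of `E = 2^10`. -/
noncomputable def FT (a : ℕ) : X := A.ι (gy (xorComb WT a))

variable {A}

theorem FT_eq {a : ℕ} (h : (xorComb WT a).testBit 25 = false) : FT A a = A.ι (pq (xorComb WT a)) := by
  rw [FT, gy, h, if_neg Bool.false_ne_true, one_mul]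

theorem mem_of_lt {k p : ℕ} (hk : k < 10) (hp : p < 2 ^ 24) (e : xorComb WT (2 ^ k) = p) :
    A.ι (pq p) ∈ spn (FT A) 10 := by
  rw [← e, ← FT_eq (e ▸ Nat.testBit_lt_two_pow (hp.trans (by decide)))]
  exact mem_spn (Nat.pow_lt_pow_right one_lt_two hk)

theorem FT_one : FT A 1 = A.ι (pq pZ) := FT_eq (by decide)

theorem memZ : A.ι (pq pZ) ∈ spn (FT A) 10 := FT_one (A := A) ▸ mem_spn (by decide)

theorem memE {p : ℕ} (H : ∀ x ∈ V16, pcomm p x.1 = 0) : A.ι (pq p) ∈ spn (FT A) 10 :=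
  mem_of_dual (K := (spn (FT A) 10).comap A.ι) memZ chk1.1 fun x hx =>
    (List.mem_append.1 hx).elim (fun hx => by
      obtain ⟨y, hy, rfl⟩ := List.mem_map.1 hx
      obtain ⟨-, h1, k, hk, e⟩ := chk1.2.2.1 y hy
      exact .inr (mem_of_lt hk h1 e)) fun hx => let ⟨y, hy, e⟩ := List.mem_map.1 hx; .inl (e ▸ H y hy)

variable (h : A.Enum)
include h

theorem notQ {a : ℕ} (H : (xorComb WT a).testBit 25 = true) : FT A a ∉ QH.map A.ι := fun k => by
  rw [FT, gy, if_pos H, map_mul, mul_mem_cancel_right (mem_map_of_mem _ (pq_mem_QH _))] at k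
  obtain ⟨g, hg, e⟩ := k
  obtain ⟨p, -, rfl⟩ := mem_QH.1 hg
  have := φ_of_conj h.ker (φ_lt _ 4) (e ▸ A.ι_conj (pq p) 4)
  rw [raw_Yb.φ_eq (by decide), φ_pq _ (by decide)] at this
  rcases shl_cases p 4 with e | e <;> rw [e] at this <;> revert this <;> decide +kernel

theorem fr : Fr (FT A) 10 := by
  refine ⟨fun a b => ?_, fun a ha e => ?_⟩
  · have k := xorComb_ind (P := fun c => c &&& 0x2ffd = 0 ∧ pq c ∈ centralizer {el rYb}) (W := WT)
      ⟨rfl, pq_zero ▸ one_mem _⟩ (fun a b ha hb => ⟨by rw [Nat.and_xor_distrib_right, ha.1, hb.1]; rfl,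
        pmul_eq ha.1 hb.1 ▸ pq_mul a b ▸ mul_mem ha.2 hb.2⟩) fun w hw => ⟨by revert w; decide,
      pq_mod w ▸ mem_centralizer_singleton_iff.2 (mem_FxS_iff_comm.1 ((mem_FxS_one (Nat.mod_lt _
        (by decide))).2 ((raw_Yb.φ_eq' (Nat.mod_lt _ (by decide))).trans
          (by revert w; decide +kernel)))).symm⟩
    have y : A.ι (el rYb) * A.ι (el rYb) = 1 := by
      rw [← conj_eq_one_iff (a := A.τ⁻¹), ← conj_mul, inv_inv, A.hN _ NP_yb, ← map_mul, pq_mul]
      exact (congrArg _ pq_zero).trans (map_one _)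
    have e := congrArg A.ι (mem_centralizer_singleton_iff.1 (k a).2)
    simp only [FT, gy, xorComb_xor, Nat.testBit_xor, map_mul] at e ⊢
    rw [← pmul_eq (k a).1 (k b).1, ← pq_mul, map_mul]
    cases (xorComb WT a).testBit 25 <;> cases (xorComb WT b).testBit 25 <;> simp [mul_assoc]
    · rw [← mul_assoc, ← e, mul_assoc]
    · rw [← mul_assoc, ← mul_assoc, mul_assoc _ _ (A.ι (el rYb)), e, ← mul_assoc, y, one_mul]
  · rcases (chk4 a ha).2 with k | k | k
    · exact k
    · exact absurd (e ▸ one_mem _) (notQ h k)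
    · exact absurd ((FT_eq (Nat.testBit_lt_two_pow k.1)).symm.trans e) (h.ι_ne_one k.1 k.2)

theorem cenV {x : ℕ × ℕ × ℕ × ℕ × ℕ} (hx : x ∈ V16) :
    A.ι (pq x.1) ∈ centralizer (spn (FT A) 10 : Set X) := (fr h).mem_cent fun k hk => by
  obtain ⟨-, h1, h2, h3⟩ := chk1.2.2.2.1 x hx
  have := congrArg A.ι (mem_FxS_iff_comm.1 ((mem_FxS_one (h1.trans (by decide))).2
    ((raw_Yb.φ_eq h1).trans h2)))
  rw [map_mul, map_mul] at this
  rw [FT, gy, map_mul, mul_assoc, h.comm_pq.2 (h3 k hk), ← mul_assoc, ← mul_assoc]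
  split_ifs
  exacts [by rw [this], by simp]

theorem memC {p : ℕ} (H : ∀ x ∈ S8, pcomm p x.2.1 = 0) :
    A.ι (pq p) ∈ centralizer (spn (FT A) 10 : Set X) :=
  mem_of_dual (K := (centralizer (spn (FT A) 10 : Set X)).comap A.ι)
    ((fr h).mem_cent fun _ _ => by rw [FT, ← map_mul, ← map_mul, pZ_comm]) chk1.2.1 fun x hx => by
      obtain ⟨x, hx', rfl⟩ := List.mem_map.1 hx
      rcases List.mem_append.1 hx' with hx | hx <;> obtain ⟨y, hy, rfl⟩ := List.mem_map.1 hx
      exacts [.inl (H y hy), .inr (cenV h hy)]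

theorem norm (g : FxS [pZ1]) (hg : pm g ∈ stabilizer M24 (maskSet 5279)) :
    A.kN g ∈ normalizer (spn (FT A) 10 : Set X) := by
  have := h.finite
  have k0 : ∀ x ∈ S8, ∀ y ∈ V16, pcomm (φ g x.2.1) y.1 = 0 := fun x hx y hy => Sup.perp
    (hg ▸ (sup_of (chk1.2.2.1 x hx).1).φ g) (maskSet_compl _ ▸ sup_of (chk1.2.2.2.1 y hy).1)
  refine (fr h).mem_norm fun k hk => ?_
  change A.ι g * _ * (A.ι g)⁻¹ ∈ _
  rcases chk1.2.2.2.2 k hk with rfl | rfl | ⟨x, hx, e⟩
  · rw [pow_zero, FT_one, A.ι_conj, φ_pZ]; exact memZ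
  · have m := mem_spn (F := FT A) (d := 10) (a := 2 ^ 5) (by decide)
    obtain ⟨c, hc⟩ := pm_spec g
    obtain ⟨p, -, e⟩ := mem_QH.1 (show pr ((gy (xorComb WT (2 ^ 5)))⁻¹ *
        (g * gy (xorComb WT (2 ^ 5)) * g.1⁻¹)) = 1 by
      rw [gy, if_pos (by decide), map_mul, map_mul, map_mul, map_mul, map_inv, map_inv, map_mul, pr_pq,
        mul_one, hc, pr_apply, Yb_snd, SporChar.Co.mono_conj_sg, inv_mul_eq_one]
      refine congrArg _ (Subtype.ext ?_)
      change _ = pm g • (SporChar.Co.gw 5279).1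
      rw [SporChar.Co.gw_coe (by decide +kernel), hg])
    have e := congrArg A.ι e
    rw [map_mul, map_mul, map_mul, map_inv, map_inv] at e
    rw [← mul_mem_cancel_left (inv_mem m), FT, e]
    refine memE fun x hx => h.comm_pq.1 ?_
    have k := memC h (p := φ g.1⁻¹ x.1) (fun y hy => by
      rw [pcomm_comm, ← k0 y hy x hx, ← pcomm_φ g.1⁻¹ (φ _ _),
        φ_inv_φ _ ((chk1.2.2.1 y hy).2.1.trans (by decide))]) _ m
    have k' := cenV h hx _ m
    rw [← A.ι_conj, map_inv, FT] at k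
    rw [FT] at k'
    rw [← e]
    generalize A.ι (gy _) = y, A.ι g = n, A.ι (pq _) = v at k k' ⊢
    rw [show y⁻¹ * (n * y * n⁻¹) * v = y⁻¹ * n * (y * (n⁻¹ * v * n⁻¹⁻¹)) * n⁻¹ by group, k,
      show y⁻¹ * n * (n⁻¹ * v * n⁻¹⁻¹ * y) * n⁻¹ = y⁻¹ * (v * y) * y⁻¹ * (n * y * n⁻¹) by group, ← k']
    group
  · rw [FT_eq (e ▸ Nat.testBit_lt_two_pow ((chk1.2.2.1 x hx).2.1.trans (by decide))), A.ι_conj, e]
    exact memE (k0 x hx)

theorem acts : Act (FT A) 10 A.τ⁻¹ (cs.getD 0 []) ∧ Act (FT A) 10 (A.ι (el rT)) (cs.getD 1 []) ∧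
    ∃ u, A.τ⁻¹ * A.ι (el rT) * A.τ⁻¹ * A.ι (pq 2590940) * (A.τ⁻¹ * A.ι (el rT) * A.τ⁻¹)⁻¹ = A.ι u ∧
      ∀ x ∈ V16, (x.2.2.1 ^^^ φ u x.2.2.1) % 2 ^ 24 = x.1 := by
  have := chk2
  simp only [PK.force_eq, Bool.and_eq_true, allLT_iff] at this
  obtain ⟨h1, h2, h3⟩ := this
  have r := (ld_spec h1).2
  obtain ⟨c, m, a1, a2, a3⟩ := (R_cp' _).thK h3
  obtain ⟨d, u, b1, b2, b3⟩ := ((r.mul a1).mul r.inv).thK a3
  refine ⟨fun k hk => ⟨by revert k; decide, ?_⟩, fun k hk => ⟨by revert k; decide, ?_⟩, u, ?_,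
    fun x hx => b1.cap_eq' _ ▸ Nat.eq_of_beq_eq_true (List.all_eq_true.1 b3 x hx)⟩
  · rw [inv_inv]
    exact A.hN _ ((R_cy _).thPair (R_cy _) (h2 k hk).2)
  · rw [FT, FT, ← map_inv, ← map_mul, ← map_mul]
    rcases (R_cy _).ceq ((r.mul (R_cy _)).mul r.inv) (h2 k hk).1 with e | e <;> rw [e]
    rw [map_mul A.ι cc, h.ι_cc, one_mul]
  · rw [← A.hN _ b2, map_mul, map_mul, map_inv, ← A.hN _ a2]
    group

theorem hH : ∀ c ∈ cs, ∃ n ∈ normalizer (spn (FT A) 10 : Set X), Act (FT A) 10 n c :=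
  have := h.finite
  List.forall_mem_cons.2 ⟨⟨_, (fr h).act_mem (acts h).1, (acts h).1⟩,
    List.forall_mem_singleton.2 ⟨_, (fr h).act_mem (acts h).2.1, (acts h).2.1⟩⟩

theorem cls {a : ℕ} (ha : a < 2 ^ 10) : (a = 0 ∨ qf a = 0 ∧
    ∃ n ∈ normalizer (spn (FT A) 10 : Set X), n * FT A 1 * n⁻¹ = FT A a) ∨
    qf a = 1 ∧ IsConj (A.ι (pq pT)) (FT A a) := by
  have := chk3
  simp only [PK.force_eq, allLT_iff, Bool.or_eq_true, Bool.and_eq_true, Nat.beq_eq] at this
  exact (this a ha).imp (.imp id (.imp id ((fr h).of_reach2 (hH h)))) (.imp id fun e =>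
    let ⟨n, _, e⟩ := (fr h).of_reach2 (hH h) e
    isConj_iff.2 ⟨n, (FT_eq (A := A) (a := 140) (by decide)).symm ▸ e⟩)

theorem iso {n : X} {a b : ℕ} (ha : a < 2 ^ 10) (hb : b < 2 ^ 10) (e : n * FT A a * n⁻¹ = FT A b) :
    qf b = qf a := by
  have k : ∀ a < 2 ^ 10, qf a = 1 ↔ IsConj (A.ι (pq pT)) (FT A a) := fun a ha => by
    rcases cls h ha with (rfl | ⟨e, n, -, k⟩) | k
    · rw [(fr h).zero, isConj_one_left]
      exact iff_of_false (by decide) (h.ι_ne_one (by decide) (by decide))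
    · exact iff_of_false (by omega) fun c => h.not_isConj
        ((isConj_iff.2 ⟨n, FT_one (A := A) ▸ k⟩).trans c.symm)
    · exact iff_of_true k.1 k.2
  have c := isConj_iff.2 ⟨n, e⟩
  have : qf a = 1 ↔ qf b = 1 := by
    rw [k a ha, k b hb]; exact ⟨(·.trans c), (·.trans c.symm)⟩
  have : qf a < 2 := par_lt _
  have : qf b < 2 := par_lt _
  omega

theorem card_perp (L : List ℕ) (hL : ∀ s ∈ L, s < 2 ^ 25) : ∃ H ≤ QH.map A.ι,
    2 ^ 25 ≤ 2 ^ L.length * Nat.card H ∧ ∀ x ∈ H, ∀ s ∈ L, x * A.ι (pq s) = A.ι (pq s) * x := by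
  induction L with
  | nil => exact ⟨_, le_rfl, by rw [card_map_QH h.ker]; rfl, by simp⟩
  | cons s L ih =>
    obtain ⟨H, h1, h2, h3⟩ := ih fun t ht => hL t (.tail _ ht)
    have := card_le_conj H (A.ι (pq s)) {0, 2 ^ 24} (fun a => A.ι (pq (s ^^^ a))) fun n hn => by
      obtain ⟨g, hg, rfl⟩ := h1 hn
      obtain ⟨p, -, rfl⟩ := mem_QH.1 hg
      refine ⟨pcomm p s <<< 24, ?_, by rw [A.ι_conj, φ_pq _ (hL s (.head _))]⟩
      rw [Finset.mem_insert, Finset.mem_singleton]
      exact shl_cases p s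
    rw [Finset.card_pair (by decide)] at this
    refine ⟨H ⊓ centralizer {A.ι (pq s)}, inf_le_left.trans h1, h2.trans ?_,
      fun x hx => List.forall_mem_cons.2 ⟨mem_centralizer_singleton_iff.1 hx.2, h3 x hx.1⟩⟩
    rw [List.length_cons, pow_succ, mul_assoc]
    exact Nat.mul_le_mul_left _ this

theorem spin' : 2 ^ 26 ≤ Nat.card (centralizer (spn (FT A) 10 : Set X)) ∧
    (Nat.card (centralizer (spn (FT A) 10 : Set X)) = 2 ^ 26 →
      ∀ x ∈ centralizer (spn (FT A) 10 : Set X), x * x ∈ spn (FT A) 10 ∧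
        ((∀ y ∈ centralizer (spn (FT A) 10 : Set X), y * x = x * y) → x ∈ spn (FT A) 10)) := by
  have := h.finite
  have f := fr h
  obtain ⟨a1, a2, u, a3, a4⟩ := acts h
  have k : ∀ a < 2 ^ 10, A.τ⁻¹ * A.ι (el rT) * A.τ⁻¹ * FT A a * (A.τ⁻¹ * A.ι (el rT) * A.τ⁻¹)⁻¹ =
      FT A (xorComb (cs.getD 0 []) (xorComb (cs.getD 1 []) (xorComb (cs.getD 0 []) a))) := fun a ha => by
    have b1 := f.conj a1 a ha
    have b2 := f.conj a2 _ b1.1
    rw [← (f.conj a1 _ b2.1).2, ← b2.2, ← b1.2]; group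
  have q : ∀ {P : X → Prop}, (∀ p < 2 ^ 25, P (A.ι (pq p))) → ∀ a ∈ QH.map A.ι, P a := by
    rintro P H _ ⟨g, hg, rfl⟩
    obtain ⟨p, hp, rfl⟩ := mem_QH.1 hg
    exact H p hp
  have m : ∀ p, A.ι (pq p) ∈ QH.map A.ι := fun p => mem_map_of_mem _ (pq_mem_QH p)
  refine spin (mul_mem (mul_mem (f.act_mem a1) (f.act_mem a2)) (f.act_mem a1)) memZ (m _)
    (fun c hc => ?_) (q fun p _ => q fun r _ => ?_) (q fun p _ => ?_) ?_ ?_
    (q fun p _ H => memE fun x hx => h.comm_pq.1 (H _ ⟨cenV h hx, m _⟩).symm) (m 2590940)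
    (by rw [a3, ← map_mul, ← map_mul, pZ_comm]) (q fun p hp H => memE fun x hx => ?_) f.card ?_
  · obtain ⟨g, rfl⟩ := h.cent_z.le (mem_centralizer_singleton_iff.2 hc.symm)
    exact q fun p _ => A.ι_conj g p ▸ m _
  · rw [← map_inv, ← map_inv, ← map_mul, ← map_mul, ← map_mul]
    exact (mem_zpowers_pZ.1 (comm_pq_mem p r)).imp (fun e => (congrArg _ e).trans (map_one _))
      (congrArg _)
  · rw [← map_mul, pq_mul]
    exact pq_mem_of_mod (K := (spn (FT A) 10).comap A.ι) memZ (pq_zero ▸ one_mem _)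
      (by rw [pmul_mod, Nat.xor_self]; rfl)
  · rw [← FT_one, k 1 (by decide)]
    exact notQ h (by decide)
  · rw [← FT_one, show FT A 1 = _ from (k 612 (by decide)).symm]
    simpa [mul_assoc] using notQ h (a := 612) (by decide)
  · rw [a3] at H
    rw [← a4 x hx, pcomm_congr rfl (Nat.mod_mod _ _), pcomm_xor_right, ← pcomm_φ u p,
      φ_of_conj h.ker hp (mul_inv_eq_iff_eq_mul.2 H.symm), Nat.xor_self]
  · obtain ⟨H, h1, h2, h3⟩ := card_perp h (S8.map (·.2.1)) (by decide)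
    have := card_le_of_le (le_inf (fun x hx => q (P := fun x => x ∈ H → x ∈ _) (fun p _ hp => memC h
      fun y hy => h.comm_pq.1 (h3 _ hp _ (List.mem_map_of_mem hy))) x (h1 hx) hx) h1)
    change _ ≤ 2 ^ 8 * _ at h2
    omega

theorem card_CN : Nat.card (centralizer (spn (FT A) 10 : Set X)) = 2 ^ 26 ∧
    Nat.card (normalizer (spn (FT A) 10 : Set X)) = 2 ^ 26 * 23499295948800 := by
  have := h.finite
  have f := fr h
  have o := mem_octads_of (m := 5279) (by decide +kernel)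
  have c2 := (h.cnt_N (Agent.S1565.result _ o) (norm h) (g := ⟨_, NP_fst (NP_Est S1_mem.1)⟩) fun H => by
    have e := cenV h (x := (7949140, 1048576, 8193, 2, 5939296)) (by decide) _
      ((H _).1 (mem_of_lt (A := A) (k := 2) (by decide) (by decide) rfl))
    rw [show A.kN _ = A.ι (el rS1) from rfl, A.ι_conj, h.comm_pq, raw_S1.φ_eq (by decide)] at e
    revert e; decide +kernel).2
  have k : ∀ n ∈ normalizer (spn (FT A) 10 : Set X), ∀ a < 2 ^ 10, a ≠ 0 → ∃ b < 2 ^ 10,
      FT A b = n * FT A a * n⁻¹ ∧ b ≠ 0 ∧ qf b = qf a := fun n hn a ha h0 => by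
    obtain ⟨b, hb, e⟩ := f.mem_iff.1 ((hn _).1 (mem_spn ha))
    refine ⟨b, hb, e, fun e' => h0 (f.inj a ha ?_), iso h ha hb e.symm⟩
    rwa [e', f.zero, eq_comm, conj_eq_one_iff] at e
  have u1 := card_le_conj _ (FT A 1) ((Finset.range 1024).filter fun a => a ≠ 0 ∧ qf a = 0) (FT A)
    fun n hn =>
    let ⟨b, hb, e⟩ := k n hn 1 (by decide) (by decide)
    ⟨b, Finset.mem_filter.2 ⟨Finset.mem_range.2 hb, e.2⟩, e.1⟩
  have u2 := card_le_conj (normalizer (spn (FT A) 10 : Set X) ⊓ centralizer {FT A 1}) (FT A 3)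
      ((Finset.range 1024).filter fun a => a ≠ 0 ∧ a ≠ 1 ∧ qf a = 0 ∧ qf (a ^^^ 1) = 0) (FT A) fun n hn => by
    obtain ⟨b, hb, e, e1, e2⟩ := k n hn.1 3 (by decide) (by decide)
    obtain ⟨c, hc, e', e3, e4⟩ := k n hn.1 (3 ^^^ 1) (by decide) (by decide)
    rw [f.mul, ← conj_mul, ← e, mem_centralizer_singleton_iff.1 hn.2, mul_inv_cancel_right,
      ← f.mul] at e'
    obtain rfl := f.inj' hc (Nat.xor_lt_two_pow hb (by decide)) e'
    exact ⟨b, Finset.mem_filter.2 ⟨Finset.mem_range.2 hb, e1, fun e => e3 (by rw [e]; rfl), e2, e4⟩, e⟩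
  have l := f.lowM_le (hH h) c10 (centralizer_le_normalizer _)
  have := (spin' h).1
  rw [inf_assoc, chk6.2, FT_eq (a := 3) (by decide), FT_one, show xorComb WT 3 = pZ1 from rfl, c2,
    card_stab_octad o] at u2
  rw [chk6.1, FT_one] at u1
  rw [chk5] at l
  omega

theorem le_comm : spn (FT A) 10 ≤
    ⁅centralizer (spn (FT A) 10 : Set X), centralizer (spn (FT A) 10 : Set X)⁆ :=
  (fr h).spn_le fun k hk => by
    obtain (e | ⟨-, n, hn, e⟩) | e := cls h (Nat.pow_lt_pow_right one_lt_two hk)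
    · exact absurd e (by positivity)
    · have := commutator_mem_commutator
        (conj_mem_cent hn (cenV h (x := (14598144, 2100492, 132, 4, 1319424)) (by decide)))
        (conj_mem_cent hn (cenV h (x := (1114724, 14680064, 32, 2, 1256224)) (by decide)))
      rwa [← conjugate_commutatorElement, commutatorElement_def, A.ι_conj, φ_pq _ (by decide),
        show pcomm _ _ <<< 24 = 2 ^ 24 by decide, pq_neg, map_mul, mul_inv_cancel_right, ← FT_one,
        e] at this
    · exact absurd e.1 (by clear e; revert k; decide)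

end Ten

theorem exists_cod {N G : Type*} [Group N] [Group G] (g : N →* G) (H : Subgroup G)
    (h : ∀ n, g n ∈ H) : ∃ g' : N →* H, g'.ker = g.ker ∧ (H ≤ g.range → Surjective g') :=
  ⟨g.codRestrict H h, g.ker_codRestrict H h, fun r x => let ⟨n, e⟩ := r x.2; ⟨n, Subtype.ext e⟩⟩

theorem mem_isometry {ι : Type} [Fintype ι] [DecidableEq ι] {Q : (ι → ZMod 2) → ZMod 2}
    {M : GL ι (ZMod 2)} (h : ∀ u, Q (M • u) = Q u) : M ∈ isometryGroup _ Q := fun u _ => h u

theorem center_Omega10 : center (Omega (ZMod 2) (quadFormPlus 5 (ZMod 2))) = ⊥ := by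
  rw [← Class.coe_quadPlus, ← card_eq_one, Nat.card_congr (centerCongr
    (Class.Orth.omegaEquiv _)).toEquiv, Class.Orth.center_commutator_eq_bot (Class.quadPlus_nondegenerate 5)
    (Class.Orth.not_exc_of_finrank (by simp)) (by simp) (Or.inl rfl), card_bot]

open Ten in
theorem Am.Enum.s5532 {X : Type*} [Group X] {A : Am X} (h : A.Enum) :
    ∃ (E N : Subgroup X) (O : Subgroup N), IsElementaryAbelian 2 E ∧ Nat.card E = 2 ^ 10 ∧
    N = normalizer (E : Set X) ∧ O = pCore 2 N ∧ IsSpecial 2 O ∧ Nat.card O = 2 ^ 26 ∧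
    (center O).map O.subtype = E.subgroupOf N ∧ O = centralizer (E.subgroupOf N : Set N) ∧
    ∃ _ : O.Normal, Nonempty (N ⧸ O ≃* Omega (ZMod 2) (quadFormPlus 5 (ZMod 2))) := by
  have := h.finite
  have f := Ten.fr h
  obtain ⟨g, hg⟩ := f.exists_isAct (finSumFinEquiv : Fin 5 ⊕ Fin 5 ≃ Fin 10)
  obtain ⟨c1, c2⟩ := card_CN h
  obtain ⟨g', hg', -⟩ := exists_cod g (isometryGroup _ (quadFormPlus 5 (ZMod 2))) fun n =>
    mem_isometry fun u => by
      obtain ⟨a, ha, rfl⟩ := vc_surj (finSumFinEquiv : Fin 5 ⊕ Fin 5 ≃ Fin 10) u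
      obtain ⟨b, hb, e⟩ := f.mem_iff.1 ((n.2 _).1 (mem_spn ha))
      rw [(hg n a ha b hb).2 e.symm, (chk4 a ha).1, (chk4 b hb).1, Ten.iso h ha hb e.symm]
  rw [hg.ker f] at hg'
  have e := Class.quotCenterEquivOfEqBot center_Omega10
  have cΩ : Nat.card (Omega (ZMod 2) (quadFormPlus 5 (ZMod 2))) = 23499295948800 := by
    have := Agent.S0293.result (ZMod.card 2) 5 (by decide)
    rw [Nat.card_congr e.toEquiv] at this
    simpa [Finset.prod_range_succ] using this
  have cK : Nat.card g'.ker = 2 ^ 26 := by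
    rw [hg', Nat.card_congr (subgroupOfEquivOfLe (centralizer_le_normalizer _)).toEquiv, c1]
  have cR : Nat.card g'.range = 23499295948800 := by
    have := g'.ker.card_mul_index
    rw [index_ker, cK, c2] at this
    omega
  have i2 : g'.range.index = 2 := by
    have := g'.range.card_mul_index
    rw [cR, Agent.S0287.result (ZMod.card 2) 5 (by decide)] at this
    simp only [Finset.prod_range_succ, Finset.prod_range_zero] at this
    omega
  have r : Omega (ZMod 2) (quadFormPlus 5 (ZMod 2)) = g'.range := eq_of_le_of_card_ge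
    (commutator_le.2 fun a _ b _ => by
      simp only [commutatorElement_def, mul_mem_iff_of_index_two i2, inv_mem_iff]; tauto)
    (cR.trans cΩ.symm).le
  obtain ⟨φ, k, s⟩ := exists_cod g' _ fun n => r.ge ⟨n, rfl⟩
  replace s := s r.le
  have := Agent.S0296.result (F := ZMod 2) 5 (by decide)
  have := e.symm.isSimpleGroup
  rw [← k] at cK hg'
  have p := IsPGroup.of_card cK
  have m : φ.ker.map (Subgroup.subtype _) = centralizer (spn (FT A) 10 : Set X) := by
    rw [hg', subgroupOf_map_subtype, inf_eq_left.2 (centralizer_le_normalizer _)]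
  have z := center_map m (f.spn_le fun k _ => f.mem_cent fun j _ => by
    rw [← f.mul, ← f.mul, Nat.xor_comm]) le_rfl fun x hx => ((spin' h).2 c1 x hx).2
  refine ⟨_, _, φ.ker, f.elem, f.card, rfl, (Fis.pCore_eq_ker φ (MonoidHom.range_eq_top.2 s)
    (pCore_simple (by rw [cΩ]; decide) (by rw [cΩ]; decide)) p).symm, special_of m p z
    (fun x hx => ((spin' h).2 c1 x hx).1) (le_comm h), cK, z, ?_, inferInstance,
    ⟨QuotientGroup.quotientKerEquivOfSurjective φ s⟩⟩
  rw [hg']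
  ext n
  exact ⟨fun H x hx => Subtype.ext (H _ hx), fun H x hx =>
    congrArg Subtype.val (H ⟨x, le_normalizer hx⟩ hx)⟩

end Cfsg.Lib.Mon
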