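import Cfsg.Agent.Mon.P2Kit

/-! The Monster programme: the types of pairs of axes, level E. -/

set_option autoImplicit false
set_option maxRecDepth 20000
set_option linter.unusedSectionVars false

namespace Cfsg.Lib.Mon.CE

open Cfsg.Lib.Mon.Cert Cfsg.Lib.Mon.Kit

variable {X : Type*} [Group X] {A : Am X} (hk : A.ι.ker = Subgroup.zpowers cc)
include hk

omit hk in
theorem ax0_mul (p : ℕ) : A.ι (pq p) * (p2E A).ax 0 = A.ι (pq (pmul p pT2)) := by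
  rw [(p2E A).ax_zero, ← pq_mul, map_mul]; rfl

omit hk in
theorem r0 : (p2E A).Pr 0 2605056 := ⟨by decide, .inl ((ax0_mul _).trans (by
  rw [← map_one A.ι, ← pq_zero]; rfl))⟩
omit hk in
theorem r1 : (p2E A).Pr 0 19382272 := ⟨by decide, .inr (.inr (.inl (by
  change IsConj (A.ι (pq 19382272) * (p2E A).ax 0) _
  rw [ax0_mul]
  exact .refl _)))⟩
omit hk in
theorem r3 : (p2E A).Pr 0 5423104 := ⟨by decide, .inr (.inr (.inr (.inl (by
  change IsConj (A.ι (pq 5423104) * (p2E A).ax 0 * A.ι (pq pT)) _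
  rw [ax0_mul, ← map_mul, pq_mul]
  refine (isConj_iff.2 ⟨A.ι (el rN1), ?_⟩).trans Am.isConj_z1.symm
  rw [← map_inv, ← map_mul, ← map_mul, conj_pq, ← φ_N1_W]
  rfl))))⟩
omit hk in
theorem r4 : (p2E A).Pr 0 3833856 := ⟨by decide, .inr (.inl (ax0_mul _))⟩
theorem r6 : (p2E A).Pr 0 9367561 := ⟨by decide, .inr (.inr (.inr (.inr (by
  change (A.ι (pq 9367561) * (p2E A).ax 0) ^ 2 ≠ 1
  rw [ax0_mul, sq, ← map_mul, pq_mul, ← map_one A.ι, ← pq_zero]
  exact fun e => absurd (map_pq_inj hk (by decide) (by decide) e) (by decide)))))⟩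
theorem r17 : (p2E A).Pr 2 14176388 := .root (gk2E hk 4) (hax2 A) (by decide +kernel)
theorem r11 : (p2E A).Pr 1 32323845 :=
  .root' (q := 1396758) (gk2E hk 1) (f10 _ (hxE A)) (hax2 A) (by decide +kernel)
theorem r12 : (p2E A).Pr 1 32536837 :=
  .root' (q := 528406) (gk2E hk 1) (f10 _ (hxE A)) (hax2 A) (by decide +kernel)
theorem r2 : (p2E A).Pr 0 19386368 :=
  .link (q := 19386368) (f0 _ (hxE A)) r1 (hpool0 _ (hxE A)) [] (by decide +kernel)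
theorem r5 : (p2E A).Pr 0 20611072 :=
  .link (q := 20611072) (f0 _ (hxE A)) r3 (hpool0 _ (hxE A)) [7, 0, 1, 1] (by decide +kernel)
theorem r8 : (p2E A).Pr 1 31612928 :=
  .link (q := 31612928) (f2 _ (hxE A)) r3 (hpool0 _ (hxE A)) [11, 10] (by decide +kernel)
theorem r16 : (p2E A).Pr 2 24653824 :=
  .link (q := 7876608) (f6 _ (hxE A)) r3 (hpool0 _ (hxE A)) [9, 4] (by decide +kernel)
theorem r7 : (p2E A).Pr 1 26144768 :=
  .link (q := 9367552) (f2 _ (hxE A)) (r6 hk) (hpool0 _ (hxE A)) [4, 8] (by decide +kernel)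
theorem r9 : (p2E A).Pr 1 23425024 :=
  .link (q := 6647808) (f2 _ (hxE A)) (r6 hk) (hpool0 _ (hxE A)) [1, 10] (by decide +kernel)
theorem r14 : (p2E A).Pr 2 22323200 :=
  .link (q := 22323200) (f6 _ (hxE A)) (r6 hk) (hpool0 _ (hxE A)) [10, 9] (by decide +kernel)
theorem r20 : (p2E A).Pr 3 9089024 :=
  .link (q := 25866240) (f14 _ (hxE A)) (r17 hk) (hpool2 _ (hxE A)) [9] (by decide +kernel)
theorem r22 : (p2E A).Pr 3 21623328 :=
  .link (q := 9089024) (f17 _ (hxE A)) (r11 hk) (hpool1 _ (hxE A)) [11] (by decide +kernel)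
theorem r26 : (p2E A).Pr 4 32522240 :=
  .link (q := 32522240) (f22 _ (hxE A)) (r11 hk) (hpool1 _ (hxE A)) [9, 7] (by decide +kernel)
theorem r28 : (p2E A).Pr 4 24653824 :=
  .link (q := 7876608) (f22 _ (hxE A)) (r11 hk) (hpool1 _ (hxE A)) [2, 1, 8] (by decide +kernel)
theorem r21 : (p2E A).Pr 3 22327840 :=
  .link (q := 9957376) (f17 _ (hxE A)) (r12 hk) (hpool1 _ (hxE A)) [11] (by decide +kernel)
theorem r24 : (p2E A).Pr 4 32309248 :=
  .link (q := 32309248) (f22 _ (hxE A)) (r12 hk) (hpool1 _ (hxE A)) [9, 7] (by decide +kernel)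
theorem r30 : (p2E A).Pr 4 23425024 :=
  .link (q := 6647808) (f22 _ (hxE A)) (r12 hk) (hpool1 _ (hxE A)) [2, 1, 8] (by decide +kernel)
theorem r10 : (p2E A).Pr 1 27623424 :=
  .link (q := 27623424) (f2 _ (hxE A)) (r2 hk) (hpool0 _ (hxE A)) [] (by decide +kernel)
theorem r15 : (p2E A).Pr 2 21987328 :=
  .link (q := 21987328) (f6 _ (hxE A)) (r2 hk) (hpool0 _ (hxE A)) [0, 3] (by decide +kernel)
theorem r29 : (p2E A).Pr 4 6647808 :=
  .link (q := 23425024) (f22 _ (hxE A)) (r8 hk) (hpool1 _ (hxE A)) [10, 1, 0] (by decide +kernel)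
theorem r13 : (p2E A).Pr 1 23506938 :=
  .link (q := 5713920) (f11 _ (hxE A)) (r7 hk) (hpool1 _ (hxE A)) [11] (by decide +kernel)
theorem r23 : (p2E A).Pr 4 6643712 :=
  .link (q := 6643712) (f22 _ (hxE A)) (r7 hk) (hpool1 _ (hxE A)) [0] (by decide +kernel)
theorem r25 : (p2E A).Pr 4 7872512 :=
  .link (q := 7872512) (f22 _ (hxE A)) (r9 hk) (hpool1 _ (hxE A)) [5, 1] (by decide +kernel)
theorem r18 : (p2E A).Pr 3 7876608 :=
  .link (q := 24653824) (f14 _ (hxE A)) (r14 hk) (hpool2 _ (hxE A)) [5, 4, 8] (by decide +kernel)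
theorem r19 : (p2E A).Pr 3 32890880 :=
  .link (q := 32890880) (f14 _ (hxE A)) (r14 hk) (hpool2 _ (hxE A)) [0, 5, 5] (by decide +kernel)
theorem r27 : (p2E A).Pr 4 7876608 :=
  .link (q := 24653824) (f22 _ (hxE A)) (r10 hk) (hpool1 _ (hxE A)) [9, 1] (by decide +kernel)
theorem r31 : (p2E A).Pr 4 12697920 :=
  .link (q := 21987328) (f28 _ (hxE A)) (r23 hk) (hpool4 _ (hxE A)) [4, 8] (by decide +kernel)

theorem hsr0 : ∀ y ∈ sd0, (p2E A).Pr 0 y :=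
  PrL.cons r0 <| PrL.cons r1 <| PrL.cons (r2 hk) <| PrL.cons r3 <| PrL.cons r4 <|
  PrL.cons (r5 hk) <| PrL.cons (r6 hk) <| PrL.nil

theorem hsr1 : ∀ y ∈ sd1, (p2E A).Pr 1 y :=
  PrL.cons (r7 hk) <| PrL.cons (r8 hk) <| PrL.cons (r9 hk) <| PrL.cons (r10 hk) <|
  PrL.cons (r11 hk) <| PrL.cons (r12 hk) <| PrL.cons (r13 hk) <| PrL.nil

theorem hsr2 : ∀ y ∈ sd2, (p2E A).Pr 2 y :=
  PrL.cons (r14 hk) <| PrL.cons (r15 hk) <| PrL.cons (r16 hk) <| PrL.cons (r17 hk) <| PrL.nil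

theorem hsr3 : ∀ y ∈ sd3, (p2E A).Pr 3 y :=
  PrL.cons (r18 hk) <| PrL.cons (r19 hk) <| PrL.cons (r20 hk) <| PrL.cons (r21 hk) <|
  PrL.cons (r22 hk) <| PrL.nil

theorem hsr4 : ∀ y ∈ sd4, (p2E A).Pr 4 y :=
  PrL.cons (r23 hk) <| PrL.cons (r24 hk) <| PrL.cons (r25 hk) <| PrL.cons (r26 hk) <|
  PrL.cons (r27 hk) <| PrL.cons (r28 hk) <| PrL.cons (r29 hk) <| PrL.cons (r30 hk) <|
  PrL.cons (r31 hk) <| PrL.nil

theorem all2E : ∀ i < nE.length, (p2E A).All i := by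
  intro i hi
  change i < 5 at hi
  interval_cases i
  · exact .cl (hnE A) (hpool0 _ (hxE A)) Bmp.clSE_0 (hsr0 hk) (osd0 A)
      (by decide +kernel) rfl
  · exact .cl (hnE A) (hpool1 _ (hxE A)) Bmp.clSE_1 (hsr1 hk) (osd1 A)
      (by decide +kernel) rfl
  · exact .cl (hnE A) (hpool2 _ (hxE A)) Bmp.clSE_2 (hsr2 hk) (osd2 A)
      (by decide +kernel) rfl
  · exact .cl (hnE A) (hpool3 _ (hxE A)) Bmp.clSE_3 (hsr3 hk) (osd3 A)
      (by decide +kernel) rfl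
  · exact .cl (hnE A) (hpool4 _ (hxE A)) Bmp.clSE_4 (hsr4 hk) (osd4 A)
      (by decide +kernel) rfl

end Cfsg.Lib.Mon.CE
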