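import Cfsg.Agent.Mon.P2Kit

/-! The Monster programme: the types of pairs of axes, level M. -/

set_option autoImplicit false
set_option maxRecDepth 20000
set_option linter.unusedSectionVars false

namespace Cfsg.Lib.Mon.CM

open Cfsg.Lib.Mon.Cert Cfsg.Lib.Mon.Kit

variable {X : Type*} [Group X] {A : Am X} (hk : A.ι.ker = Subgroup.zpowers cc)
include hk

omit hk in
theorem r0 : (p2M A).Pr 0 1916928 := ⟨by decide, .inl (p2M A).ax_zero.symm⟩
omit hk in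
theorem r1 : (p2M A).Pr 0 18694144 := ⟨by decide, .inr (.inl ⟨1, by
  rw [← map_mul, pq_mul, one_mul, inv_one, mul_one]; rfl, by
  rw [one_mul, inv_one, mul_one]; exact (p2M A).ax_zero⟩)⟩
omit hk in
theorem r3 : (p2M A).Pr 0 2605056 := ⟨by decide, .inr (.inr (.inl ⟨1, by
  rw [one_mul, inv_one, mul_one]; rfl, by
  rw [one_mul, inv_one, mul_one]; exact (p2M A).ax_zero⟩))⟩
omit hk in
theorem r4 : (p2M A).Pr 0 9347077 := ⟨by decide, .inr (.inr (.inr (.inl (by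
  rw [(p2M A).ax_zero]
  change IsConj ((A.ι (pq 9347077) * A.ι (pq pT)) ^ 2) _
  rw [sq, ← map_mul, ← map_mul, pq_mul, pq_mul]
  exact .refl _))))⟩
omit hk in
theorem r9 : (p2M A).Pr 1 9347073 := ⟨by decide, .inr (.inr (.inr (.inr (.inl (.refl _)))))⟩
theorem r14 : (p2M A).Pr 2 2796583 :=
  .root' (q := 4) (gk2M hk 1) (f10 _ (hxM A)) (hax1 A) (by decide +kernel)
theorem r15 : (p2M A).Pr 2 16503505 :=
  .root' (q := 4149324) (gk2M hk 1) (f10 _ (hxM A)) (hax1 A) (by decide +kernel)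
theorem r28 : (p2M A).Pr 3 16777218 :=
  .root' (q := 2) (gk2M hk 1) (f14 _ (hxM A)) (hax1 A) (by decide +kernel)
theorem r41 : (p2M A).Pr 4 20070474 :=
  .root' (q := 3293258) (gk2M hk 1) (f27 _ (hxM A)) (hax1 A) (by decide +kernel)
theorem r2 : (p2M A).Pr 0 18698240 :=
  .link (q := 18698240) (f0 _ (hxM A)) r1 (hpool0 _ (hxM A)) [] (by decide +kernel)
theorem r7 : (p2M A).Pr 1 25423872 :=
  .link (q := 8646656) (f2 _ (hxM A)) r3 (hpool0 _ (hxM A)) [2, 13] (by decide +kernel)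
theorem r13 : (p2M A).Pr 2 32075776 :=
  .link (q := 15298560) (f7 _ (hxM A)) r3 (hpool0 _ (hxM A)) [12, 13] (by decide +kernel)
theorem r5 : (p2M A).Pr 1 14512128 :=
  .link (q := 31289344) (f2 _ (hxM A)) r4 (hpool0 _ (hxM A)) [7, 6] (by decide +kernel)
theorem r11 : (p2M A).Pr 2 11730944 :=
  .link (q := 11730944) (f7 _ (hxM A)) r4 (hpool0 _ (hxM A)) [8, 2] (by decide +kernel)
theorem r12 : (p2M A).Pr 2 2605056 :=
  .link (q := 2605056) (f7 _ (hxM A)) r4 (hpool0 _ (hxM A)) [12, 4, 9, 1] (by decide +kernel)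
theorem r17 : (p2M A).Pr 2 21244456 :=
  .link (q := 24576) (f10 _ (hxM A)) r9 (hpool1 _ (hxM A)) [12, 0] (by decide +kernel)
theorem r19 : (p2M A).Pr 3 30318592 :=
  .link (q := 30318592) (f14 _ (hxM A)) r9 (hpool1 _ (hxM A)) [14, 13, 2] (by decide +kernel)
theorem r20 : (p2M A).Pr 3 5423104 :=
  .link (q := 5423104) (f14 _ (hxM A)) r9 (hpool1 _ (hxM A)) [9, 5, 5] (by decide +kernel)
theorem r22 : (p2M A).Pr 3 16543744 :=
  .link (q := 33320960) (f14 _ (hxM A)) r9 (hpool1 _ (hxM A)) [4, 5, 9] (by decide +kernel)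
theorem r24 : (p2M A).Pr 3 389120 :=
  .link (q := 17166336) (f14 _ (hxM A)) r9 (hpool1 _ (hxM A)) [14, 12, 1] (by decide +kernel)
theorem r26 : (p2M A).Pr 3 14954496 :=
  .link (q := 31731712) (f14 _ (hxM A)) r9 (hpool1 _ (hxM A)) [13, 14, 11, 8] (by decide +kernel)
theorem r33 : (p2M A).Pr 4 11419648 :=
  .link (q := 11419648) (f27 _ (hxM A)) r9 (hpool1 _ (hxM A)) [6, 5, 2] (by decide +kernel)
theorem r35 : (p2M A).Pr 4 23302144 :=
  .link (q := 6524928) (f27 _ (hxM A)) r9 (hpool1 _ (hxM A)) [3, 3] (by decide +kernel)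
theorem r29 : (p2M A).Pr 3 17139736 :=
  .link (q := 9662464) (f19 _ (hxM A)) (r14 hk) (hpool2 _ (hxM A)) [13, 10] (by decide +kernel)
theorem r30 : (p2M A).Pr 3 15387646 :=
  .link (q := 30547968) (f17 _ (hxM A)) (r14 hk) (hpool2 _ (hxM A)) [15] (by decide +kernel)
theorem r32 : (p2M A).Pr 3 10002424 :=
  .link (q := 15106048) (f17 _ (hxM A)) (r14 hk) (hpool2 _ (hxM A)) [6, 13, 9] (by decide +kernel)
theorem r39 : (p2M A).Pr 4 8050556 :=
  .link (q := 12324864) (f30 _ (hxM A)) (r14 hk) (hpool2 _ (hxM A)) [6, 10] (by decide +kernel)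
theorem r43 : (p2M A).Pr 5 12197888 :=
  .link (q := 12197888) (f41 _ (hxM A)) (r14 hk) (hpool2 _ (hxM A)) [8, 15] (by decide +kernel)
theorem r45 : (p2M A).Pr 5 26095616 :=
  .link (q := 9318400) (f41 _ (hxM A)) (r14 hk) (hpool2 _ (hxM A)) [2, 4, 8] (by decide +kernel)
theorem r51 : (p2M A).Pr 5 21008384 :=
  .link (q := 4231168) (f41 _ (hxM A)) (r14 hk) (hpool2 _ (hxM A)) [8, 6, 14, 5] (by decide +kernel)
theorem r56 : (p2M A).Pr 6 1916928 :=
  .link (q := 1916928) (f51 _ (hxM A)) (r14 hk) (hpool2 _ (hxM A)) [8, 9, 3] (by decide +kernel)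
theorem r57 : (p2M A).Pr 6 20992000 :=
  .link (q := 4214784) (f51 _ (hxM A)) (r14 hk) (hpool2 _ (hxM A)) [9, 11] (by decide +kernel)
theorem r60 : (p2M A).Pr 6 31215616 :=
  .link (q := 14438400) (f51 _ (hxM A)) (r14 hk) (hpool2 _ (hxM A)) [9, 6, 10, 7] (by decide +kernel)
theorem r80 : (p2M A).Pr 7 4841472 :=
  .link (q := 4841472) (f77 _ (hxM A)) (r14 hk) (hpool2 _ (hxM A)) [11, 6, 10] (by decide +kernel)
theorem r81 : (p2M A).Pr 7 22114304 :=
  .link (q := 5337088) (f77 _ (hxM A)) (r14 hk) (hpool2 _ (hxM A)) [8, 12] (by decide +kernel)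
theorem r84 : (p2M A).Pr 7 4087808 :=
  .link (q := 4087808) (f77 _ (hxM A)) (r14 hk) (hpool2 _ (hxM A)) [11, 7, 14] (by decide +kernel)
theorem r87 : (p2M A).Pr 7 1085440 :=
  .link (q := 17862656) (f77 _ (hxM A)) (r14 hk) (hpool2 _ (hxM A)) [14, 15, 5] (by decide +kernel)
theorem r90 : (p2M A).Pr 7 17334272 :=
  .link (q := 17334272) (f77 _ (hxM A)) (r14 hk) (hpool2 _ (hxM A)) [8, 15, 12, 7] (by decide +kernel)
theorem r31 : (p2M A).Pr 3 5153094 :=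
  .link (q := 33456128) (f17 _ (hxM A)) (r15 hk) (hpool2 _ (hxM A)) [11, 14] (by decide +kernel)
theorem r47 : (p2M A).Pr 5 27025408 :=
  .link (q := 27025408) (f41 _ (hxM A)) (r15 hk) (hpool2 _ (hxM A)) [11, 1] (by decide +kernel)
theorem r48 : (p2M A).Pr 5 1081344 :=
  .link (q := 1081344) (f41 _ (hxM A)) (r15 hk) (hpool2 _ (hxM A)) [10, 7, 5] (by decide +kernel)
theorem r61 : (p2M A).Pr 6 14434304 :=
  .link (q := 14434304) (f51 _ (hxM A)) (r15 hk) (hpool2 _ (hxM A)) [9, 13, 7] (by decide +kernel)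
theorem r86 : (p2M A).Pr 7 20807680 :=
  .link (q := 20807680) (f77 _ (hxM A)) (r15 hk) (hpool2 _ (hxM A)) [2, 12] (by decide +kernel)
theorem r40 : (p2M A).Pr 4 6345198 :=
  .link (q := 10113024) (f32 _ (hxM A)) (r28 hk) (hpool3 _ (hxM A)) [7, 1] (by decide +kernel)
theorem r52 : (p2M A).Pr 5 32710940 :=
  .link (q := 15245312) (f48 _ (hxM A)) (r28 hk) (hpool3 _ (hxM A)) [6, 5] (by decide +kernel)
theorem r70 : (p2M A).Pr 6 20336642 :=
  .link (q := 32309248) (f54 _ (hxM A)) (r28 hk) (hpool3 _ (hxM A)) [2, 11, 14] (by decide +kernel)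
theorem r72 : (p2M A).Pr 6 18772998 :=
  .link (q := 4169728) (f54 _ (hxM A)) (r28 hk) (hpool3 _ (hxM A)) [0] (by decide +kernel)
theorem r76 : (p2M A).Pr 6 23714488 :=
  .link (q := 33247232) (f54 _ (hxM A)) (r28 hk) (hpool3 _ (hxM A)) [8, 1, 11] (by decide +kernel)
theorem r92 : (p2M A).Pr 7 24756322 :=
  .link (q := 1544192) (f87 _ (hxM A)) (r28 hk) (hpool3 _ (hxM A)) [9, 1] (by decide +kernel)
theorem r94 : (p2M A).Pr 7 29516138 :=
  .link (q := 5713920) (f87 _ (hxM A)) (r28 hk) (hpool3 _ (hxM A)) [6, 5, 8] (by decide +kernel)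
theorem r98 : (p2M A).Pr 8 15532032 :=
  .link (q := 15532032) (f113 _ (hxM A)) (r28 hk) (hpool3 _ (hxM A)) [15, 14, 9] (by decide +kernel)
theorem r101 : (p2M A).Pr 8 17846272 :=
  .link (q := 1069056) (f113 _ (hxM A)) (r28 hk) (hpool3 _ (hxM A)) [9, 12] (by decide +kernel)
theorem r103 : (p2M A).Pr 8 22831104 :=
  .link (q := 22831104) (f113 _ (hxM A)) (r28 hk) (hpool3 _ (hxM A)) [3, 7] (by decide +kernel)
theorem r105 : (p2M A).Pr 8 29208576 :=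
  .link (q := 12431360) (f113 _ (hxM A)) (r28 hk) (hpool3 _ (hxM A)) [3, 6, 1] (by decide +kernel)
theorem r110 : (p2M A).Pr 8 18796544 :=
  .link (q := 2019328) (f113 _ (hxM A)) (r28 hk) (hpool3 _ (hxM A)) [15, 6, 4, 12] (by decide +kernel)
theorem r124 : (p2M A).Pr 10 32931840 :=
  .link (q := 32931840) (f163 _ (hxM A)) (r28 hk) (hpool3 _ (hxM A)) [3, 1] (by decide +kernel)
theorem r129 : (p2M A).Pr 10 4173824 :=
  .link (q := 20951040) (f163 _ (hxM A)) (r28 hk) (hpool3 _ (hxM A)) [8, 11, 7] (by decide +kernel)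
theorem r134 : (p2M A).Pr 10 26554368 :=
  .link (q := 9777152) (f163 _ (hxM A)) (r28 hk) (hpool3 _ (hxM A)) [5, 13, 2] (by decide +kernel)
theorem r136 : (p2M A).Pr 10 19861504 :=
  .link (q := 3084288) (f163 _ (hxM A)) (r28 hk) (hpool3 _ (hxM A)) [10, 13, 1] (by decide +kernel)
theorem r151 : (p2M A).Pr 11 28884992 :=
  .link (q := 28884992) (f231 _ (hxM A)) (r28 hk) (hpool3 _ (hxM A)) [7, 5, 10] (by decide +kernel)
theorem r153 : (p2M A).Pr 11 26456064 :=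
  .link (q := 9678848) (f231 _ (hxM A)) (r28 hk) (hpool3 _ (hxM A)) [10, 1, 14] (by decide +kernel)
theorem r155 : (p2M A).Pr 11 73728 :=
  .link (q := 73728) (f231 _ (hxM A)) (r28 hk) (hpool3 _ (hxM A)) [5, 7] (by decide +kernel)
theorem r168 : (p2M A).Pr 11 8821677 :=
  .link (q := 12644352) (f276 _ (hxM A)) (r28 hk) (hpool3 _ (hxM A)) [0, 4] (by decide +kernel)
theorem r173 : (p2M A).Pr 11 11587880 :=
  .link (q := 22642688) (f276 _ (hxM A)) (r28 hk) (hpool3 _ (hxM A)) [2, 11, 4] (by decide +kernel)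
theorem r119 : (p2M A).Pr 9 18079744 :=
  .link (q := 18079744) (f152 _ (hxM A)) (r41 hk) (hpool4 _ (hxM A)) [2, 5] (by decide +kernel)
theorem r121 : (p2M A).Pr 9 659456 :=
  .link (q := 6164480) (f155 _ (hxM A)) (r41 hk) (hpool4 _ (hxM A)) [14] (by decide +kernel)
theorem r144 : (p2M A).Pr 10 11734716 :=
  .link (q := 3596288) (f201 _ (hxM A)) (r41 hk) (hpool4 _ (hxM A)) [15, 14] (by decide +kernel)
theorem r179 : (p2M A).Pr 11 20613644 :=
  .link (q := 22491136) (f241 _ (hxM A)) (r41 hk) (hpool4 _ (hxM A)) [5, 12] (by decide +kernel)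
theorem r6 : (p2M A).Pr 1 9314304 :=
  .link (q := 9314304) (f2 _ (hxM A)) (r2 hk) (hpool0 _ (hxM A)) [13, 9, 2] (by decide +kernel)
theorem r8 : (p2M A).Pr 1 21991424 :=
  .link (q := 5214208) (f2 _ (hxM A)) (r2 hk) (hpool0 _ (hxM A)) [8, 2, 0] (by decide +kernel)
theorem r10 : (p2M A).Pr 2 266240 :=
  .link (q := 17043456) (f7 _ (hxM A)) (r2 hk) (hpool0 _ (hxM A)) [9, 12] (by decide +kernel)
theorem r27 : (p2M A).Pr 3 31731712 :=
  .link (q := 14954496) (f14 _ (hxM A)) (r7 hk) (hpool1 _ (hxM A)) [4, 15] (by decide +kernel)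
theorem r50 : (p2M A).Pr 5 4231168 :=
  .link (q := 21008384) (f41 _ (hxM A)) (r13 hk) (hpool2 _ (hxM A)) [2, 2] (by decide +kernel)
theorem r16 : (p2M A).Pr 2 1923706 :=
  .link (q := 26095616) (f10 _ (hxM A)) (r5 hk) (hpool1 _ (hxM A)) [15, 10, 5] (by decide +kernel)
theorem r18 : (p2M A).Pr 3 30068736 :=
  .link (q := 13291520) (f14 _ (hxM A)) (r5 hk) (hpool1 _ (hxM A)) [0, 3] (by decide +kernel)
theorem r21 : (p2M A).Pr 3 30507008 :=
  .link (q := 30507008) (f14 _ (hxM A)) (r5 hk) (hpool1 _ (hxM A)) [5, 1] (by decide +kernel)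
theorem r25 : (p2M A).Pr 3 17162240 :=
  .link (q := 17162240) (f14 _ (hxM A)) (r5 hk) (hpool1 _ (hxM A)) [0, 10, 3] (by decide +kernel)
theorem r34 : (p2M A).Pr 4 27357184 :=
  .link (q := 10579968) (f27 _ (hxM A)) (r5 hk) (hpool1 _ (hxM A)) [12, 0] (by decide +kernel)
theorem r37 : (p2M A).Pr 4 27172864 :=
  .link (q := 27172864) (f27 _ (hxM A)) (r5 hk) (hpool1 _ (hxM A)) [8, 2, 10, 5] (by decide +kernel)
theorem r38 : (p2M A).Pr 4 28729344 :=
  .link (q := 28729344) (f27 _ (hxM A)) (r5 hk) (hpool1 _ (hxM A)) [1, 4] (by decide +kernel)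
theorem r46 : (p2M A).Pr 5 17862656 :=
  .link (q := 1085440) (f41 _ (hxM A)) (r11 hk) (hpool2 _ (hxM A)) [14, 10, 0] (by decide +kernel)
theorem r88 : (p2M A).Pr 7 561152 :=
  .link (q := 17338368) (f77 _ (hxM A)) (r11 hk) (hpool2 _ (hxM A)) [2, 4] (by decide +kernel)
theorem r44 : (p2M A).Pr 5 4227072 :=
  .link (q := 4227072) (f41 _ (hxM A)) (r12 hk) (hpool2 _ (hxM A)) [9, 5] (by decide +kernel)
theorem r42 : (p2M A).Pr 5 16793600 :=
  .link (q := 16793600) (f41 _ (hxM A)) (r17 hk) (hpool2 _ (hxM A)) [1, 11] (by decide +kernel)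
theorem r59 : (p2M A).Pr 6 14839808 :=
  .link (q := 31617024) (f51 _ (hxM A)) (r17 hk) (hpool2 _ (hxM A)) [8, 6] (by decide +kernel)
theorem r62 : (p2M A).Pr 6 32071680 :=
  .link (q := 32071680) (f51 _ (hxM A)) (r17 hk) (hpool2 _ (hxM A)) [10, 10, 5] (by decide +kernel)
theorem r79 : (p2M A).Pr 7 13885440 :=
  .link (q := 13885440) (f77 _ (hxM A)) (r17 hk) (hpool2 _ (hxM A)) [11, 15] (by decide +kernel)
theorem r83 : (p2M A).Pr 7 24891392 :=
  .link (q := 8114176) (f77 _ (hxM A)) (r17 hk) (hpool2 _ (hxM A)) [12, 1, 12] (by decide +kernel)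
theorem r85 : (p2M A).Pr 7 3776512 :=
  .link (q := 3776512) (f77 _ (hxM A)) (r17 hk) (hpool2 _ (hxM A)) [5, 13, 11] (by decide +kernel)
theorem r100 : (p2M A).Pr 8 5980160 :=
  .link (q := 5980160) (f113 _ (hxM A)) (r19 hk) (hpool3 _ (hxM A)) [14, 1] (by decide +kernel)
theorem r135 : (p2M A).Pr 10 3837952 :=
  .link (q := 20615168) (f163 _ (hxM A)) (r19 hk) (hpool3 _ (hxM A)) [10, 3, 0] (by decide +kernel)
theorem r147 : (p2M A).Pr 11 26337280 :=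
  .link (q := 26337280) (f231 _ (hxM A)) (r19 hk) (hpool3 _ (hxM A)) [12, 1] (by decide +kernel)
theorem r161 : (p2M A).Pr 11 2113536 :=
  .link (q := 20615168) (f276 _ (hxM A)) (r19 hk) (hpool3 _ (hxM A)) [12, 1, 7] (by decide +kernel)
theorem r73 : (p2M A).Pr 6 18195460 :=
  .link (q := 25993216) (f54 _ (hxM A)) (r20 hk) (hpool3 _ (hxM A)) [12, 0] (by decide +kernel)
theorem r96 : (p2M A).Pr 7 1345152 :=
  .link (q := 23887872) (f87 _ (hxM A)) (r20 hk) (hpool3 _ (hxM A)) [8, 14, 10] (by decide +kernel)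
theorem r108 : (p2M A).Pr 8 15724544 :=
  .link (q := 32501760) (f113 _ (hxM A)) (r20 hk) (hpool3 _ (hxM A)) [4, 9, 15] (by decide +kernel)
theorem r127 : (p2M A).Pr 10 17547264 :=
  .link (q := 17547264) (f163 _ (hxM A)) (r20 hk) (hpool3 _ (hxM A)) [1, 6, 11] (by decide +kernel)
theorem r130 : (p2M A).Pr 10 26091520 :=
  .link (q := 26091520) (f163 _ (hxM A)) (r20 hk) (hpool3 _ (hxM A)) [7, 9, 0] (by decide +kernel)
theorem r160 : (p2M A).Pr 11 29822976 :=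
  .link (q := 13045760) (f231 _ (hxM A)) (r20 hk) (hpool3 _ (hxM A)) [8, 2, 5] (by decide +kernel)
theorem r167 : (p2M A).Pr 11 17054589 :=
  .link (q := 27172864) (f276 _ (hxM A)) (r20 hk) (hpool3 _ (hxM A)) [10, 8, 13] (by decide +kernel)
theorem r120 : (p2M A).Pr 9 11579392 :=
  .link (q := 21495808) (f155 _ (hxM A)) (r33 hk) (hpool4 _ (hxM A)) [] (by decide +kernel)
theorem r53 : (p2M A).Pr 5 22690998 :=
  .link (q := 6057984) (f48 _ (hxM A)) (r29 hk) (hpool3 _ (hxM A)) [9] (by decide +kernel)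
theorem r69 : (p2M A).Pr 6 28889090 :=
  .link (q := 2609152) (f54 _ (hxM A)) (r29 hk) (hpool3 _ (hxM A)) [1, 6, 12] (by decide +kernel)
theorem r71 : (p2M A).Pr 6 31944760 :=
  .link (q := 30322688) (f54 _ (hxM A)) (r29 hk) (hpool3 _ (hxM A)) [3, 10, 6] (by decide +kernel)
theorem r75 : (p2M A).Pr 6 19663544 :=
  .link (q := 7114752) (f54 _ (hxM A)) (r29 hk) (hpool3 _ (hxM A)) [2, 7, 11] (by decide +kernel)
theorem r91 : (p2M A).Pr 7 23861226 :=
  .link (q := 102400) (f87 _ (hxM A)) (r29 hk) (hpool3 _ (hxM A)) [13, 14] (by decide +kernel)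
theorem r95 : (p2M A).Pr 7 15607522 :=
  .link (q := 30511104) (f87 _ (hxM A)) (r29 hk) (hpool3 _ (hxM A)) [7, 5, 3] (by decide +kernel)
theorem r99 : (p2M A).Pr 8 14954496 :=
  .link (q := 31731712) (f113 _ (hxM A)) (r29 hk) (hpool3 _ (hxM A)) [13, 14, 12] (by decide +kernel)
theorem r106 : (p2M A).Pr 8 27914240 :=
  .link (q := 11137024) (f113 _ (hxM A)) (r29 hk) (hpool3 _ (hxM A)) [15, 15, 15] (by decide +kernel)
theorem r107 : (p2M A).Pr 8 5545984 :=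
  .link (q := 5545984) (f113 _ (hxM A)) (r29 hk) (hpool3 _ (hxM A)) [13, 14, 14] (by decide +kernel)
theorem r111 : (p2M A).Pr 8 5865472 :=
  .link (q := 5865472) (f113 _ (hxM A)) (r29 hk) (hpool3 _ (hxM A)) [3, 10, 0, 5] (by decide +kernel)
theorem r126 : (p2M A).Pr 10 27172864 :=
  .link (q := 27172864) (f163 _ (hxM A)) (r29 hk) (hpool3 _ (hxM A)) [6, 3] (by decide +kernel)
theorem r128 : (p2M A).Pr 10 3301376 :=
  .link (q := 3301376) (f163 _ (hxM A)) (r29 hk) (hpool3 _ (hxM A)) [7, 1, 6] (by decide +kernel)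
theorem r131 : (p2M A).Pr 10 20660224 :=
  .link (q := 20660224) (f163 _ (hxM A)) (r29 hk) (hpool3 _ (hxM A)) [5, 10, 6] (by decide +kernel)
theorem r146 : (p2M A).Pr 11 9158364 :=
  .link (q := 7770112) (f276 _ (hxM A)) (r29 hk) (hpool3 _ (hxM A)) [0, 1, 0] (by decide +kernel)
theorem r148 : (p2M A).Pr 11 29348572 :=
  .link (q := 14430208) (f276 _ (hxM A)) (r29 hk) (hpool3 _ (hxM A)) [7, 6, 0] (by decide +kernel)
theorem r152 : (p2M A).Pr 11 33132544 :=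
  .link (q := 16355328) (f231 _ (hxM A)) (r29 hk) (hpool3 _ (hxM A)) [10, 12, 8] (by decide +kernel)
theorem r154 : (p2M A).Pr 11 8339456 :=
  .link (q := 8339456) (f231 _ (hxM A)) (r29 hk) (hpool3 _ (hxM A)) [13, 11] (by decide +kernel)
theorem r156 : (p2M A).Pr 11 11087872 :=
  .link (q := 27865088) (f231 _ (hxM A)) (r29 hk) (hpool3 _ (hxM A)) [3, 14, 4] (by decide +kernel)
theorem r157 : (p2M A).Pr 11 593920 :=
  .link (q := 28020736) (f276 _ (hxM A)) (r29 hk) (hpool3 _ (hxM A)) [2, 6, 2] (by decide +kernel)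
theorem r162 : (p2M A).Pr 11 18890752 :=
  .link (q := 3837952) (f276 _ (hxM A)) (r29 hk) (hpool3 _ (hxM A)) [7, 12, 0, 2] (by decide +kernel)
theorem r166 : (p2M A).Pr 11 3754869 :=
  .link (q := 26189824) (f276 _ (hxM A)) (r29 hk) (hpool3 _ (hxM A)) [7, 13, 0] (by decide +kernel)
theorem r177 : (p2M A).Pr 11 28042028 :=
  .link (q := 1306624) (f276 _ (hxM A)) (r29 hk) (hpool3 _ (hxM A)) [7, 14, 0] (by decide +kernel)
theorem r182 : (p2M A).Pr 11 28164900 :=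
  .link (q := 18079744) (f276 _ (hxM A)) (r29 hk) (hpool3 _ (hxM A)) [13, 3, 11, 1] (by decide +kernel)
theorem r54 : (p2M A).Pr 5 32264442 :=
  .link (q := 6602752) (f43 _ (hxM A)) (r30 hk) (hpool3 _ (hxM A)) [13] (by decide +kernel)
theorem r74 : (p2M A).Pr 6 21162624 :=
  .link (q := 26095616) (f54 _ (hxM A)) (r30 hk) (hpool3 _ (hxM A)) [13, 7] (by decide +kernel)
theorem r77 : (p2M A).Pr 6 15609914 :=
  .link (q := 2990080) (f54 _ (hxM A)) (r30 hk) (hpool3 _ (hxM A)) [9, 3, 10] (by decide +kernel)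
theorem r93 : (p2M A).Pr 7 2803980 :=
  .link (q := 7872512) (f87 _ (hxM A)) (r30 hk) (hpool3 _ (hxM A)) [12, 10, 11] (by decide +kernel)
theorem r97 : (p2M A).Pr 8 1921024 :=
  .link (q := 18698240) (f113 _ (hxM A)) (r30 hk) (hpool3 _ (hxM A)) [8, 12, 1] (by decide +kernel)
theorem r125 : (p2M A).Pr 10 16723968 :=
  .link (q := 33501184) (f163 _ (hxM A)) (r30 hk) (hpool3 _ (hxM A)) [4, 15, 11] (by decide +kernel)
theorem r149 : (p2M A).Pr 11 2605056 :=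
  .link (q := 2605056) (f231 _ (hxM A)) (r30 hk) (hpool3 _ (hxM A)) [3, 12, 0] (by decide +kernel)
theorem r150 : (p2M A).Pr 11 9342976 :=
  .link (q := 26120192) (f231 _ (hxM A)) (r30 hk) (hpool3 _ (hxM A)) [2, 1, 13] (by decide +kernel)
theorem r165 : (p2M A).Pr 11 19744629 :=
  .link (q := 32309248) (f276 _ (hxM A)) (r30 hk) (hpool3 _ (hxM A)) [0, 13, 10] (by decide +kernel)
theorem r178 : (p2M A).Pr 11 17180172 :=
  .link (q := 12148736) (f276 _ (hxM A)) (r30 hk) (hpool3 _ (hxM A)) [14, 13, 7] (by decide +kernel)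
theorem r117 : (p2M A).Pr 9 31047680 :=
  .link (q := 31047680) (f152 _ (hxM A)) (r39 hk) (hpool4 _ (hxM A)) [1, 3] (by decide +kernel)
theorem r123 : (p2M A).Pr 9 16815892 :=
  .link (q := 26529792) (f155 _ (hxM A)) (r39 hk) (hpool4 _ (hxM A)) [0, 7, 2] (by decide +kernel)
theorem r138 : (p2M A).Pr 10 24942831 :=
  .link (q := 9564160) (f181 _ (hxM A)) (r39 hk) (hpool4 _ (hxM A)) [0, 2, 11] (by decide +kernel)
theorem r139 : (p2M A).Pr 10 26662524 :=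
  .link (q := 26144768) (f181 _ (hxM A)) (r39 hk) (hpool4 _ (hxM A)) [5, 15, 15] (by decide +kernel)
theorem r140 : (p2M A).Pr 10 19496431 :=
  .link (q := 16723968) (f181 _ (hxM A)) (r39 hk) (hpool4 _ (hxM A)) [12, 8, 8] (by decide +kernel)
theorem r141 : (p2M A).Pr 10 3738375 :=
  .link (q := 16027648) (f201 _ (hxM A)) (r39 hk) (hpool4 _ (hxM A)) [12, 14] (by decide +kernel)
theorem r164 : (p2M A).Pr 11 32284516 :=
  .link (q := 9289728) (f241 _ (hxM A)) (r39 hk) (hpool4 _ (hxM A)) [5, 13, 13] (by decide +kernel)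
theorem r180 : (p2M A).Pr 11 8387076 :=
  .link (q := 16789504) (f241 _ (hxM A)) (r39 hk) (hpool4 _ (hxM A)) [6, 13, 5] (by decide +kernel)
theorem r65 : (p2M A).Pr 6 7166941 :=
  .link (q := 8110080) (f72 _ (hxM A)) (r56 hk) (hpool6 _ (hxM A)) [4, 13] (by decide +kernel)
theorem r169 : (p2M A).Pr 11 31357310 :=
  .link (q := 16818176) (f343 _ (hxM A)) (r56 hk) (hpool6 _ (hxM A)) [4, 11] (by decide +kernel)
theorem r171 : (p2M A).Pr 11 9164966 :=
  .link (q := 3514368) (f291 _ (hxM A)) (r56 hk) (hpool6 _ (hxM A)) [0, 12] (by decide +kernel)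
theorem r175 : (p2M A).Pr 11 28865336 :=
  .link (q := 16125952) (f318 _ (hxM A)) (r56 hk) (hpool6 _ (hxM A)) [1, 4, 0] (by decide +kernel)
theorem r66 : (p2M A).Pr 6 24248539 :=
  .link (q := 24854528) (f72 _ (hxM A)) (r60 hk) (hpool6 _ (hxM A)) [13] (by decide +kernel)
theorem r113 : (p2M A).Pr 8 12704239 :=
  .link (q := 32997376) (f142 _ (hxM A)) (r60 hk) (hpool6 _ (hxM A)) [4, 0] (by decide +kernel)
theorem r104 : (p2M A).Pr 8 962560 :=
  .link (q := 17739776) (f113 _ (hxM A)) (r31 hk) (hpool3 _ (hxM A)) [15, 15] (by decide +kernel)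
theorem r181 : (p2M A).Pr 11 9274148 :=
  .link (q := 19492864) (f276 _ (hxM A)) (r31 hk) (hpool3 _ (hxM A)) [6, 13] (by decide +kernel)
theorem r116 : (p2M A).Pr 9 22401024 :=
  .link (q := 5623808) (f152 _ (hxM A)) (r40 hk) (hpool4 _ (hxM A)) [6, 12] (by decide +kernel)
theorem r122 : (p2M A).Pr 9 4062274 :=
  .link (q := 9629696) (f155 _ (hxM A)) (r40 hk) (hpool4 _ (hxM A)) [4, 1] (by decide +kernel)
theorem r137 : (p2M A).Pr 10 520144 :=
  .link (q := 4030464) (f181 _ (hxM A)) (r40 hk) (hpool4 _ (hxM A)) [3, 14] (by decide +kernel)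
theorem r142 : (p2M A).Pr 10 15151477 :=
  .link (q := 1306624) (f201 _ (hxM A)) (r40 hk) (hpool4 _ (hxM A)) [14, 3] (by decide +kernel)
theorem r143 : (p2M A).Pr 10 28511932 :=
  .link (q := 20373504) (f201 _ (hxM A)) (r40 hk) (hpool4 _ (hxM A)) [13, 10, 4] (by decide +kernel)
theorem r163 : (p2M A).Pr 11 22955080 :=
  .link (q := 32022528) (f241 _ (hxM A)) (r40 hk) (hpool4 _ (hxM A)) [11, 1, 5] (by decide +kernel)
theorem r64 : (p2M A).Pr 6 26257165 :=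
  .link (q := 13922304) (f56 _ (hxM A)) (r52 hk) (hpool5 _ (hxM A)) [4, 11] (by decide +kernel)
theorem r68 : (p2M A).Pr 6 26646921 :=
  .link (q := 32890880) (f56 _ (hxM A)) (r52 hk) (hpool5 _ (hxM A)) [7, 0, 10] (by decide +kernel)
theorem r170 : (p2M A).Pr 11 17849702 :=
  .link (q := 24653824) (f278 _ (hxM A)) (r52 hk) (hpool5 _ (hxM A)) [2, 15, 3] (by decide +kernel)
theorem r114 : (p2M A).Pr 8 7799774 :=
  .link (q := 28741632) (f142 _ (hxM A)) (r70 hk) (hpool6 _ (hxM A)) [9, 6, 11] (by decide +kernel)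
theorem r172 : (p2M A).Pr 11 21324739 :=
  .link (q := 25604096) (f339 _ (hxM A)) (r70 hk) (hpool6 _ (hxM A)) [2, 14] (by decide +kernel)
theorem r23 : (p2M A).Pr 3 2228224 :=
  .link (q := 2228224) (f14 _ (hxM A)) (r6 hk) (hpool1 _ (hxM A)) [7, 9] (by decide +kernel)
theorem r36 : (p2M A).Pr 4 10395648 :=
  .link (q := 10395648) (f27 _ (hxM A)) (r6 hk) (hpool1 _ (hxM A)) [9, 6] (by decide +kernel)
theorem r49 : (p2M A).Pr 5 17858560 :=
  .link (q := 17858560) (f41 _ (hxM A)) (r10 hk) (hpool2 _ (hxM A)) [13, 11, 0] (by decide +kernel)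
theorem r89 : (p2M A).Pr 7 557056 :=
  .link (q := 557056) (f77 _ (hxM A)) (r10 hk) (hpool2 _ (hxM A)) [11, 6] (by decide +kernel)
theorem r58 : (p2M A).Pr 6 2113536 :=
  .link (q := 2113536) (f51 _ (hxM A)) (r16 hk) (hpool2 _ (hxM A)) [9, 9] (by decide +kernel)
theorem r63 : (p2M A).Pr 6 9682944 :=
  .link (q := 9682944) (f51 _ (hxM A)) (r16 hk) (hpool2 _ (hxM A)) [13, 7, 3] (by decide +kernel)
theorem r82 : (p2M A).Pr 7 9748480 :=
  .link (q := 9748480) (f77 _ (hxM A)) (r16 hk) (hpool2 _ (hxM A)) [1, 1] (by decide +kernel)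
theorem r102 : (p2M A).Pr 8 11735040 :=
  .link (q := 28512256) (f113 _ (hxM A)) (r18 hk) (hpool3 _ (hxM A)) [1, 1, 5] (by decide +kernel)
theorem r133 : (p2M A).Pr 10 9777152 :=
  .link (q := 26554368) (f163 _ (hxM A)) (r18 hk) (hpool3 _ (hxM A)) [3, 1] (by decide +kernel)
theorem r145 : (p2M A).Pr 11 1916928 :=
  .link (q := 1916928) (f231 _ (hxM A)) (r18 hk) (hpool3 _ (hxM A)) [6, 13, 2] (by decide +kernel)
theorem r158 : (p2M A).Pr 11 3301376 :=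
  .link (q := 4722688) (f276 _ (hxM A)) (r18 hk) (hpool3 _ (hxM A)) [3, 1] (by decide +kernel)
theorem r55 : (p2M A).Pr 5 19307260 :=
  .link (q := 20832256) (f43 _ (hxM A)) (r21 hk) (hpool3 _ (hxM A)) [7, 13] (by decide +kernel)
theorem r78 : (p2M A).Pr 6 32387130 :=
  .link (q := 19767296) (f54 _ (hxM A)) (r21 hk) (hpool3 _ (hxM A)) [13, 2] (by decide +kernel)
theorem r112 : (p2M A).Pr 8 22642688 :=
  .link (q := 22642688) (f113 _ (hxM A)) (r21 hk) (hpool3 _ (hxM A)) [10, 1, 14, 1] (by decide +kernel)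
theorem r132 : (p2M A).Pr 10 30318592 :=
  .link (q := 30318592) (f163 _ (hxM A)) (r21 hk) (hpool3 _ (hxM A)) [10, 0, 6] (by decide +kernel)
theorem r159 : (p2M A).Pr 11 33316864 :=
  .link (q := 33316864) (f231 _ (hxM A)) (r21 hk) (hpool3 _ (hxM A)) [7, 0, 6] (by decide +kernel)
theorem r174 : (p2M A).Pr 11 26837432 :=
  .link (q := 32296960) (f276 _ (hxM A)) (r21 hk) (hpool3 _ (hxM A)) [7, 7] (by decide +kernel)
theorem r118 : (p2M A).Pr 9 16814080 :=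
  .link (q := 3555328) (f155 _ (hxM A)) (r34 hk) (hpool4 _ (hxM A)) [14, 13, 4] (by decide +kernel)
theorem r109 : (p2M A).Pr 8 2019328 :=
  .link (q := 18796544) (f113 _ (hxM A)) (r23 hk) (hpool3 _ (hxM A)) [2] (by decide +kernel)
theorem r67 : (p2M A).Pr 6 8219613 :=
  .link (q := 5545984) (f71 _ (hxM A)) (r58 hk) (hpool6 _ (hxM A)) [11] (by decide +kernel)
theorem r115 : (p2M A).Pr 8 16252672 :=
  .link (q := 16973824) (f142 _ (hxM A)) (r58 hk) (hpool6 _ (hxM A)) [1] (by decide +kernel)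
theorem r176 : (p2M A).Pr 11 32366724 :=
  .link (q := 21499904) (f291 _ (hxM A)) (r58 hk) (hpool6 _ (hxM A)) [0, 1] (by decide +kernel)

theorem hsr0 : ∀ y ∈ sd0, (p2M A).Pr 0 y :=
  PrL.cons r0 <| PrL.cons r1 <| PrL.cons (r2 hk) <| PrL.cons r3 <| PrL.cons r4 <|
  PrL.nil

theorem hsr1 : ∀ y ∈ sd1, (p2M A).Pr 1 y :=
  PrL.cons (r5 hk) <| PrL.cons (r6 hk) <| PrL.cons (r7 hk) <| PrL.cons (r8 hk) <| PrL.cons r9 <|
  PrL.nil

theorem hsr2 : ∀ y ∈ sd2, (p2M A).Pr 2 y :=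
  PrL.cons (r10 hk) <| PrL.cons (r11 hk) <| PrL.cons (r12 hk) <| PrL.cons (r13 hk) <|
  PrL.cons (r14 hk) <| PrL.cons (r15 hk) <| PrL.cons (r16 hk) <| PrL.cons (r17 hk) <| PrL.nil

theorem hsr3 : ∀ y ∈ sd3, (p2M A).Pr 3 y :=
  PrL.cons (r18 hk) <| PrL.cons (r19 hk) <| PrL.cons (r20 hk) <| PrL.cons (r21 hk) <|
  PrL.cons (r22 hk) <| PrL.cons (r23 hk) <| PrL.cons (r24 hk) <| PrL.cons (r25 hk) <|
  PrL.cons (r26 hk) <| PrL.cons (r27 hk) <| PrL.cons (r28 hk) <| PrL.cons (r29 hk) <|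
  PrL.cons (r30 hk) <| PrL.cons (r31 hk) <| PrL.cons (r32 hk) <| PrL.nil

theorem hsr4 : ∀ y ∈ sd4, (p2M A).Pr 4 y :=
  PrL.cons (r33 hk) <| PrL.cons (r34 hk) <| PrL.cons (r35 hk) <| PrL.cons (r36 hk) <|
  PrL.cons (r37 hk) <| PrL.cons (r38 hk) <| PrL.cons (r39 hk) <| PrL.cons (r40 hk) <|
  PrL.cons (r41 hk) <| PrL.nil

theorem hsr5 : ∀ y ∈ sd5, (p2M A).Pr 5 y :=
  PrL.cons (r42 hk) <| PrL.cons (r43 hk) <| PrL.cons (r44 hk) <| PrL.cons (r45 hk) <|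
  PrL.cons (r46 hk) <| PrL.cons (r47 hk) <| PrL.cons (r48 hk) <| PrL.cons (r49 hk) <|
  PrL.cons (r50 hk) <| PrL.cons (r51 hk) <| PrL.cons (r52 hk) <| PrL.cons (r53 hk) <|
  PrL.cons (r54 hk) <| PrL.cons (r55 hk) <| PrL.nil

theorem hsr6 : ∀ y ∈ sd6, (p2M A).Pr 6 y :=
  PrL.cons (r56 hk) <| PrL.cons (r57 hk) <| PrL.cons (r58 hk) <| PrL.cons (r59 hk) <|
  PrL.cons (r60 hk) <| PrL.cons (r61 hk) <| PrL.cons (r62 hk) <| PrL.cons (r63 hk) <|
  PrL.cons (r64 hk) <| PrL.cons (r65 hk) <| PrL.cons (r66 hk) <| PrL.cons (r67 hk) <|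
  PrL.cons (r68 hk) <| PrL.cons (r69 hk) <| PrL.cons (r70 hk) <| PrL.cons (r71 hk) <|
  PrL.cons (r72 hk) <| PrL.cons (r73 hk) <| PrL.cons (r74 hk) <| PrL.cons (r75 hk) <|
  PrL.cons (r76 hk) <| PrL.cons (r77 hk) <| PrL.cons (r78 hk) <| PrL.nil

theorem hsr7 : ∀ y ∈ sd7, (p2M A).Pr 7 y :=
  PrL.cons (r79 hk) <| PrL.cons (r80 hk) <| PrL.cons (r81 hk) <| PrL.cons (r82 hk) <|
  PrL.cons (r83 hk) <| PrL.cons (r84 hk) <| PrL.cons (r85 hk) <| PrL.cons (r86 hk) <|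
  PrL.cons (r87 hk) <| PrL.cons (r88 hk) <| PrL.cons (r89 hk) <| PrL.cons (r90 hk) <|
  PrL.cons (r91 hk) <| PrL.cons (r92 hk) <| PrL.cons (r93 hk) <| PrL.cons (r94 hk) <|
  PrL.cons (r95 hk) <| PrL.cons (r96 hk) <| PrL.nil

theorem hsr8 : ∀ y ∈ sd8, (p2M A).Pr 8 y :=
  PrL.cons (r97 hk) <| PrL.cons (r98 hk) <| PrL.cons (r99 hk) <| PrL.cons (r100 hk) <|
  PrL.cons (r101 hk) <| PrL.cons (r102 hk) <| PrL.cons (r103 hk) <| PrL.cons (r104 hk) <|
  PrL.cons (r105 hk) <| PrL.cons (r106 hk) <| PrL.cons (r107 hk) <| PrL.cons (r108 hk) <|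
  PrL.cons (r109 hk) <| PrL.cons (r110 hk) <| PrL.cons (r111 hk) <| PrL.cons (r112 hk) <|
  PrL.cons (r113 hk) <| PrL.cons (r114 hk) <| PrL.cons (r115 hk) <| PrL.nil

theorem hsr9 : ∀ y ∈ sd9, (p2M A).Pr 9 y :=
  PrL.cons (r116 hk) <| PrL.cons (r117 hk) <| PrL.cons (r118 hk) <| PrL.cons (r119 hk) <|
  PrL.cons (r120 hk) <| PrL.cons (r121 hk) <| PrL.cons (r122 hk) <| PrL.cons (r123 hk) <| PrL.nil

theorem hsr10 : ∀ y ∈ sd10, (p2M A).Pr 10 y :=
  PrL.cons (r124 hk) <| PrL.cons (r125 hk) <| PrL.cons (r126 hk) <| PrL.cons (r127 hk) <|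
  PrL.cons (r128 hk) <| PrL.cons (r129 hk) <| PrL.cons (r130 hk) <| PrL.cons (r131 hk) <|
  PrL.cons (r132 hk) <| PrL.cons (r133 hk) <| PrL.cons (r134 hk) <| PrL.cons (r135 hk) <|
  PrL.cons (r136 hk) <| PrL.cons (r137 hk) <| PrL.cons (r138 hk) <| PrL.cons (r139 hk) <|
  PrL.cons (r140 hk) <| PrL.cons (r141 hk) <| PrL.cons (r142 hk) <| PrL.cons (r143 hk) <|
  PrL.cons (r144 hk) <| PrL.nil

theorem hsr11 : ∀ y ∈ sd11, (p2M A).Pr 11 y :=
  PrL.cons (r145 hk) <| PrL.cons (r146 hk) <| PrL.cons (r147 hk) <| PrL.cons (r148 hk) <|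
  PrL.cons (r149 hk) <| PrL.cons (r150 hk) <| PrL.cons (r151 hk) <| PrL.cons (r152 hk) <|
  PrL.cons (r153 hk) <| PrL.cons (r154 hk) <| PrL.cons (r155 hk) <| PrL.cons (r156 hk) <|
  PrL.cons (r157 hk) <| PrL.cons (r158 hk) <| PrL.cons (r159 hk) <| PrL.cons (r160 hk) <|
  PrL.cons (r161 hk) <| PrL.cons (r162 hk) <| PrL.cons (r163 hk) <| PrL.cons (r164 hk) <|
  PrL.cons (r165 hk) <| PrL.cons (r166 hk) <| PrL.cons (r167 hk) <| PrL.cons (r168 hk) <|
  PrL.cons (r169 hk) <| PrL.cons (r170 hk) <| PrL.cons (r171 hk) <| PrL.cons (r172 hk) <|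
  PrL.cons (r173 hk) <| PrL.cons (r174 hk) <| PrL.cons (r175 hk) <| PrL.cons (r176 hk) <|
  PrL.cons (r177 hk) <| PrL.cons (r178 hk) <| PrL.cons (r179 hk) <| PrL.cons (r180 hk) <|
  PrL.cons (r181 hk) <| PrL.cons (r182 hk) <| PrL.nil

theorem all2M : ∀ i < nM.length, (p2M A).All i := by
  intro i hi
  change i < 12 at hi
  interval_cases i
  · exact .cl (hnM A) (hpool0 _ (hxM A)) Bmp.clSM_0 (hsr0 hk) (osd0 A)
      (by decide +kernel) rfl
  · exact .cl (hnM A) (hpool1 _ (hxM A)) Bmp.clSM_1 (hsr1 hk) (osd1 A)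
      (by decide +kernel) rfl
  · exact .cl (hnM A) (hpool2 _ (hxM A)) Bmp.clSM_2 (hsr2 hk) (osd2 A)
      (by decide +kernel) rfl
  · exact .cl (hnM A) (hpool3 _ (hxM A)) Bmp.clSM_3 (hsr3 hk) (osd3 A)
      (by decide +kernel) rfl
  · exact .cl (hnM A) (hpool4 _ (hxM A)) Bmp.clSM_4 (hsr4 hk) (osd4 A)
      (by decide +kernel) rfl
  · exact .cl (hnM A) (hpool5 _ (hxM A)) Bmp.clSM_5 (hsr5 hk) (osd5 A)
      (by decide +kernel) rfl
  · exact .cl (hnM A) (hpool6 _ (hxM A)) Bmp.clSM_6 (hsr6 hk) (osd6 A)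
      (by decide +kernel) rfl
  · exact .cl (hnM A) (hpool7 _ (hxM A)) Bmp.clSM_7 (hsr7 hk) (osd7 A)
      (by decide +kernel) rfl
  · exact .cl (hnM A) (hpool8 _ (hxM A)) Bmp.clSM_8 (hsr8 hk) (osd8 A)
      (by decide +kernel) rfl
  · exact .cl (hnM A) (hpool9 _ (hxM A)) Bmp.clSM_9 (hsr9 hk) (osd9 A)
      (by decide +kernel) rfl
  · exact .cl (hnM A) (hpool10 _ (hxM A)) Bmp.clSM_10 (hsr10 hk) (osd10 A)
      (by decide +kernel) rfl
  · exact .cl (hnM A) (hpool11 _ (hxM A)) Bmp.clSM_11 (hsr11 hk) (osd11 A)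
      (by decide +kernel) rfl

end Cfsg.Lib.Mon.CM
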