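import Cfsg.Agent.Mon.PairGood
import Cfsg.Agent.Mon.CEp1

/-! The Monster programme: orders of products of two axes, level E. -/

set_option autoImplicit false
set_option maxRecDepth 20000

namespace Cfsg.Lib.Mon.CE

open Cfsg.Lib.Mon.Cert Cfsg.Lib.Mon.Kit

variable {X : Type*} [Group X] (A : Am X)

theorem hax0 : (pxE A).Ax 0 (cp pT2) := Px.Ax.zero

/-- the axis of type 2 -/
noncomputable def ax2 : ℕ := th (cmul (cmul (cinv g5) (cp pT2)) g5)

theorem hax2 : (pxE A).Ax 2 (cmul (cmul h5 ax2) (cinv h5)) :=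
  Px.Ax.step (f5 _ (hxE A)) (hax0 A) (by decide +kernel)

theorem q0 : (pxE A).Pr 0 2605056 := .root (gkE A 1) (hax0 A) (by decide +kernel)
theorem q1 : (pxE A).Pr 0 19382272 := .root (gkE A 2) (hax0 A) (by decide +kernel)
theorem q3 : (pxE A).Pr 0 5423104 := .root (gkE A 2) (hax0 A) (by decide +kernel)
theorem q4 : (pxE A).Pr 0 3833856 := .root (gkE A 1) (hax0 A) (by decide +kernel)
theorem q6 : (pxE A).Pr 0 9367561 := .root (gkE A 4) (hax0 A) (by decide +kernel)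
theorem q17 : (pxE A).Pr 2 14176388 := .root (gkE A 2) (hax2 A) (by decide +kernel)
theorem q11 : (pxE A).Pr 1 32323845 :=
  .root' (q := 1396758) (gkE A 3) (f10 _ (hxE A)) (hax2 A) (by decide +kernel)
theorem q12 : (pxE A).Pr 1 32536837 :=
  .root' (q := 528406) (gkE A 3) (f10 _ (hxE A)) (hax2 A) (by decide +kernel)
theorem q2 : (pxE A).Pr 0 19386368 :=
  .link (q := 19386368) (f0 _ (hxE A)) (q1 A) (hpool0 _ (hxE A)) [] (by decide +kernel)
theorem q5 : (pxE A).Pr 0 20611072 :=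
  .link (q := 20611072) (f0 _ (hxE A)) (q3 A) (hpool0 _ (hxE A)) [7, 0, 1, 1] (by decide +kernel)
theorem q8 : (pxE A).Pr 1 31612928 :=
  .link (q := 31612928) (f2 _ (hxE A)) (q3 A) (hpool0 _ (hxE A)) [11, 10] (by decide +kernel)
theorem q16 : (pxE A).Pr 2 24653824 :=
  .link (q := 7876608) (f6 _ (hxE A)) (q3 A) (hpool0 _ (hxE A)) [9, 4] (by decide +kernel)
theorem q7 : (pxE A).Pr 1 26144768 :=
  .link (q := 9367552) (f2 _ (hxE A)) (q6 A) (hpool0 _ (hxE A)) [4, 8] (by decide +kernel)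
theorem q9 : (pxE A).Pr 1 23425024 :=
  .link (q := 6647808) (f2 _ (hxE A)) (q6 A) (hpool0 _ (hxE A)) [1, 10] (by decide +kernel)
theorem q14 : (pxE A).Pr 2 22323200 :=
  .link (q := 22323200) (f6 _ (hxE A)) (q6 A) (hpool0 _ (hxE A)) [10, 9] (by decide +kernel)
theorem q20 : (pxE A).Pr 3 9089024 :=
  .link (q := 25866240) (f14 _ (hxE A)) (q17 A) (hpool2 _ (hxE A)) [9] (by decide +kernel)
theorem q22 : (pxE A).Pr 3 21623328 :=
  .link (q := 9089024) (f17 _ (hxE A)) (q11 A) (hpool1 _ (hxE A)) [11] (by decide +kernel)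
theorem q26 : (pxE A).Pr 4 32522240 :=
  .link (q := 32522240) (f22 _ (hxE A)) (q11 A) (hpool1 _ (hxE A)) [9, 7] (by decide +kernel)
theorem q28 : (pxE A).Pr 4 24653824 :=
  .link (q := 7876608) (f22 _ (hxE A)) (q11 A) (hpool1 _ (hxE A)) [2, 1, 8] (by decide +kernel)
theorem q21 : (pxE A).Pr 3 22327840 :=
  .link (q := 9957376) (f17 _ (hxE A)) (q12 A) (hpool1 _ (hxE A)) [11] (by decide +kernel)
theorem q24 : (pxE A).Pr 4 32309248 :=
  .link (q := 32309248) (f22 _ (hxE A)) (q12 A) (hpool1 _ (hxE A)) [9, 7] (by decide +kernel)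
theorem q30 : (pxE A).Pr 4 23425024 :=
  .link (q := 6647808) (f22 _ (hxE A)) (q12 A) (hpool1 _ (hxE A)) [2, 1, 8] (by decide +kernel)
theorem q10 : (pxE A).Pr 1 27623424 :=
  .link (q := 27623424) (f2 _ (hxE A)) (q2 A) (hpool0 _ (hxE A)) [] (by decide +kernel)
theorem q15 : (pxE A).Pr 2 21987328 :=
  .link (q := 21987328) (f6 _ (hxE A)) (q2 A) (hpool0 _ (hxE A)) [0, 3] (by decide +kernel)
theorem q29 : (pxE A).Pr 4 6647808 :=
  .link (q := 23425024) (f22 _ (hxE A)) (q8 A) (hpool1 _ (hxE A)) [10, 1, 0] (by decide +kernel)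
theorem q13 : (pxE A).Pr 1 23506938 :=
  .link (q := 5713920) (f11 _ (hxE A)) (q7 A) (hpool1 _ (hxE A)) [11] (by decide +kernel)
theorem q23 : (pxE A).Pr 4 6643712 :=
  .link (q := 6643712) (f22 _ (hxE A)) (q7 A) (hpool1 _ (hxE A)) [0] (by decide +kernel)
theorem q25 : (pxE A).Pr 4 7872512 :=
  .link (q := 7872512) (f22 _ (hxE A)) (q9 A) (hpool1 _ (hxE A)) [5, 1] (by decide +kernel)
theorem q18 : (pxE A).Pr 3 7876608 :=
  .link (q := 24653824) (f14 _ (hxE A)) (q14 A) (hpool2 _ (hxE A)) [5, 4, 8] (by decide +kernel)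
theorem q19 : (pxE A).Pr 3 32890880 :=
  .link (q := 32890880) (f14 _ (hxE A)) (q14 A) (hpool2 _ (hxE A)) [0, 5, 5] (by decide +kernel)
theorem q27 : (pxE A).Pr 4 7876608 :=
  .link (q := 24653824) (f22 _ (hxE A)) (q10 A) (hpool1 _ (hxE A)) [9, 1] (by decide +kernel)
theorem q31 : (pxE A).Pr 4 12697920 :=
  .link (q := 21987328) (f28 _ (hxE A)) (q23 A) (hpool4 _ (hxE A)) [4, 8] (by decide +kernel)

theorem hT : ∀ c ∈ pool0 ++ pool1, ∃ s, R c s ∧ s ∈ (pxE A).C.S.L := fun c hc =>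
  (List.mem_append.1 hc).elim (fun h => (hpool0 _ (hxE A) c h).imp fun _ h => ⟨h.1, h.2.1⟩)
    fun h => (hpool1 _ (hxE A) c h).imp fun _ h => ⟨h.1, h.2.1⟩

/-- orbit representatives of the stabiliser of type 0 -/
def sd0 : List ℕ := [
  2605056, 19382272, 19386368, 5423104, 3833856, 20611072, 9367561]

theorem hsd0 : ∀ y ∈ sd0, (pxE A).Pr 0 y :=
  PrL.cons (q0 A) <| PrL.cons (q1 A) <| PrL.cons (q2 A) <| PrL.cons (q3 A) <| PrL.cons (q4 A) <|
  PrL.cons (q5 A) <| PrL.cons (q6 A) <| PrL.nil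

theorem osd0 : ∀ y ∈ sd0, y ∈ Orb (pxE A).C.S.L pT2 := Px.chkO_spec (hT A) (by decide) (W := [
  [], [15, 4, 15], [13, 2, 22], [10, 1, 23], [22, 4, 4, 12, 18], [20, 8, 7, 12, 18],
  [20, 4, 0, 12]]) (by decide +kernel)

/-- orbit representatives of the stabiliser of type 1 -/
def sd1 : List ℕ := [
  26144768, 31612928, 23425024, 27623424, 32323845, 32536837, 23506938]

theorem hsd1 : ∀ y ∈ sd1, (pxE A).Pr 1 y :=
  PrL.cons (q7 A) <| PrL.cons (q8 A) <| PrL.cons (q9 A) <| PrL.cons (q10 A) <|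
  PrL.cons (q11 A) <| PrL.cons (q12 A) <| PrL.cons (q13 A) <| PrL.nil

theorem osd1 : ∀ y ∈ sd1, y ∈ Orb (pxE A).C.S.L pT2 := Px.chkO_spec (hT A) (by decide) (W := [
  [19, 14], [10, 10, 20], [11, 16, 7, 21], [10, 7, 21, 9, 15], [13, 10, 22, 13], [4, 22, 7, 21],
  [19, 0, 7, 12]]) (by decide +kernel)

/-- orbit representatives of the stabiliser of type 2 -/
def sd2 : List ℕ := [
  22323200, 21987328, 24653824, 14176388]

theorem hsd2 : ∀ y ∈ sd2, (pxE A).Pr 2 y :=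
  PrL.cons (q14 A) <| PrL.cons (q15 A) <| PrL.cons (q16 A) <| PrL.cons (q17 A) <| PrL.nil

theorem osd2 : ∀ y ∈ sd2, y ∈ Orb (pxE A).C.S.L pT2 := Px.chkO_spec (hT A) (by decide) (W := [
  [8, 19, 11, 21], [17, 11, 19, 9, 13], [6, 12], [17, 19, 9, 14]]) (by decide +kernel)

/-- orbit representatives of the stabiliser of type 3 -/
def sd3 : List ℕ := [
  7876608, 32890880, 9089024, 22327840, 21623328]

theorem hsd3 : ∀ y ∈ sd3, (pxE A).Pr 3 y :=
  PrL.cons (q18 A) <| PrL.cons (q19 A) <| PrL.cons (q20 A) <| PrL.cons (q21 A) <|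
  PrL.cons (q22 A) <| PrL.nil

theorem osd3 : ∀ y ∈ sd3, y ∈ Orb (pxE A).C.S.L pT2 := Px.chkO_spec (hT A) (by decide) (W := [
  [1, 10, 12], [4, 7, 13], [18, 7, 15], [11, 6, 15], [22, 23, 0, 15]]) (by decide +kernel)

/-- orbit representatives of the stabiliser of type 4 -/
def sd4 : List ℕ := [
  6643712, 32309248, 7872512, 32522240, 7876608, 24653824, 6647808, 23425024, 12697920]

theorem hsd4 : ∀ y ∈ sd4, (pxE A).Pr 4 y :=
  PrL.cons (q23 A) <| PrL.cons (q24 A) <| PrL.cons (q25 A) <| PrL.cons (q26 A) <|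
  PrL.cons (q27 A) <| PrL.cons (q28 A) <| PrL.cons (q29 A) <| PrL.cons (q30 A) <|
  PrL.cons (q31 A) <| PrL.nil

theorem osd4 : ∀ y ∈ sd4, y ∈ Orb (pxE A).C.S.L pT2 := Px.chkO_spec (hT A) (by decide) (W := [
  [6, 17, 4, 9, 12], [20], [14, 7, 15], [12, 8, 20, 9, 18], [1, 10, 12], [6, 12],
  [20, 5, 21, 0, 12], [11, 16, 7, 21], [11, 17, 8, 16]]) (by decide +kernel)

end Cfsg.Lib.Mon.CE
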