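import Cfsg.Agent.Mon.UQInv

/-! Involutions of `GH / ⟨cc⟩` outside `Q` are conjugate into the triality image of `Q`. -/

set_option autoImplicit false

namespace Cfsg.Lib.Mon.SB

open Cfsg Subgroup Cfsg.Lib.Spor Cfsg.Lib.Spor.CK Cfsg.Lib.Spor.Bulk Cfsg.Lib.SporChar Kit UQ

/-- If `g` is an involution modulo `cc`, a conjugate of `g` is carried into `Q` by triality. -/
def Nq (g : GH) : Prop := g * g ∈ zpowers cc → ∃ k m, m ∈ QH ∧ (k * g * k⁻¹, m) ∈ NP

theorem Nq.of_conj {g : GH} (k : GH) (h : Nq (k * g * k⁻¹)) : Nq g := fun h2 => by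
  obtain ⟨u, m, hm, e⟩ := h (by rw [conj_mul]; exact zpowers_cc_normal.conj_mem _ h2 k)
  exact ⟨u * k, m, hm, by simpa only [mul_inv_rev, mul_assoc] using e⟩

theorem Nq.of_cc {g : GH} (h : Nq (cc * g)) : Nq g := fun h2 => by
  obtain ⟨u, m, hm, e⟩ := h (by
    rw [mul_assoc, ← mul_assoc g, cc_comm, mul_assoc, ← mul_assoc, cc_mul_cc, one_mul]; exact h2)
  refine ⟨u, m, hm, ?_⟩
  have := NP_cc_left e
  rwa [← mul_assoc u, cc_comm u, mul_assoc cc u, mul_assoc cc, ← mul_assoc cc, cc_mul_cc,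
    one_mul] at this

/-- All elements `pq p' * n` with `p'` in the class of `p` are good. -/
def NqC (n : GH) (p : ℕ) : Prop := ∀ p', p' % 2 ^ 24 = p % 2 ^ 24 → Nq (pq p' * n)

theorem NqC.congr {n : GH} {p q : ℕ} (e : p % 2 ^ 24 = q % 2 ^ 24) (h : NqC n q) : NqC n p :=
  fun p' e' => h p' (e'.trans e)

theorem NqC.stepQ {n : GH} {p : ℕ} (q : ℕ) (h : NqC n (p ^^^ q ^^^ φ n q)) : NqC n p :=
  fun p' e => by
  obtain ⟨q', e1, e2⟩ := exists_pq_inv q
  refine Nq.of_conj (pq q) ?_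
  rw [e2, mul_assoc, mul_assoc, mul_pq, ← mul_assoc, ← mul_assoc, pq_mul, pq_mul]
  refine h _ ?_
  simp only [pmul_mod, Nat.xor_mod_two_pow, e, φ_congr_mod n e1]
  ac_rfl

theorem NqC.stepH {n h : GH} {p c : ℕ}
    (e : h * n = pq c * (n * h) ∨ h * n = cc * (pq c * (n * h)))
    (H : NqC n (φ h p ^^^ c)) : NqC n p := fun p' e' => by
  refine Nq.of_conj h ?_
  have h0 := H (pmul (φ h p') c) (by rw [pmul_mod, Nat.xor_mod_two_pow, φ_congr_mod h e'])
  rw [← mul_assoc h, mul_pq, mul_assoc (pq _)]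
  rw [← pq_mul] at h0
  rcases e with e | e <;> rw [e]
  · convert h0 using 1; group
  · refine Nq.of_cc ?_
    rw [← mul_assoc (pq _) cc, cc_comm, mul_assoc cc, mul_assoc cc, ← mul_assoc cc, cc_mul_cc, one_mul]
    convert h0 using 1; group

theorem nqC_of_NP {n m : GH} (e : (n, m) ∈ NP) (hm : m ∈ QH) {p : ℕ} (hp : p % 4096 = 0) :
    NqC n p := fun p' e' _ => by
  rw [← pq_mod]
  exact ⟨1, _, mul_mem (pq_mem_QH _) hm, by
    simpa using NP_mul (NP_diag _ (Nat.mod_lt p' (by norm_num)) (by omega)) e⟩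

theorem nqC_of_sq {n : GH} {p : ℕ} (h : pq p * n * (pq p * n) ∉ zpowers cc) : NqC n p :=
  fun p' e h2 => by
  refine absurd ?_ h
  rcases pq_eq_or_of_mod e with e | e <;> rw [e] at h2
  · exact h2
  · rwa [show pq pZ * pq p * n * (pq pZ * pq p * n) = pq p * n * pq pZ * pq pZ * (pq p * n) by
      rw [pZ_comm (pq p * n)]; simp only [mul_assoc], mul_assoc (pq p * n) (pq pZ), pZ_mul_pZ,
      mul_one] at h2

theorem nq_of_fixB {n : GH} (hn : n * n ∈ center GH) {F : ℕ}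
    {Qs Rs Is : List ℕ} (h : fixB F Qs Rs Is = true) (hF : ∀ k < 24, φ n (2 ^ k) = tk F k)
    (H : ∀ i < 2 ^ Rs.length, NqC n (xorComb Rs i)) {g : GH} (hg : IsConj (pr1 n) (pr1 g)) :
    Nq g := by
  have key : ∀ g : GH, pr g = pr n → Nq g := fun g e h2 => by
    obtain ⟨p, -, hp⟩ := mem_QH.1 (mem_QH'.2 (show pr (g * n⁻¹) = 1 by simp [e]))
    obtain rfl : g = pq p * n := by rw [← hp]; group
    have h3 : pq p * n * (pq p * n) ∈ center GH := zpowers_le.2 cc_mem_center h2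
    rw [mul_assoc, ← mul_assoc n, mul_pq, mul_assoc, ← mul_assoc, pq_mul,
      (center GH).mul_mem_cancel_right hn] at h3
    have h4 : pmul p (φ n p) % 2 ^ 24 = 0 := by
      by_contra h5
      obtain ⟨k, -, hk⟩ := exists_pcomm h5
      rw [pq_comm_iff.1 (mem_center_iff.1 h3 _)] at hk
      omega
    rw [pmul_mod, Nat.xor_eq_zero_iff] at h4
    obtain ⟨q, i, hi, e⟩ := fixB_spec h hF h4.symm
    exact NqC.stepQ q ((H i hi).congr e) p rfl h2
  obtain ⟨k, e⟩ := isConj_iff.1 hg.symm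
  obtain ⟨k, rfl⟩ := pr1_surj k
  refine Nq.of_conj k ?_
  rw [← map_inv, ← map_mul, ← map_mul] at e
  rcases toCo1_eq_iff.1 e with e | e
  · exact key _ e
  · exact Nq.of_cc (key _ (by rw [map_mul, e, pr_cc, ← mul_assoc, co0Neg_mul_self, one_mul]))

theorem nqC_run (n : ℕ) : ∀ w p, run n w p = true → NqC (el rYb) p := by
  induction n with
  | zero => intro w p h; exact absurd h Bool.false_ne_true
  | succ n ih =>
    intro w p h
    change seq p (Nat.rec (Nat.beq (p % 4096) 0 || Nat.beq (p % 4096) 2)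
      (fun _ _ => run n (w / 4) (tmul 1 (tG (w % 4)) p ^^^ cG (w % 4))) (w % 4)) = true at h
    rw [seq_eq] at h
    have hw : w % 4 < 4 := Nat.mod_lt _ (by norm_num)
    generalize w % 4 = i at h hw
    rcases i with _ | i
    · obtain h2 | h2 : p % 4096 = 0 ∨ p % 4096 = 2 := by simpa using h
      · exact nqC_of_NP NP_yb (pq_mem_QH _) h2
      · refine NqC.stepQ 1 (nqC_of_NP NP_yb (pq_mem_QH _) ?_)
        have h3 := Nat.eq_of_beq_eq_true chkY.2.2.2.2
        rw [tmul_one tb_Y] at h3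
        rw [← h3, show 4096 = 2 ^ 12 from rfl] at *
        simp only [Nat.xor_mod_two_pow, h2]
    · obtain ⟨g, hg, e⟩ := exists_gen (Nat.succ_ne_zero i) hw
      exact NqC.stepH e (tmul_one hg p ▸ ih _ _ h)

theorem nq_oct {g : GH} (hg : IsConj Co.F1.z (pr1 g)) : Nq g := by
  refine nq_of_fixB (Yb_sq ▸ one_mem _) chkY.2.2.1 tb_Y (fun i hi => ?_) (isConj_Yb.symm.trans hg)
  have h := allR_zero_iff.1 chkY.2.2.2.1 i hi
  generalize xorComb rY i = p at h
  dsimp only at h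
  rw [tmul_one tb_Y] at h
  by_cases h0 : pmul p (φ (el rYb) p) % 2 ^ 25 = 0
  · rw [h0] at h
    exact nqC_run _ _ _ h
  · refine nqC_of_sq fun h1 => h0 ?_
    rw [mul_assoc, ← mul_assoc (el rYb), mul_pq, mul_assoc, Yb_sq, mul_one, pq_mul, ← pq_mod] at h1
    exact pq_inj (Nat.mod_lt _ (by norm_num)) (by norm_num)
      ((eq_one_of_mem_QH (pq_mem_QH _) h1).trans pq_zero.symm)

theorem nq_dod {g : GH} (hg : IsConj (toCo1 Co.u0) (pr1 g)) : Nq g := by
  have hR := R_nD.Pmul' 0x2000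
  obtain ⟨h1, h2⟩ := chkD
  have hs := (wEl_spec wS).2
  have hA : pr (pq 0x2000 * UQ.nD) ∈ Co.A0 := by
    obtain ⟨⟨σ, e⟩, -⟩ := mem_EstS.1 hs
    have : pr (el rYb) ∈ Co.A0 := by rw [pr_apply, Yb_snd]; exact Co.sg_mem _
    rw [map_mul, pr_pq, one_mul, UQ.nD, map_mul, map_mul, map_mul, map_inv]
    exact mul_mem this (Co.conj_mem_A0 (by rw [pr_apply, e]; exact Co.perm_mem _) this)
  obtain ⟨c, hc⟩ := Co.mem_A0.1 hA
  have h12 : c.1.card = 12 := by
    have h3 := Co.tr8_sg c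
    rw [hc, Co.tr8_cm, pr_apply, hR.mat_eq, Nat.eq_of_beq_eq_true (band_right (band_left h1))] at h3
    omega
  refine nq_of_fixB (mem_center_GH.2 (of_φ_trivial fun k hk => ?_)) h2
    (tb_of hR (band_left (band_left h1))) (fun i _ => ?_)
    ((toCo1.map_isConj (hc ▸ Co.isConj_dod h12 : IsConj Co.u0 (pr _))).symm.trans hg)
  · rw [tb_of (hR.mul hR) (band_right h1) k hk, tk_ID k hk]
  · exact nqC_of_NP (NP_mul (NP_diag 0x2000 (by norm_num) rfl) (NP_mul NP_yb (NP_mul (NP_mul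
      (NP_Est hs) NP_yb) (NP_inv (NP_Est hs))))) (mul_mem (pq_mem_QH _) (mul_mem (pq_mem_QH _)
        (QH_normal.conj_mem _ (pq_mem_QH _) _))) rfl

theorem nq_v {g : GH} (hg : IsConj (toCo1 Co.v0) (pr1 g)) : Nq g := by
  have hR := (R_nD.mul R_S1).Pmul' 0x472
  obtain ⟨h1, h2⟩ := chkV
  have hsq := (hR.mul hR).beq (R_cp' pZ).neg (band_right h1)
  have hT := tb_of hR (band_left h1)
  generalize pq 0x472 * (UQ.nD * el rS1) = n at hsq hT
  have h3 : pr n * pr n = co0Neg := by rw [← map_mul, hsq, map_mul, pr_cc, pr_pq, mul_one]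
  have h4 : IsConj Co.v0 (pr n) := by
    refine (Co.sq_cases (by rw [h3, toCo1_neg])).resolve_left ?_
    rintro ⟨a, ha, e⟩
    obtain ⟨k, e⟩ := isConj_iff.1 e
    rw [← e, conj_mul, Co.A0_sq ha, mul_one, mul_inv_cancel] at h3
    exact cc_notMem_QH (mem_QH'.2 (pr_cc.trans h3.symm))
  refine nq_of_fixB (hsq ▸ mul_mem cc_mem_center pZ_mem_center) h2 hT (fun i _ => ?_)
    ((toCo1.map_isConj h4).symm.trans hg)
  refine nqC_of_sq fun h5 => pZ_ne_one (eq_one_of_mem_QH (pq_mem_QH _) ?_)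
  rwa [xorComb_nil, pq_zero, one_mul, hsq, (zpowers cc).mul_mem_cancel_left (mem_zpowers cc)] at h5

/-- An involution modulo `cc` outside `Q ⟨cc⟩` is conjugate into the triality image of `Q`. -/
theorem exists_NP_of_sq {g : GH} (h2 : g * g ∈ zpowers cc) (h0 : pr1 g ≠ 1) :
    ∃ k p, p < 2 ^ 25 ∧ (k * g * k⁻¹, pq p) ∈ NP := by
  have h3 : pr1 g * pr1 g = 1 := by
    rw [← map_mul]
    rcases mem_zpowers_cc.1 h2 with e | e <;> rw [e]
    · exact map_one _
    · exact pr1_eq_one.2 (Or.inr pr_cc)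
  obtain ⟨k, m, hm, e⟩ : ∃ k m, m ∈ QH ∧ (k * g * k⁻¹, m) ∈ NP := by
    rcases Co.invol_cases h3 h0 with h | h | h
    exacts [nq_oct h h2, nq_dod h h2, nq_v h h2]
  obtain ⟨p, hp, rfl⟩ := mem_QH.1 hm
  exact ⟨k, p, hp, e⟩

end Cfsg.Lib.Mon.SB
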