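import Cfsg.Agent.Mon.GOrb

/-! A dihedral lemma and a lemma on sublattices of the Leech lattice without short vectors. -/

set_option autoImplicit false

namespace Cfsg.Lib.Mon.SB

open Cfsg Subgroup Cfsg.Lib.Spor Cfsg.Lib.Spor.CK

theorem dihedral {G : Type*} [Group G] [Finite G] {Q Q' X X' T : Subgroup G} {a b : G}
    (ha : a * a = 1) (hb : b * b = 1) (aQ : a ∈ Q) (bQ : b ∈ Q') (hT : a * b ∈ T)
    (hQ : Q ≤ X) (hQ' : Q' ≤ X') (h1 : ∀ g ∈ T, g * a * g⁻¹ ∈ Q → g ∈ X)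
    (h1' : ∀ g ∈ T, g * b * g⁻¹ ∈ Q' → g ∈ X')
    (h2 : ∀ g ∈ T, ∀ x, x = g * a * g⁻¹ ∨ x = g * b * g⁻¹ → (x ∈ X → x ∈ Q) ∧ (x ∈ X' → x ∈ Q')) :
    ∃ g ∈ T, g * a * g⁻¹ * b ∈ Q ⊓ Q' := by
  set r := a * b with hr
  have ia : a⁻¹ = a := inv_eq_of_mul_eq_one_right ha
  have ib : b⁻¹ = b := inv_eq_of_mul_eq_one_right hb
  have sa : ∀ i : ℕ, a * (r ^ i)⁻¹ = r ^ i * a := fun i => by
    rw [← inv_pow]
    exact SemiconjBy.pow_right (show a * r⁻¹ = r * a by rw [hr, mul_inv_rev, ia, ib, mul_assoc]) i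
  have sb : ∀ i : ℕ, b * (r ^ i)⁻¹ = r ^ i * b := fun i => by
    rw [← inv_pow]
    exact SemiconjBy.pow_right (show b * r⁻¹ = r * b by
      rw [hr, mul_inv_rev, ia, ib, ← mul_assoc, hb, mul_assoc, hb, mul_one, one_mul]) i
  have ea : ∀ i : ℕ, r ^ (2 * i) * a = r ^ i * a * (r ^ i)⁻¹ := fun i => by
    rw [mul_assoc, sa, two_mul, pow_add, mul_assoc]
  have eb : ∀ i : ℕ, r ^ (2 * i) * b = r ^ i * b * (r ^ i)⁻¹ := fun i => by
    rw [mul_assoc, sb, two_mul, pow_add, mul_assoc]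
  have ob : ∀ i : ℕ, r ^ (2 * i + 1) * b = r ^ i * a * (r ^ i)⁻¹ := fun i => by
    rw [← ea, pow_succ, mul_assoc, hr, mul_assoc a, hb, mul_one]
  have oa : ∀ i : ℕ, r ^ (2 * i + 1) * a = r ^ (i + 1) * b * (r ^ (i + 1))⁻¹ := fun i => by
    rw [← eb, show 2 * (i + 1) = 2 * i + 1 + 1 by ring, pow_succ r (2 * i + 1), mul_assoc, hr,
      mul_assoc a, hb, mul_one]
  have hp : ∀ i : ℕ, r ^ i ∈ T := pow_mem hT
  have key : ∀ m, 0 < m → r ^ m ∈ Q ⊓ Q' → ∃ g ∈ T, g * a * g⁻¹ * b ∈ Q ⊓ Q' := fun m => by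
    induction m using Nat.strong_induction_on with
    | _ m ih =>
      intro h0 hm
      obtain ⟨j, rfl | rfl⟩ := Nat.even_or_odd' m
      · have x1 := h1 _ (hp j) (ea j ▸ mul_mem hm.1 aQ)
        have x2 := h1' _ (hp j) (eb j ▸ mul_mem hm.2 bQ)
        refine ih j (by omega) (by omega) ⟨(mul_mem_cancel_right aQ).1 ?_,
          (mul_mem_cancel_right bQ).1 ?_⟩
        · obtain ⟨i, rfl | rfl⟩ := Nat.even_or_odd' j
          exacts [(h2 _ (hp _) _ (Or.inl (ea i))).1 (mul_mem x1 (hQ aQ)),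
            (h2 _ (hp _) _ (Or.inr (oa i))).1 (mul_mem x1 (hQ aQ))]
        · obtain ⟨i, rfl | rfl⟩ := Nat.even_or_odd' j
          exacts [(h2 _ (hp _) _ (Or.inr (eb i))).2 (mul_mem x2 (hQ' bQ)),
            (h2 _ (hp _) _ (Or.inl (ob i))).2 (mul_mem x2 (hQ' bQ))]
      · exact ⟨_, hp j, by rwa [← ob, mul_assoc, hb, mul_one]⟩
  exact key _ (orderOf_pos r) (by rw [pow_orderOf_eq_one]; exact one_mem _)

theorem cg_zero_of_dt {x : leechLattice} (h : ∀ y, (16 : ℤ) ∣ dt y x) : Cg x 0 := by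
  rw [← cls_eq_iff, cls_zero]
  by_contra hn
  obtain ⟨k, hk, e⟩ := exists_pcomm (p := cls x) (by rwa [cls_mod])
  have h1 := pcomm_cls (Lv k) x
  have h2 := h (Lv k)
  rw [cls_Lv hk, e] at h1
  omega

theorem Cg.nm_mod {x y : leechLattice} (h : Cg x y) : nm x % 32 = nm y % 32 := by
  obtain ⟨w, rfl⟩ := h
  have h2 := eight_dvd_dt y w
  have h3 := sixteen_dvd_nm w
  rw [nm_add, nm_add, dt_add_right, dt_self]
  omega

theorem Cg.mem {S : AddSubgroup leechLattice} (h2 : ∀ w, w + w ∈ S) {x y : leechLattice}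
    (h : Cg x y) (hy : y ∈ S) : x ∈ S := by
  obtain ⟨w, rfl⟩ := h
  exact S.add_mem hy (h2 w)

theorem lat_false (S : AddSubgroup leechLattice) (h2 : ∀ w, w + w ∈ S)
    (hs : ∀ x ∈ S, nm x ≠ 32) (ht : ∀ x y, x ∉ S → y ∉ S → 32 ∣ nm x → 32 ∣ nm y →
      ∃ b : Co0, (∀ s ∈ S, Cg (b • s) s) ∧ b • x - y ∈ S) : False := by
  have ns : ∀ x, nm x = 32 → x ∉ S := fun x hx h => hs x h hx
  have inv : ∀ {b : Co0}, (∀ s ∈ S, Cg (b • s) s) → ∀ x, ∀ s ∈ S,
      dt (b • x) s % 16 = dt x s % 16 := fun {b} hb x s h => by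
    rw [← (hb s h).dt_mod, dt_smul]
  let W : AddSubgroup leechLattice :=
    { carrier := {x | ∃ s ∈ S, ∀ s' ∈ S, (16 : ℤ) ∣ dt (x - s) s'}
      zero_mem' := ⟨0, S.zero_mem, fun s' _ => by
        rw [sub_zero, show dt 0 s' = 0 from dotInt_zero_left _]; exact dvd_zero _⟩
      add_mem' := by
        rintro a b ⟨s, h1, h3⟩ ⟨s', h1', h3'⟩
        exact ⟨_, S.add_mem h1 h1', fun y hy => by
          rw [show a + b - (s + s') = a - s + (b - s') by abel, dt_add_left]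
          exact dvd_add (h3 y hy) (h3' y hy)⟩
      neg_mem' := by
        rintro a ⟨s, h1, h3⟩
        exact ⟨_, S.neg_mem h1, fun y hy => by
          rw [show -a - -s = -(a - s) by abel, dt_neg_left]; exact (h3 y hy).neg_right⟩ }
  have w1 : ∀ x y, nm x = 32 → nm y = 32 → x - y ∈ W := fun x y hx hy => by
    obtain ⟨b, b1, b2⟩ := ht x y (ns x hx) (ns y hy) (by omega) (by omega)
    refine ⟨_, b2, fun s h => ?_⟩
    have := inv b1 x s h
    simp only [dt_sub_left]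
    omega
  have hW : W = ⊤ := eq_top_of_Min fun x hx => by
    have := W.add_mem (w1 x (uT - uT2) hx (by decide +kernel)) (w1 _ _ nm_uT nm_uT2)
    rwa [sub_add_cancel] at this
  have dec : ∀ x, ∃ u, x - u ∈ S ∧ ∀ s ∈ S, (16 : ℤ) ∣ dt u s := fun x => by
    obtain ⟨s, h1, h3⟩ : x ∈ W := hW ▸ AddSubgroup.mem_top x
    exact ⟨x - s, by rwa [sub_sub_cancel], h3⟩
  have perp : ∀ x, (∀ s ∈ S, (16 : ℤ) ∣ dt x s) →
      (∀ u, (∀ s ∈ S, (16 : ℤ) ∣ dt u s) → (16 : ℤ) ∣ dt u x) → Cg x 0 := fun x a b =>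
    cg_zero_of_dt fun y => by
      obtain ⟨u, u1, u2⟩ := dec y
      have k1 := a _ u1
      have k2 := b u u2
      rw [dt_comm, dt_sub_left] at k1
      omega
  have nd : ∀ x ∈ S, (∀ s ∈ S, (16 : ℤ) ∣ dt x s) → Cg x 0 := fun x h a => perp x a fun u b => b x h
  obtain ⟨s1, h1, n1⟩ : ∃ s ∈ S, ¬ 32 ∣ nm s := by
    by_contra! hn
    have h0 : ∀ s ∈ S, Cg s 0 := fun s h => nd s h fun s' h' => by
      have := hn _ (S.add_mem h h')
      have := hn _ h
      have := hn _ h'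
      rw [nm_add] at *
      omega
    obtain ⟨b, -, b2⟩ := ht uT (e8 none) (ns _ nm_uT)
      (fun h => not_cg_zero (by rw [nm_e8]; omega) (nm_e8 _).le (h0 _ h)) (by rw [nm_uT])
      (by rw [nm_e8]; omega)
    have := (h0 _ b2).add (Cg.refl (e8 none))
    rw [sub_add_cancel, zero_add] at this
    rcases this.eq_of_Min ((nm_smul _ _).trans nm_uT) (nm_e8 _).le with e | e <;>
      have := nm_e8 none <;> rw [e] at this <;> simp only [nm_neg, nm_smul, nm_uT] at this <;> omega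
  have cst : ∀ u u', (∀ s ∈ S, (16 : ℤ) ∣ dt u s) → (∀ s ∈ S, (16 : ℤ) ∣ dt u' s) → ¬ Cg u 0 →
      ¬ Cg u' 0 → nm u % 32 = nm u' % 32 := fun u u' a a' n n' => by
    have k : ∀ u, (∀ s ∈ S, (16 : ℤ) ∣ dt u s) → ¬ Cg u 0 → ∃ s ∈ S, u + s ∉ S ∧ 32 ∣ nm (u + s) :=
      fun u a n => by
        have m : ∀ s ∈ S, u + s ∉ S := fun s h e => n (nd u ((S.add_mem_cancel_right h).1 e) a)
        by_cases e : 32 ∣ nm u
        · exact ⟨0, S.zero_mem, m _ S.zero_mem, by rwa [add_zero]⟩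
        · have := sixteen_dvd_nm u
          have := sixteen_dvd_nm s1
          have := a s1 h1
          exact ⟨s1, h1, m _ h1, by rw [nm_add]; omega⟩
    obtain ⟨s, b1, b2, b3⟩ := k u a n
    obtain ⟨s', c1, c2, c3⟩ := k u' a' n'
    obtain ⟨b, d1, d2⟩ := ht _ _ b2 c2 b3 c3
    have e := (nd (b • u - u') (by
      have := S.sub_mem (S.add_mem d2 c1) (Cg.mem h2 (d1 s b1) b1)
      rwa [co0_smul_add, show b • u + b • s - (u' + s') + s' - b • s = b • u - u' by abel] at this)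
      fun s h => by
        have := inv d1 u s h
        have := a s h
        have := a' s h
        rw [dt_sub_left]; omega).add (Cg.refl u')
    rw [sub_add_cancel, zero_add] at e
    rw [← Cg.nm_mod e, nm_smul]
  choose u u1 u2 using dec
  let v : Fin 4 → leechLattice := fun i => fourDiff (some 0) (some (i.1 + 1 : ℕ))
  have hv : (∀ i, nm (v i) = 32) ∧ ∀ i j, i ≠ j → nm (v i - v j) = 32 := by decide +kernel
  have n0 : ∀ i, ¬ Cg (u (v i)) 0 := fun i e => ns _ (hv.1 i) (by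
    have := S.add_mem (u1 (v i)) (Cg.mem h2 e S.zero_mem)
    rwa [sub_add_cancel] at this)
  have n2 : ∀ i j, i ≠ j → ¬ Cg (u (v i) - u (v j)) 0 := fun i j h e => ns _ (hv.2 i j h) (by
    have := S.add_mem (S.sub_mem (u1 (v i)) (u1 (v j))) (Cg.mem h2 e S.zero_mem)
    rwa [show v i - u (v i) - (v j - u (v j)) + (u (v i) - u (v j)) = v i - v j by abel] at this)
  have ps : ∀ {x y}, (∀ s ∈ S, (16 : ℤ) ∣ dt x s) → (∀ s ∈ S, (16 : ℤ) ∣ dt y s) →
      ∀ s ∈ S, (16 : ℤ) ∣ dt (x - y) s := fun a b s h => by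
    rw [dt_sub_left]; exact dvd_sub (a s h) (b s h)
  by_cases c : 32 ∣ nm (u (v 0))
  · have z : ∀ x, (∀ s ∈ S, (16 : ℤ) ∣ dt x s) → 32 ∣ nm x := fun x a => by
      by_cases e : Cg x 0
      · have := Cg.nm_mod e
        rw [nm_zero] at this
        omega
      · have := cst _ _ a (u2 _) e (n0 0)
        omega
    refine n0 0 (perp _ (u2 _) fun x a => ?_)
    have := z _ (ps a (u2 (v 0)))
    have := z _ a
    rw [nm_sub] at *
    omega
  · have z : ∀ x y, (∀ s ∈ S, (16 : ℤ) ∣ dt x s) → (∀ s ∈ S, (16 : ℤ) ∣ dt y s) → ¬ Cg x 0 →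
        ¬ Cg y 0 → ¬ Cg (x - y) 0 → dt x y % 16 = 8 := fun x y a b n n' n'' => by
      have := cst _ _ a (u2 _) n (n0 0)
      have := cst _ _ b (u2 _) n' (n0 0)
      have := cst _ _ (ps a b) (u2 _) n'' (n0 0)
      have := sixteen_dvd_nm (u (v 0))
      rw [nm_sub] at *
      omega
    have k : ∀ i, i ≠ 0 → i ≠ 1 → Cg (u (v i) - (u (v 0) - u (v 1))) 0 := fun i a b => by
      by_contra e
      have := z _ _ (u2 _) (ps (u2 _) (u2 _)) (n0 i) (n2 0 1 (by decide)) e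
      have := z _ _ (u2 _) (u2 _) (n0 i) (n0 0) (n2 _ _ a)
      have := z _ _ (u2 _) (u2 _) (n0 i) (n0 1) (n2 _ _ b)
      rw [dt_sub_right] at *
      omega
    have := (k 2 (by decide) (by decide)).add ((cg_neg _).trans (k 3 (by decide) (by decide)))
    rw [add_zero, show ∀ a b c : leechLattice, a - c + -(b - c) = a - b from fun a b c => by abel]
      at this
    exact n2 2 3 (by decide) this

end Cfsg.Lib.Mon.SB
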