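import Cfsg.Agent.Mon.UBP
import Cfsg.Agent.Mon.UBW

/-! Uniqueness of `²E6(2)` inside an extension: a relative version of the data. -/

set_option autoImplicit false

namespace Cfsg.Lib.Mon

open Cfsg Subgroup Cfsg.Lib.Spor Cfsg.Lib.Spor.CK Cfsg.Lib.SporChar Cfsg.Lib.Local Cfsg.Lib.Solv
open scoped Pointwise commutatorElement

/-- `θ` identifies `QT T / ET T` with `Q`, and `C` acts on it as `L`. -/
structure P3 {X : Type*} [Group X] (C : Subgroup X) (T : List ℕ) (L : Subgroup GH) (z : X)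
    (Q : Subgroup X) (θ : GH → X) : Prop where
  ok : TOk T
  le : FxS T ≤ L
  le' : L ≤ LT T
  pre : PreLX Q z
  mul : ∀ a ∈ QT T, ∀ b ∈ QT T, θ (a * b) = θ a * θ b
  pz : θ (pq pZ) = z
  ker : ∀ a ∈ QT T, θ a = 1 ↔ a ∈ ET T
  map : ∀ x, x ∈ Q ↔ ∃ a ∈ QT T, θ a = x
  fwd : ∀ g ∈ L, ∃ c ∈ C, ∀ a ∈ QT T, c * θ a * c⁻¹ = θ (g * a * g⁻¹)
  bwd : ∀ c ∈ C, ∃ g ∈ L, ∀ a ∈ QT T, c * θ a * c⁻¹ = θ (g * a * g⁻¹)
  cle : C ≤ centralizer {z}
  Qle : Q ≤ C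
  syl : ∀ A ≤ centralizer ({z} : Set X), IsPGroup 2 A →
    ∃ c ∈ centralizer ({z} : Set X), MulAut.conj c • A ≤ C

variable {X : Type*} [Group X] {T : List ℕ} {L : Subgroup GH} {z s : X} {C Q R : Subgroup X}
  {θ : GH → X} {g g' : GH} {c c' : X}

namespace P3

section

variable (h : P3 C T L z Q θ)
include h

theorem lt (hg : g ∈ FxS T) : g ∈ LT T := h.ok.le_LT hg

theorem θmul {p q : ℕ} (hp : Pp T p) (hq : Pp T q) :
    θ (pq (pmul p q)) = θ (pq p) * θ (pq q) := by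
  rw [← pq_mul, h.mul _ (pq_mem_QT hp) _ (pq_mem_QT hq)]

theorem θsp {e : ℕ} (he : e ∈ spL T) : θ (pq e) = 1 :=
  (h.ker _ (h.ok.ET_le (h.ok.mem_ET.2 ⟨e, he, rfl⟩))).2 (h.ok.mem_ET.2 ⟨e, he, rfl⟩)

theorem θ0 : θ (pq 0) = 1 := h.θsp (zero_mem_spL T)

theorem θneg {p : ℕ} (hp : Pp T p) : θ (pq (p ^^^ 2 ^ 24)) = z * θ (pq p) := by
  rw [← pmul_pZ, ← pZ_eq, h.θmul (Pp.pz T) hp, h.pz]

theorem θxor {p q : ℕ} (hp : Pp T p) (hq : q % 4096 = 0) :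
    θ (pq (p ^^^ q)) = θ (pq p) * θ (pq q) := by
  rw [← pmul_diag p hq, h.θmul hp (h.ok.diag hq)]

theorem θsq {p : ℕ} (hp : p % 4096 = 0) : θ (pq p) * θ (pq p) = 1 := by
  rw [← h.θxor (h.ok.diag hp) hp, Nat.xor_self, h.θ0]

theorem θinv {p : ℕ} (hp : p % 4096 = 0) : (θ (pq p))⁻¹ = θ (pq p) :=
  inv_eq_of_mul_eq_one_right (h.θsq hp)

theorem θcomm {p q : ℕ} (hp : Pp T p) (hq : Pp T q) (e : pcomm p q = 0) :
    θ (pq p) * θ (pq q) = θ (pq q) * θ (pq p) := by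
  rw [← h.mul _ (pq_mem_QT hp) _ (pq_mem_QT hq), pq_comm_iff.2 e,
    h.mul _ (pq_mem_QT hq) _ (pq_mem_QT hp)]

theorem θmem {p : ℕ} (hp : Pp T p) : θ (pq p) ∈ Q := (h.map _).2 ⟨_, pq_mem_QT hp, rfl⟩

theorem exists_pq {x : X} (hx : x ∈ Q) : ∃ p < 2 ^ 25, Pp T p ∧ x = θ (pq p) := by
  obtain ⟨a, ha, rfl⟩ := (h.map x).1 hx
  obtain ⟨p, h1, h2, rfl⟩ := mem_QT.1 ha
  exact ⟨p, h1, h2, rfl⟩

theorem θeq {p q : ℕ} (hp : Pp T p) (e : p ^^^ q ∈ spL T) : θ (pq q) = θ (pq p) := by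
  have := h.θxor hp (h.ok.sp_ev _ e).diag
  rwa [Nat.xor_xor_cancel_left, h.θsp e, mul_one] at this

theorem θmod {p q : ℕ} (hp : Pp T p) (e : q % 2 ^ 24 = p % 2 ^ 24) :
    θ (pq q) = θ (pq p) ∨ θ (pq q) = z * θ (pq p) :=
  (pq_eq_or_of_mod e).imp (congrArg θ) fun k => by rw [k, ← pq_neg, h.θneg hp]

theorem θinj {p q : ℕ} (h1 : p < 2 ^ 25) (h2 : q < 2 ^ 25) (hp : Pp T p) (hq : Pp T q)
    (e : θ (pq p) = θ (pq q)) : p ^^^ q ∈ spL T := by
  have k := h.mul _ (pq_mem_QT hp) _ (mul_mem (inv_mem (pq_mem_QT hp)) (pq_mem_QT hq))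
  rw [mul_inv_cancel_left, ← e, left_eq_mul,
    h.ker _ (mul_mem (inv_mem (pq_mem_QT hp)) (pq_mem_QT hq)), h.ok.mem_ET] at k
  obtain ⟨f, hf, k⟩ := k
  have := h.ok.sp_ev f hf
  rw [inv_mul_eq_iff_eq_mul, pq_mul, pmul_diag _ this.diag] at k
  rwa [pq_inj h2 (Nat.xor_lt_two_pow h1 this.lt) k, Nat.xor_xor_cancel_left]

theorem θone {p : ℕ} (h1 : p < 2 ^ 25) (hp : Pp T p) (e : θ (pq p) = 1) : p ∈ spL T := by
  simpa using h.θinj h1 (by norm_num) hp (Pp.zero T) (e.trans h.θ0.symm)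

theorem θcomm_iff {p q : ℕ} (hp : Pp T p) (hq : Pp T q) :
    θ (pq p) * θ (pq q) = θ (pq q) * θ (pq p) ↔ pcomm p q = 0 := by
  refine ⟨fun e => ?_, h.θcomm hp hq⟩
  by_contra hn
  have := congrArg θ (pq_anti (p := p) (q := q) (by have := pcomm_lt p q; omega))
  rw [pq_mul, pq_mul q, ← pq_neg, h.θneg (hq.pmul hp), h.θmul hp hq, h.θmul hq hp, e,
    right_eq_mul] at this
  exact h.pre.ne_one this

theorem zcomm {p : ℕ} (hp : Pp T p) : θ (pq p) * z = z * θ (pq p) := h.pre.central _ (h.θmem hp)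

theorem act_mul (a : Act T θ g c) (b : Act T θ g' c') (hg : g' ∈ LT T) :
    Act T θ (g * g') (c * c') := fun p hp => by
  rw [mul_assoc, b p hp, ← mul_assoc, a _ (h.ok.pp_φ hg hp), φ_mul, mul_assoc]

theorem act_inv (a : Act T θ g c) (hg : g ∈ LT T) : Act T θ g⁻¹ c⁻¹ := fun p hp => by
  rw [inv_mul_eq_iff_eq_mul, ← mul_assoc, a _ (h.ok.pp_φ (inv_mem hg) hp), ← φ_mul,
    mul_inv_cancel, φ_one', pq_mod, mul_inv_cancel_right]

theorem act_pow (a : Act T θ g c) (hg : g ∈ LT T) : ∀ n : ℕ, Act T θ (g ^ n) (c ^ n)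
  | 0 => by rw [pow_zero, pow_zero]; exact Act.one
  | n + 1 => by rw [pow_succ, pow_succ]; exact h.act_mul (act_pow a hg n) a hg

theorem act_pq {q : ℕ} (hq : Pp T q) : Act T θ (pq q) (θ (pq q)) := fun p hp => by
  rw [← h.mul _ (pq_mem_QT hq) _ (pq_mem_QT hp), mul_pq,
    h.mul _ (pq_mem_QT (h.ok.pp_φ (h.lt (pq_mem_FxS_iff.2 hq)) hp)) _ (pq_mem_QT hq)]

theorem act_comm (a : Act T θ g c) : c * z = z * c := by
  have := a _ (Pp.pz T)
  rwa [φ_pZ, h.pz] at this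

theorem act_z (a : Act T θ g c) (hg : g ∈ LT T) : Act T θ g (z * c) := fun p hp => by
  rw [mul_assoc, a p hp, ← mul_assoc, ← h.zcomm (h.ok.pp_φ hg hp), mul_assoc]

theorem act_one (a : Act T θ 1 c) : c = 1 ∨ c = z :=
  h.pre.mem_iff.1 (h.pre.cent (mem_centralizer_iff.2 fun q hq => by
    obtain ⟨p, -, hp, rfl⟩ := h.exists_pq hq
    rw [a p hp, φ_one', pq_mod]))

theorem act_uniq (a : Act T θ g c) (b : Act T θ g c') (hg : g ∈ LT T) : c' = c ∨ c' = z * c := by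
  have := h.act_mul b (h.act_inv a hg) (inv_mem hg)
  rw [mul_inv_cancel] at this
  exact (h.act_one this).imp mul_inv_eq_one.1 mul_inv_eq_iff_eq_mul.1

theorem exists_act (hg : g ∈ L) : ∃ c, Act T θ g c :=
  (h.fwd g hg).imp fun c k p hp => by rw [← conj_pq, ← k.2 _ (pq_mem_QT hp), inv_mul_cancel_right]

theorem act_mem (a : Act T θ g c) (hg : g ∈ L) : c ∈ C := by
  obtain ⟨d, hd, k⟩ := h.fwd g hg
  have b : Act T θ g d := fun p hp => by
    rw [← conj_pq, ← k _ (pq_mem_QT hp), inv_mul_cancel_right]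
  rcases h.act_uniq b a (h.le' hg) with e | e <;> rw [e]
  exacts [hd, mul_mem (h.Qle h.pre.mem) hd]

theorem exists_act' (hc : c ∈ C) : ∃ g ∈ L, Act T θ g c :=
  (h.bwd c hc).imp fun g k => ⟨k.1, fun p hp => by
    rw [← conj_pq, ← k.2 _ (pq_mem_QT hp), inv_mul_cancel_right]⟩

theorem act_fix (a : Act T θ g c) (hg : g ∈ LT T) {p : ℕ} (h1 : p < 2 ^ 25) (hp : Pp T p)
    (e : c * θ (pq p) = θ (pq p) * c) : φ g p ^^^ p ∈ spL T :=
  h.θinj (φ_lt _ _) h1 (h.ok.pp_φ hg hp) hp (mul_right_cancel ((a p hp).symm.trans e))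

theorem act_ker (a : Act T θ g 1) (hg : g ∈ LT T) :
    ∃ q < 2 ^ 25, q % 2 ^ 24 ∈ spL T ∧ (g = pq q ∨ g = cc * pq q) :=
  h.ok.of_fix fun p h1 hp => h.act_fix a hg h1 hp (by rw [one_mul, mul_one])

/-- An odd-order lift. -/
theorem exists_odd (hg : g ∈ FxS T) {n : ℕ} (hn : Odd n) (e : g ^ n = 1) :
    ∃ c, Act T θ g c ∧ c ^ n = 1 := by
  obtain ⟨c, a⟩ := h.exists_act (h.le hg)
  have b := h.act_pow a (h.lt hg) n
  rw [e] at b
  rcases h.act_one b with k | k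
  · exact ⟨c, a, k⟩
  · refine ⟨z * c, h.act_z a (h.lt hg), ?_⟩
    obtain ⟨m, rfl⟩ := hn
    rw [Commute.mul_pow (h.act_comm a).symm, k, pow_succ, pow_mul, sq, h.pre.mul_self, one_pow,
      one_mul, h.pre.mul_self]

/-- The centraliser of the diagonal group. -/
theorem of_comm' {x : X} (hx : x ∈ C)
    (k : ∀ p < 2 ^ 25, p % 4096 = 0 → x * θ (pq p) = θ (pq p) * x) :
    ∃ q < 2 ^ 25, q % 4096 = 0 ∧ x = θ (pq q) := by
  obtain ⟨g, hg, a⟩ := h.exists_act' hx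
  obtain ⟨q, h1, h2, e⟩ := h.ok.of_fix_diag (g := g) fun p hp k' =>
    h.act_fix a (h.le' hg) hp (h.ok.diag k') (k p hp k')
  have b : Act T θ g (θ (pq q)) := by
    rcases e with e | e <;> rw [e]
    exacts [h.act_pq (h.ok.diag h2), (h.act_pq (h.ok.diag h2)).cc]
  rcases h.act_uniq b a (h.le' hg) with e | e
  · exact ⟨q, h1, h2, e⟩
  · exact ⟨_, xor_neg_lt h1, xor_diag h2 rfl, by rw [e, h.θneg (h.ok.diag h2)]⟩

theorem exists_π : ∃ π : C →* Co0,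
    (∀ (c : C) (g : FxS [pT]), g.1 ∈ LT T → Act T θ g c → π c = prS g) ∧
      ∀ c, π c = 1 ↔ c.1 ∈ Q := by
  choose γ h1 h2 using fun c : C => h.exists_act' c.2
  have key : ∀ (c : C) (g : FxS [pT]), g.1 ∈ LT T → Act T θ g c →
      prS ⟨γ c, (h.le' (h1 c)).1⟩ = prS g := fun c g hg a => by
    have b := h.act_mul (h.act_inv a hg) (h2 c) (h.le' (h1 c))
    rw [inv_mul_cancel] at b
    obtain ⟨q, -, -, e⟩ := h.act_ker b (mul_mem (inv_mem hg) (h.le' (h1 c)))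
    rw [eq_comm, ← inv_mul_eq_one, ← map_inv, ← map_mul, prS_eq_one]
    exact e.imp (fun k => (congrArg pr k).trans (pr_pq q))
      fun k => (congrArg pr k).trans (by rw [map_mul, pr_pq, pr_cc, mul_one])
  refine ⟨MonoidHom.mk' (fun c => prS ⟨γ c, (h.le' (h1 c)).1⟩) fun c d => ?_, key, fun c => ?_⟩
  · rw [← map_mul]
    exact key _ _ (mul_mem (h.le' (h1 c)) (h.le' (h1 d))) (h.act_mul (h2 c) (h2 d) (h.le' (h1 d)))
  refine ⟨fun e => ?_, fun e => ?_⟩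
  · have k : ∀ g ∈ LT T, pr g = 1 → Act T θ g c → c.1 ∈ Q := fun g hg e a => by
      obtain ⟨q, -, rfl⟩ := exists_pq_of_snd e
      have hq := h.ok.pp_of_mem_LT hg
      rcases h.act_uniq (h.act_pq hq) a hg with k | k <;> rw [k]
      exacts [h.θmem hq, mul_mem h.pre.mem (h.θmem hq)]
    rcases prS_eq_one.1 e with e | e
    · exact k _ (h.le' (h1 c)) e (h2 c)
    · exact k _ (mul_mem (h.lt (cc_mem_FxS T)) (h.le' (h1 c)))
        (by rw [map_mul, pr_cc, e, co0Neg_mul_self]) (h2 c).cc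
  · obtain ⟨p, -, hp, k⟩ := h.exists_pq e
    have hq := pq_mem_FxS_iff.2 hp
    exact (key c ⟨_, h.ok.le_H hq⟩ (h.lt hq) (k ▸ h.act_pq hp)).trans
      (prS_eq_one.2 (Or.inl (pr_pq p)))

end

section

variable (h : P3 C T L z Q θ)
include h

theorem θinv' {a : GH} (ha : a ∈ QT T) : θ a⁻¹ = (θ a)⁻¹ :=
  eq_inv_of_mul_eq_one_left (by rw [← h.mul _ (inv_mem ha) _ ha, inv_mul_cancel, ← pq_zero, h.θ0])

/-- The preimage of a subgroup. -/
def cm (R : Subgroup X) : Subgroup GH where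
  carrier := {a | a ∈ QT T ∧ θ a ∈ R}
  one_mem' := ⟨one_mem _, by rw [← pq_zero, h.θ0]; exact one_mem R⟩
  mul_mem' ha hb := ⟨mul_mem ha.1 hb.1, h.mul _ ha.1 _ hb.1 ▸ mul_mem ha.2 hb.2⟩
  inv_mem' ha := ⟨inv_mem ha.1, h.θinv' ha.1 ▸ inv_mem ha.2⟩

theorem conj_mem_cm {g : GH} {c : X} (a : Act T θ g c) (hg : g ∈ LT T)
    (hc : c ∈ normalizer (R : Set X)) : ∀ k ∈ h.cm R, g * k * g⁻¹ ∈ h.cm R := fun k hk => by
  obtain ⟨p, -, hp, rfl⟩ := mem_QT.1 hk.1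
  rw [conj_pq]
  exact ⟨pq_mem_QT (h.ok.pp_φ hg hp), a.conj hp ▸ conj_mem_of_mem_normalizer hc hk.2⟩

theorem θZ2 : θ (pq pZ2) = z * θ (pq pZ1) := h.θneg (p := pZ1) (h.ok.diag rfl)

theorem θZ1 : θ (pq pZ1) = z * θ (pq pZ2) := h.θneg (p := pZ2) (h.ok.diag rfl)

theorem eq_z1 (hp : LXPair Q R z s) (hs : SgIn T θ R) : s = θ (pq pZ1) ∨ s = θ (pq pZ2) := by
  obtain ⟨p, -, h1, rfl⟩ := h.exists_pq hp.xQ
  have h2 := h.ok.fix_signs h1 fun y hy hy' q hq => by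
    obtain ⟨r, hr, q0, h0, a⟩ := hs y hy hy'
    have k := h.ok.pp_φ (h.lt (mul_mem (pq_mem_FxS_iff.2 h0) hy)) hq
    have k1 : pcomm p (φ (pq q0 * y) q) = pcomm p (φ y q) := by
      rw [φ_mul, φ_pq _ (φ_lt _ _)]
      exact pcomm_congr rfl (by rw [Nat.xor_mod_two_pow, shl24_mod, Nat.xor_zero])
    have k2 : pcomm p (φ (pq q0 * y) q) = 0 ↔ pcomm p q = 0 := by
      rw [← h.θcomm_iff h1 k, ← h.θcomm_iff h1 hq, ← a.conj hq]
      have k3 := hp.hR.central r hr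
      constructor <;> intro e
      · calc _ = r⁻¹ * (θ (pq p) * (r * θ (pq q) * r⁻¹)) * r := by
              rw [← mul_assoc (θ (pq p)), ← mul_assoc (θ (pq p)), ← k3]; group
          _ = θ (pq q) * (r⁻¹ * (θ (pq p) * r)) := by rw [e]; group
          _ = _ := by rw [← k3, inv_mul_cancel_left]
      · calc _ = r * (θ (pq p) * θ (pq q)) * r⁻¹ := by
              rw [← mul_assoc (θ (pq p)), ← mul_assoc (θ (pq p)), ← k3]; group
          _ = r * θ (pq q) * r⁻¹ * (r * θ (pq p) * r⁻¹) := by rw [e]; group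
          _ = _ := by rw [k3, mul_inv_cancel_right]
    have := pcomm_lt p (φ y q)
    have := pcomm_lt p q
    omega
  have h3 := h1.of_mod (Nat.mod_mod p (2 ^ 24))
  have h4 := h.θmod h3 (Nat.mod_mod p (2 ^ 24)).symm
  rcases mem_spL_cons.1 h2 with e | e
  · rw [h.θsp e, mul_one] at h4
    exact absurd (h.pre.mem_iff.2 h4) hp.x_not_mem
  · rw [← h.θeq h3 e, ← h.θZ1] at h4
    exact h4.symm

theorem diag_mem (hp : LXPair Q R z s) (hs : SgIn T θ R) (p : ℕ) (hd : p % 4096 = 0) :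
    θ (pq p) ∈ R := by
  have h0 := h.eq_z1 hp hs
  have hN : ∀ g ∈ FxS T, g ∈ FxS [pZ1] → ∀ c, Act T θ g c → c ∈ normalizer (R : Set X) :=
    fun g _ hg c a => hp.hR.norm (mem_centralizer_singleton_iff.2 (by
      rcases h0 with e | e <;> rw [e, a _ (h.ok.diag rfl)]
      · rw [(mem_FxS_one pZ1_lt).1 hg]
      · rw [(mem_FxS_one (by decide)).1 (mem_FxS_Z2.2 hg)]))
  have hz : pq pZ ∈ h.cm R := ⟨pq_mem_QT (Pp.pz T), h.pz ▸ hp.zR⟩
  have h40 : Pp T 40 := by rcases h.ok with rfl | rfl <;> decide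
  obtain ⟨r, hr, q, hq, a⟩ := hs _ h.ok.Yb_mem pr_Yb_mem
  have k := h.ok.pp_φ (h.lt (mul_mem (pq_mem_FxS_iff.2 hq) h.ok.Yb_mem)) h40
  have k1 : pq (φ (pq q * el rYb) 40) * (pq 40)⁻¹ ∈ h.cm R :=
    ⟨mul_mem (pq_mem_QT k) (inv_mem (pq_mem_QT h40)), by
      rw [h.mul _ (pq_mem_QT k) _ (inv_mem (pq_mem_QT h40)), h.θinv' (pq_mem_QT h40), ← a.conj h40,
        mul_assoc, mul_assoc, ← mul_assoc (θ _)]
      exact mul_mem hr (conj_mem_of_mem_normalizer (hN _ (pq_mem_FxS_iff.2 h40)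
        (pq_mem_FxS.2 (by decide)) _ (h.act_pq h40)) (inv_mem hr))⟩
  rw [pq_inv, pq_mul] at k1
  refine (h.ok.genD (K := h.cm R) (fun e he he' => ?_) hz ⟨pq_mem_QT (h.ok.diag rfl), ?_⟩
    (fun t ht => ⟨pq_mem_QT (h.ok.diag (h.ok.ev t ht).diag), ?_⟩) (pq_mem_of_mod hz k1 ?_) p hd).2
  · obtain ⟨c, b⟩ := h.exists_act (h.le he')
    exact h.conj_mem_cm b (h.lt he') (hN e he' (Est.mem_N he) c b)
  · rcases h0 with e | e
    · rw [h.θZ2, ← e]; exact mul_mem hp.zR hp.hR.mem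
    · exact e ▸ hp.hR.mem
  · rw [h.θsp (mem_spL_of_mem ht)]; exact one_mem R
  · rw [pmul_mod, φ_mul, φ_pq _ (φ_lt _ _), Nat.xor_mod_two_pow, shl24_mod, Nat.xor_zero,
      show (770048 : ℕ) % 2 ^ 24 = 770048 from rfl, ← φ_Yb_40, Nat.xor_mod_two_pow]; rfl

variable [Finite X] (hc : Nat.card Q = 2 ^ (25 - 2 * T.length)) {Sg : Set Co0} (hr : RankOK T Sg)
  (hS : ∀ g : FxS [pT], g.1 ∈ L → prS g ∈ Sg)
include hc hr hS

theorem exists_sgIn (hp : LXPair Q R z s) (hR : R ⊓ centralizer {z} ≤ C) :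
    ∃ k ∈ FxS T, ∃ c, Act T θ k c ∧ SgIn T θ (MulAut.conj c⁻¹ • R) := by
  obtain ⟨π, h1, h2⟩ := h.exists_π
  have c1 := MonData.card_inf_cent hp.hR hp.zR hp.symm.x_not_mem
  rw [show R ⊓ centralizer {z} = R ⊓ C from
    le_antisymm (le_inf inf_le_left hR) (inf_le_inf_left _ h.cle)] at c1
  have c2 := (π.domRestrict (R.subgroupOf _)).ker.card_mul_index
  rw [index_ker, MonoidHom.domRestrict_range] at c2
  have c3 : Nat.card (π.domRestrict (R.subgroupOf _)).ker = Nat.card ↥(Q ⊓ R) := by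
    rw [← card_subtype, ← card_subtype]
    congr 2
    ext x
    refine ⟨?_, fun hx => ⟨⟨x, h.Qle hx.1⟩,
      ⟨⟨⟨x, h.Qle hx.1⟩, hx.2⟩, (h2 ⟨x, h.Qle hx.1⟩).mpr hx.1, rfl⟩, rfl⟩⟩
    rintro ⟨_, ⟨y, hy, rfl⟩, rfl⟩
    exact ⟨(h2 _).mp hy, y.2⟩
  rw [c3, ← card_subtype _ (R.subgroupOf _), subgroupOf_map_subtype] at c2
  have c4 := h.pre.card_centralizer_mul (U := Q ⊓ R) (h.pre.center_eq ▸ hp.zpowers_le_E) inf_le_left
  rw [h.pre.center_eq, Nat.card_zpowers, h.pre.ord] at c4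
  have c5 : Nat.card ↥(Q ⊓ R) ≤ Nat.card ↥(Q ⊓ centralizer ((Q ⊓ R : Subgroup X) : Set X)) :=
    card_le_of_le fun a ha => ⟨ha.1, fun b hb => hp.comm_E hb ha⟩
  have c6 : Nat.card R = Nat.card Q := by obtain ⟨g, rfl, -⟩ := hp.cj; exact card_conj_smul g Q
  obtain ⟨b, hb, k⟩ := hr ((R.subgroupOf C).map π) (by
      rintro _ ⟨c, -, rfl⟩
      obtain ⟨g, hg, a⟩ := h.exists_act' c.2
      exact h1 c ⟨g, (h.le' hg).1⟩ (h.le' hg) a ▸ hS _ hg) (by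
      rintro _ ⟨a, ha, rfl⟩
      rw [← map_mul, h2]
      exact zpowers_le.mpr hp.xQ (hp.hR.sq_mem _ ha)) (by
      rw [c6, hc] at c1
      rw [hc] at c4
      rcases h.ok with rfl | rfl <;>
        simp only [List.length, Nat.reduceAdd, Nat.reduceMul, Nat.reduceSub] at c1 c4 ⊢
      · have : Nat.card ↥(Q ⊓ R) ≤ 2 ^ 12 := by nlinarith
        nlinarith
      · have : Nat.card ↥(Q ⊓ R) ≤ 2 ^ 11 := by nlinarith
        nlinarith)
  obtain ⟨g, hg, rfl⟩ := h.ok.exists_lift hb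
  obtain ⟨c, a⟩ := h.exists_act (h.le hg)
  refine ⟨g, hg, c, a, fun y hy hy' => ?_⟩
  obtain ⟨r, hr, e⟩ := k (prS ⟨y, h.ok.le_H hy⟩) (by
    rcases prS_cases ⟨y, h.ok.le_H hy⟩ with e | e <;> rw [e]
    exacts [hy', mul_mem Co.neg_mem_A0 hy']) (h.ok.prS_mem hy)
  obtain ⟨d, a'⟩ := h.exists_act (h.le hy)
  let c' : C := ⟨c, h.act_mem a (h.le hg)⟩
  let d' : C := ⟨d, h.act_mem a' (h.le hy)⟩
  obtain ⟨q, -, hq, e'⟩ := h.exists_pq ((h2 (c'⁻¹ * r * c' * d'⁻¹)).1 (by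
    rw [map_mul, map_mul, map_mul, map_inv, map_inv, e, h1 c' ⟨g, h.ok.le_H hg⟩ (h.lt hg) a,
      h1 d' ⟨y, h.ok.le_H hy⟩ (h.lt hy) a', prS_eq hb.1 (Or.inl rfl)]
    group))
  refine ⟨c⁻¹ * r * c⁻¹⁻¹, conj_mem_conj_smul _ hr, q, hq, ?_⟩
  rw [inv_inv, show c⁻¹ * r * c = θ (pq q) * d from mul_inv_eq_iff_eq_mul.1 e']
  exact h.act_mul (h.act_pq hq) a' (h.lt hy)

theorem conj_z1' {g : X} (h0 : g * z * g⁻¹ ∈ Q) (h0' : g * z * g⁻¹ ≠ z)
    (hR : MulAut.conj g • Q ⊓ centralizer {z} ≤ C) :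
    ∃ k ∈ FxS T, ∃ c, Act T θ k c ∧ g * z * g⁻¹ = c * θ (pq pZ1) * c⁻¹ ∧
      ∀ p, p % 4096 = 0 → θ (pq p) ∈ MulAut.conj (c⁻¹ * g) • Q := by
  obtain ⟨k, hk, c, a, hs⟩ := h.exists_sgIn hc hr hS (h.pre.pair h0' h0) hR
  rw [← conj_mul_smul] at hs
  have e : c⁻¹ * g * z * (c⁻¹ * g)⁻¹ = c⁻¹ * (g * z * g⁻¹) * c := by group
  have hz := h.act_comm a
  have hp := h.pre.pair (g := c⁻¹ * g) (fun k => h0' (by
    rw [e, mul_assoc, inv_mul_eq_iff_eq_mul, hz, mul_left_inj] at k; exact k))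
    (e ▸ inv_conj_mem_of_mem_normalizer (h.pre.norm (mem_centralizer_singleton_iff.2 hz)) h0)
  have hD := h.diag_mem hp hs
  rcases h.eq_z1 hp hs with k | k
  · exact ⟨_, hk, c, a, by rw [← k]; group, hD⟩
  have b := h.act_pq h.ok.pp_D
  refine ⟨_, mul_mem hk (pq_mem_FxS_iff.2 h.ok.pp_D), _,
    h.act_mul a b (h.lt (pq_mem_FxS_iff.2 h.ok.pp_D)), ?_, fun p hp => ?_⟩
  · calc _ = c * θ (pq (φ (pq pD) pZ1)) * c⁻¹ := by
          rw [show φ (pq pD) pZ1 = pZ2 from φ_pq _ (by decide), ← k]; group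
      _ = _ := by rw [← b.conj (h.ok.diag rfl)]; group
  · have := hD (φ (pq pD) (p % 2 ^ 25)) (by
      rw [φ_pq _ (Nat.mod_lt _ (by norm_num))]
      exact xor_diag (by omega) (by rw [Nat.shiftLeft_eq]; omega))
    rw [φ_mod, ← b.conj (h.ok.diag hp), Solv.mem_conj_smul] at this
    rw [Solv.mem_conj_smul]
    convert this using 1
    group

end

end P3

open UBW

/-- `θ` as a homomorphism. -/
noncomputable def P3.θh (h : P3 C T L z Q θ) : QT T →* X :=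
  MonoidHom.mk' (fun a => θ a) fun a b => h.mul _ a.2 _ b.2

theorem P3.le_card (h : P3 C T L z Q θ) : 2 ^ 21 ≤ Nat.card Q := by
  have h1 := card_map_mul (P3.θh h) ⊤
  have h2 : (⊤ : Subgroup (QT T)).map (P3.θh h) = Q := by
    ext x
    rw [h.map]
    exact ⟨fun ⟨a, _, e⟩ => ⟨a, a.2, e⟩, fun ⟨a, ha, e⟩ => ⟨⟨a, ha⟩, trivial, e⟩⟩
  have h3 : (P3.θh h).ker = (ET T).subgroupOf (QT T) := by
    ext a
    exact h.ker a a.2
  rw [h2, h3, inf_top_eq, card_top, Nat.card_congr (subgroupOfEquivOfLe h.ok.ET_le).toEquiv,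
    UBM.card_ET h.ok] at h1
  rcases h.ok with rfl | rfl
  · rw [UBM.card_QT1, List.length_singleton] at h1; omega
  · rw [UBM.card_QT2, show [pT, pT2].length = 2 from rfl] at h1; omega

theorem P3.exists_k (h : P3 C T L z Q θ) {π : C →* Co0}
    (hπ : ∀ (c : C) (g : FxS [pT]), g.1 ∈ LT T → Act T θ g c → π c = prS g)
    (c : C) : π c ∈ StT' T ∧ ∀ p x, Pp T p → p % 2 ^ 24 = cls x →
      ∃ r < 2 ^ 25, Pp T r ∧ r % 2 ^ 24 = cls (π c • x) ∧ c * θ (pq p) * c.1⁻¹ = θ (pq r) := by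
  obtain ⟨g, hg, a⟩ := h.exists_act' c.2
  have hg' := h.le' hg
  rw [hπ c ⟨g, hg'.1⟩ hg' a]
  exact ⟨h.ok.prS_mem' hg', fun p x hp e =>
    ⟨_, φ_lt g p, h.ok.pp_φ hg' hp, by rw [cls_prS]; exact φ_pr g e, a.conj hp⟩⟩

theorem P3.inM_θ (h : P3 C T L z Q θ) {p q : ℕ} {x y : leechLattice} (h1 : p < 2 ^ 25)
    (h2 : q < 2 ^ 25) (hp : Pp T p) (hq : Pp T q) (e1 : p % 2 ^ 24 = cls x)
    (e2 : q % 2 ^ 24 = cls y) (e : θ (pq p) * (θ (pq q))⁻¹ ∈ zpowers z) :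
    InM uT (vT T) (x - y) := by
  rcases h.pre.mem_iff.1 e with e | e
  · exact inM_of h.ok (h.θinj h1 h2 hp hq (mul_inv_eq_one.1 e)) (by
      rw [Nat.xor_mod_two_pow, e1, e2, cls_sub])
  · exact inM_of h.ok (h.θinj h1 (xor_neg_lt h2) hp hq.neg (by
      rw [h.θneg hq, ← e, inv_mul_cancel_right])) (by
      rw [Nat.xor_mod_two_pow, xor_neg_mod, e1, e2, cls_sub])

theorem P3.θ_sq (h : P3 C T L z Q θ) {w : leechLattice} (hp : Pp T (cls w))
    (hw : (32 : ℤ) ∣ nm w) : θ (pq (cls w)) * θ (pq (cls w)) = 1 := by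
  have h1 := par_cls w
  rw [← h.θmul hp hp, pmul_self, show par (cls w >>> 12 &&& cls w) = 0 by omega]
  exact h.θ0

theorem P3.core [Finite X] (h : P3 C T L z Q θ) (w : WC Q R z s) (hC : R ⊓ centralizer {z} ≤ C)
    (hR : Nat.card R = Nat.card Q)
    (hle : Nat.card ↥(Q ⊓ centralizer {s}) ≤ Nat.card ↥(R ⊓ centralizer {z})) : False := by
  obtain ⟨π, hπ, hk⟩ := h.exists_π
  obtain ⟨T0, hT, h1, h2⟩ := w.exists_T
  have hs : s ∈ C := hC ⟨w.hR.mem, mem_centralizer_singleton_iff.2 w.comm⟩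
  obtain ⟨b1, b2⟩ := P3.exists_k h hπ ⟨s, hs⟩
  set b := π ⟨s, hs⟩ with eb
  set K := (T0.subgroupOf C).map π with eK
  have c : Cfg uT (vT T) b K := by
    refine ⟨nm_uT, ?_, ?_, b1.1, st_vT b1, ?_, ?_, ?_, ?_, ?_⟩
    · unfold vT
      split_ifs
      exacts [Or.inr ⟨nm_uT2, dt_uT_uT2⟩, Or.inl rfl]
    · rw [eb, ← map_mul]
      exact (congrArg π (Subtype.ext w.hR.mul_self)).trans (map_one π)
    all_goals rintro _ ⟨a, ha, rfl⟩
    · exact (P3.exists_k h hπ a).1.1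
    · exact st_vT (P3.exists_k h hπ a).1
    · rw [eb, ← map_mul, ← map_mul]
      exact congrArg π (Subtype.ext (w.hR.central _ (hT ha).1))
    · rw [← map_mul]
      exact (w.hR.mem_iff.1 (w.hR.sq_mem _ (hT ha).1)).imp
        (fun e => (congrArg π (Subtype.ext e)).trans (map_one π)) fun e => congrArg π (Subtype.ext e)
    intro y y1 y2 y3
    have hp := (per_iff h.ok (cls_mod y)).2 y1
    obtain ⟨q, hq, ζ, hζ, e⟩ := w.mem_Wh (h.θmem hp) fun q hq hx => by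
      obtain ⟨p, p1, p2, rfl⟩ := h.exists_pq hq
      obtain ⟨x, ex⟩ := cls_surj (Nat.mod_lt p (by norm_num : 0 < 2 ^ 24))
      obtain ⟨r, r1, r2, r3, r4⟩ := b2 p x p2 ex.symm
      refine h.θcomm p2 hp ((pc0 ex.symm (cls_mod y)).2 ?_)
      rw [dt_comm]
      exact y3 x ((per_iff h.ok ex.symm).1 p2) (P3.inM_θ h r1 p1 r2 p2 r3 ex.symm (r4 ▸ hx))
    have h3 := P3.θ_sq h hp y2
    have h4 : ζ * ζ = 1 := by
      rcases h.pre.mem_iff.1 hζ with rfl | rfl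
      exacts [mul_one 1, h.pre.mul_self]
    rw [e, mul_assoc, ← mul_assoc _ ζ, h.pre.comm_of_mem hζ (w.x_mem hq), ← mul_assoc, ← mul_assoc,
      h4, one_mul] at h3
    have h5 := commutatorElement_eq_one_iff_mul_comm.1 (h2 a ha q hq h3)
    have h6 : a.1 * ζ = ζ * a.1 := by
      rcases h.pre.mem_iff.1 hζ with rfl | rfl
      exacts [by simp, mem_centralizer_singleton_iff.1 (h.cle a.2)]
    obtain ⟨r, r1, r2, r3, r4⟩ := (P3.exists_k h hπ a).2 _ y hp (cls_mod y)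
    refine P3.inM_θ h r1 (cls_lt25 y) r2 hp r3 (cls_mod y) ?_
    rw [← r4, e, ← mul_assoc, h6, mul_assoc ζ, h5, ← mul_assoc ζ, mul_inv_cancel_right, mul_inv_cancel]
    exact one_mem _
  have h3 : Nat.card ↥(R ⊓ centralizer {z}) ≤ 4 * Nat.card K := by
    have h4 := card_map_mul π (T0.subgroupOf C)
    rw [← eK, Nat.card_congr (subgroupOfEquivOfLe (hT.trans hC)).toEquiv] at h4
    have h5 : Nat.card ↥(π.ker ⊓ T0.subgroupOf C) ≤ Nat.card ↥(Q ⊓ R) := by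
      rw [← card_subtype]
      refine card_le_of_le ?_
      rintro _ ⟨y, hy, rfl⟩
      exact ⟨(hk _).1 hy.1, (hT hy.2).1⟩
    refine Nat.le_of_mul_le_mul_right (h1.trans ?_) (Nat.card_pos (α := ↥(Q ⊓ R)))
    rw [← h4, mul_assoc]
    exact Nat.mul_le_mul_left _ (Nat.mul_le_mul_left _ h5)
  have h4 := P3.le_card h
  rcases c.cases (dbl h.ok) (fun e => w.sQ ((hk _).1 e)) with e | ⟨F, f1, f2, f3⟩
  · have h5 := card_le_cent_sq w.hR.toSympPair (w.nR w.comm.symm) h.pre.mul_self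
    have h6 := Nat.pow_le_pow_left (show Nat.card ↥(R ⊓ centralizer {z}) ≤ 16 by omega) 2
    omega
  have h5 := FT.BG4.card_le_card_mul_card_inf_centralizer (H := Q) (v := s)
    (S := ((AF F).subgroupOf (QT T)).map (P3.θh h)) fun y hy => by
      obtain ⟨p, p1, p2, rfl⟩ := h.exists_pq hy
      obtain ⟨x, ex⟩ := cls_surj (Nat.mod_lt p (by norm_num : 0 < 2 ^ 24))
      obtain ⟨r, r1, r2, r3, r4⟩ := b2 p x p2 ex.symm
      obtain ⟨f, hf, e⟩ := f2 x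
      rw [← commutatorElement_inv]
      refine inv_mem ⟨⟨_, pq_mem_QT r2⟩ * ⟨_, pq_mem_QT p2⟩⁻¹, ?_, ?_⟩
      · refine ⟨pmul r (pmul p (pmul p p)), ⟨pmul_lt r1 (pmul_lt p1 (pmul_lt p1 p1)), f, hf, ?_⟩, ?_⟩
        · rw [pmul_mod, pmul_mod, pmul_mod, Nat.xor_self, Nat.xor_zero, r3, ← ex, ← cls_sub, e.cls_eq]
        · rw [← pq_mul, ← pq_inv]; rfl
      · rw [map_mul, map_inv, commutatorElement_def]
        exact congrArg (· * _) r4.symm
  have h6 := card_map_mul (P3.θh h) ((AF F).subgroupOf (QT T))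
  have h7 : Nat.card ((AF F).subgroupOf (QT T)) ≤ 512 := by
    rw [← card_subtype, subgroupOf_map_subtype]
    exact (card_le_of_le inf_le_left).trans (card_AF f1)
  have h8 := hle.trans h3
  have h9 : 0 < Nat.card ↥((P3.θh h).ker ⊓ (AF F).subgroupOf (QT T)) := Nat.card_pos
  generalize Nat.card (((AF F).subgroupOf (QT T)).map (P3.θh h)) = n at h5 h6
  rcases f3 with f3 | ⟨f3, f4⟩
  · have := Nat.mul_le_mul (show n ≤ 512 by nlinarith)
      (show Nat.card ↥(Q ⊓ centralizer {s}) ≤ 3072 by omega)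
    omega
  · have ht := mem_spL_of_mem h.ok.pT_mem
    have h10 : 1 < Nat.card ↥((P3.θh h).ker ⊓ (AF F).subgroupOf (QT T)) :=
      (one_lt_card_iff_ne_bot _).2 fun e => pT_ne_one (congrArg Subtype.val
        ((eq_bot_iff_forall _).1 e ⟨pq pT, h.ok.ET_le (h.ok.mem_ET.2 ⟨_, ht, rfl⟩)⟩
          ⟨h.θsp ht, _, ⟨pT_lt, uT, f4, pT_mod⟩, rfl⟩))
    have := Nat.mul_le_mul (show n ≤ 256 by nlinarith)
      (show Nat.card ↥(Q ⊓ centralizer {s}) ≤ 6144 by omega)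
    omega

theorem smul_inf_cent (hc : c ∈ centralizer ({z} : Set X)) (R : Subgroup X) :
    MulAut.conj c • (R ⊓ centralizer {z}) = MulAut.conj c • R ⊓ centralizer {z} := by
  rw [smul_inf, conj_smul_eq_of_mem_normalizer (le_normalizer hc)]

theorem P3.core' [Finite X] (h : P3 C T L z Q θ) (w : WC Q R z s) (hR : Nat.card R = Nat.card Q)
    (hle : Nat.card ↥(Q ⊓ centralizer {s}) ≤ Nat.card ↥(R ⊓ centralizer {z})) : False := by
  obtain ⟨c, hc, e⟩ := h.syl (R ⊓ centralizer {z}) inf_le_right w.hR.isPGroup.to_inf_left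
  have hQ := conj_smul_eq_of_mem_normalizer (h.pre.norm hc)
  have hz := mem_cent_iff_conj.1 hc
  rw [smul_inf_cent hc] at e
  refine h.core (s := c * s * c⁻¹) ⟨w.hQ, w.hR.conj c, ?_, fun k => w.zR ?_, fun k => w.sQ ?_,
    fun q hq k => ?_⟩ e (by rw [card_conj_smul, hR]) ?_
  · nth_rewrite 1 [← hz]
    nth_rewrite 2 [← hz]
    rw [conj_mul, conj_mul, w.comm]
  · rwa [← hz, conj_mem_conj_smul_iff] at k
  · rwa [← hQ, conj_mem_conj_smul_iff] at k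
  · rw [← hQ, Solv.mem_conj_smul] at hq
    rw [Solv.mem_conj_smul] at k
    rw [← w.wk _ hq (by convert k using 1; group)]
    calc _ = q * (c * (c⁻¹ * q * c * s * (c⁻¹ * q * c)⁻¹) * c⁻¹) * q⁻¹ := by group
      _ = q * (c * s * c⁻¹) * q⁻¹ := by rw [w.wk _ hq (by convert k using 1; group)]
      _ = _ := by group
  · rwa [← smul_inf_cent hc, ← conj_smul_centralizer_singleton, ← hQ, ← smul_inf, card_conj_smul,
      card_conj_smul]

/-- Commuting conjugates of `z` have a common neighbour. -/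
theorem P3.exists_common [Finite X] (h : P3 C T L z Q θ) {g : X}
    (hc : g * z * g⁻¹ * z = z * (g * z * g⁻¹)) (hs : g * z * g⁻¹ ∉ Q) :
    ∃ x ∈ Q ⊓ (MulAut.conj g • Q), IsConj z x := by
  by_contra hn
  push Not at hn
  have w := wc h.pre hc hs hn
  have k : ∀ (g : X) (A : Subgroup X), Nat.card ↥(MulAut.conj g • A) = Nat.card A := fun g A =>
    (Nat.card_congr (equivSMul (MulAut.conj g) A).toEquiv).symm
  have k1 : ∀ g a : X, MulAut.conj g • centralizer ({a} : Set X) = centralizer {g * a * g⁻¹} :=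
    fun g a => by
      ext x
      rw [mem_pointwise_smul_iff_inv_smul_mem, ← map_inv, mem_centralizer_singleton_iff,
        mem_centralizer_singleton_iff, MulAut.smul_def, MulAut.conj_apply, inv_inv,
        ← (MulAut.conj g).injective.eq_iff]
      simp [mul_assoc]
  have k2 : MulAut.conj g • MulAut.conj g⁻¹ • Q = Q := by rw [map_inv, smul_inv_smul]
  rcases le_total (Nat.card ↥(Q ⊓ centralizer {g * z * g⁻¹}))
    (Nat.card ↥(MulAut.conj g • Q ⊓ centralizer {z})) with e | e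
  · exact h.core' w (k g Q) e
  refine h.core' (wc h.pre (g := g⁻¹) ?_ (fun e => w.zR ?_) fun x hx e => hn (g * x * g⁻¹) ?_
    (e.trans (isConj_iff.2 ⟨g, rfl⟩))) (k _ Q) ?_
  · calc _ = g⁻¹ * (z * (g * z * g⁻¹)) * g := by group
      _ = _ := by rw [← hc]; group
  · rwa [mem_pointwise_smul_iff_inv_smul_mem, ← map_inv]
  · exact ⟨k2 ▸ smul_mem_pointwise_smul x (MulAut.conj g) _ hx.2,
      smul_mem_pointwise_smul x (MulAut.conj g) _ hx.1⟩
  · rw [← k g, ← k g (_ ⊓ centralizer {z}), smul_inf, smul_inf, k1, k1, k2,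
      show g * (g⁻¹ * z * g⁻¹⁻¹) * g⁻¹ = z by group]
    exact e

theorem norm_E [Finite X] (hp : LXPair Q R z s) :
    Q ≤ normalizer ((Q ⊓ R : Subgroup X) : Set X) := fun q hq =>
  mem_normalizer_fintype fun e he => by
    rcases hp.hQ.comm_or hq he.1 with k | k <;> rw [k]
    · rwa [mul_inv_cancel_right]
    · exact mul_mem (⟨hp.hQ.mem, hp.zR⟩ : z ∈ Q ⊓ R) he

theorem P3.cent_iff (h : P3 C T L z Q θ) (hp : LXPair Q R z s)
    (hD : ∀ p, p % 4096 = 0 → θ (pq p) ∈ R) {x : X} :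
    x ∈ centralizer ((Q ⊓ R : Subgroup X) : Set X) ↔
      ∀ p < 2 ^ 25, p % 4096 = 0 → x * θ (pq p) = θ (pq p) * x := by
  refine ⟨fun hx p _ hd => (hx _ ⟨h.θmem (h.ok.diag hd), hD p hd⟩).symm, fun hx e he => ?_⟩
  obtain ⟨q, h1, h2, rfl⟩ := h.of_comm' (h.Qle he.1) fun p _ hd =>
    hp.comm_E he ⟨h.θmem (h.ok.diag hd), hD p hd⟩
  exact (hx q h1 h2).symm

theorem P3.cent_two [Finite X] (h : P3 C T L z Q θ) (hp : LXPair Q R z s)
    (hD : ∀ p, p % 4096 = 0 → θ (pq p) ∈ R) :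
    IsPGroup 2 (centralizer ((Q ⊓ R : Subgroup X) : Set X)) := fun ⟨x, hx⟩ => by
  have hz : x ∈ centralizer {z} := mem_centralizer_singleton_iff.2 (hx z ⟨hp.hQ.mem, hp.zR⟩).symm
  have h2 : x * x ∈ zpowers z := h.pre.cent fun q hq => by
    obtain ⟨r, h1, h2, e⟩ := h.of_comm' (x := x * q * x⁻¹ * q⁻¹) (h.Qle (mul_mem
      (conj_mem_of_mem_normalizer (h.pre.norm hz) hq) (inv_mem hq))) ((h.cent_iff hp hD).1 (by
        rw [mul_assoc, mul_assoc, ← mul_assoc q]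
        exact mul_mem hx (conj_mem_of_mem_normalizer
          (Solv.le_normalizer_centralizer (norm_E hp) hq) (inv_mem hx))))
    rw [mul_inv_eq_iff_eq_mul, mul_inv_eq_iff_eq_mul] at e
    calc _ = θ (pq r) * θ (pq r) * q * x * x := by rw [h.θsq h2]; group
      _ = θ (pq r) * (x * q) * x := by rw [e]; group
      _ = x * (θ (pq r) * q * x) := by rw [← mul_assoc, ← (h.cent_iff hp hD).1 hx r h1 h2]; group
      _ = _ := by rw [← e, mul_assoc]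
  refine ⟨2, Subtype.ext ?_⟩
  change x ^ (2 * 2) = 1
  rw [pow_mul, sq, sq]
  rcases h.pre.mem_iff.1 h2 with e | e <;> rw [e]
  exacts [mul_one 1, h.pre.mul_self]

/-- The centraliser of the diagonal group lies in `C`. -/
structure P4 (C : Subgroup X) (T : List ℕ) (L : Subgroup GH) (z : X) (Q : Subgroup X) (θ : GH → X) :
    Prop extends P3 C T L z Q θ where
  ofc : ∀ x, (∀ p < 2 ^ 25, p % 4096 = 0 → x * θ (pq p) = θ (pq p) * x) → x ∈ C

theorem P4.of_comm (h : P4 C T L z Q θ) {x : X}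
    (k : ∀ p < 2 ^ 25, p % 4096 = 0 → x * θ (pq p) = θ (pq p) * x) :
    ∃ q < 2 ^ 25, q % 4096 = 0 ∧ x = θ (pq q) := h.of_comm' (h.ofc x k) k

namespace P3

variable [Finite X] (h : P3 C T L z Q θ) (hc : Nat.card Q = 2 ^ (25 - 2 * T.length))
  {Sg : Set Co0} (hr : RankOK T Sg) (hS : ∀ g : FxS [pT], g.1 ∈ L → prS g ∈ Sg) {g : X}
  (h0 : g * z * g⁻¹ ∈ Q) (h0' : g * z * g⁻¹ ≠ z)
include h h0 h0'

theorem shift (hc : c ∈ centralizer ({z} : Set X)) :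
    c * g * z * (c * g)⁻¹ ∈ Q ∧ c * g * z * (c * g)⁻¹ ≠ z := by
  rw [show c * g * z * (c * g)⁻¹ = c * (g * z * g⁻¹) * c⁻¹ by group]
  refine ⟨conj_mem_of_mem_normalizer (h.pre.norm hc) h0, fun e => h0' ?_⟩
  rw [mul_inv_eq_iff_eq_mul, ← mem_centralizer_singleton_iff.1 hc] at e
  exact mul_left_cancel e

include hc hr hS

theorem move : ∃ c ∈ centralizer ({z} : Set X), c * g * z * (c * g)⁻¹ = θ (pq pZ1) ∧
    (∀ p, p % 4096 = 0 → θ (pq p) ∈ MulAut.conj (c * g) • Q) ∧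
    MulAut.conj (c * g) • Q ⊓ centralizer {z} ≤ C := by
  obtain ⟨c, hc', e⟩ := h.syl (MulAut.conj g • Q ⊓ centralizer {z}) inf_le_right
    (h.pre.conj g).isPGroup.to_inf_left
  rw [smul_inf_cent hc', ← conj_mul_smul] at e
  obtain ⟨k, hk, d, a, e1, e2⟩ := h.conj_z1' hc hr hS (h.shift h0 h0' hc').1 (h.shift h0 h0' hc').2 e
  have hd := inv_mem (h.act_mem a (h.le hk))
  refine ⟨d⁻¹ * c, mul_mem (h.cle hd) hc', ?_, by rwa [mul_assoc], ?_⟩
  · calc _ = d⁻¹ * (c * g * z * (c * g)⁻¹) * d := by group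
      _ = _ := by rw [e1]; group
  · rw [mul_assoc, conj_mul_smul, ← smul_inf_cent (h.cle hd)]
    exact (conj_smul_mono _ e).trans (conj_smul_eq_of_mem_normalizer (le_normalizer hd)).le

theorem p4 : P4 C T L z Q θ := by
  refine ⟨h, fun x hx => ?_⟩
  obtain ⟨c, hc', -, hD, -⟩ := h.move hc hr hS h0 h0'
  obtain ⟨h1, h1'⟩ := h.shift h0 h0' hc'
  generalize c * g = g at h1 h1' hD
  have hp := h.pre.pair h1' h1
  obtain ⟨d, hd, e⟩ := h.syl (MulAut.conj g • Q ⊓ centralizer {z} ⊔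
    centralizer ((Q ⊓ MulAut.conj g • Q : Subgroup X) : Set X))
    (sup_le inf_le_right (centralizer_le (by simpa using ⟨h.pre.mem, hp.zR⟩)))
    (hp.hR.isPGroup.to_inf_left.to_sup_of_normal_right' (h.cent_two hp hD)
      (inf_le_left.trans (Solv.le_normalizer_centralizer (inf_comm _ Q ▸ norm_E hp.symm))))
  rw [smul_sup, sup_le_iff, smul_inf_cent hd, ← conj_mul_smul, conj_smul_centralizer, smul_inf,
    ← conj_mul_smul, conj_smul_eq_of_mem_normalizer (h.pre.norm hd)] at e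
  obtain ⟨h2, h2'⟩ := h.shift h1 h1' hd
  obtain ⟨k, hk, b, a, -, e2⟩ := h.conj_z1' hc hr hS h2 h2' e.1
  have hb := h.act_mem a (h.le hk)
  obtain ⟨h3, h3'⟩ := h.shift h2 h2' (h.cle (inv_mem hb))
  have := (h.cent_iff (h.pre.pair h3' h3) e2).2 hx
  rw [conj_mul_smul] at this
  nth_rewrite 1 [← conj_smul_eq_of_mem_normalizer (h.pre.norm (h.cle (inv_mem hb)))] at this
  rw [← smul_inf, ← conj_smul_centralizer, Solv.mem_conj_smul] at this
  simpa [mul_assoc] using mul_mem (mul_mem (inv_mem hb) (e.2 this)) hb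

end P3

end Cfsg.Lib.Mon
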