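import Cfsg.Agent.Mon.UB3A
import Cfsg.Agent.Mon.UBA5

/-! Uniqueness of `²E6(2)` inside an extension: the amalgam. -/

set_option autoImplicit false

namespace Cfsg.Lib.Mon

open Cfsg Subgroup Cfsg.Lib.Spor Cfsg.Lib.Spor.CK Cfsg.Lib.SporChar Cfsg.Lib.Local Cfsg.Lib.Solv
open scoped Pointwise commutatorElement

variable {X : Type*} [Group X] {T : List ℕ} {L : Subgroup GH} {z τ x y : X} {C Q R : Subgroup X}
  {θ ι : GH → X} {n m k k' : GH}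

namespace P4

section

variable (h : P4 C T L z Q θ)
include h

theorem θD : θ (pq pD) * θ (pq pD) = 1 := by rw [← h.θmul h.ok.pp_D h.ok.pp_D]; exact h.θ0

theorem θD_inv : (θ (pq pD))⁻¹ = θ (pq pD) := inv_eq_of_mul_eq_one_right h.θD

theorem tau_cube {a : GH} {o : ℕ} (U : UDat T a o) {c : X} (b : Act T θ a c) (hc : c * τ = τ * c)
    (hd : ∀ p < 2 ^ 25, p % 4096 = 0 → τ⁻¹ * θ (pq p) * τ = θ (pq (alp p))) : τ ^ 3 = 1 := by
  obtain ⟨q, h1, h2, e⟩ := h.of_comm (x := τ ^ 3) fun p hp k => by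
    have k1 := hd _ hp k
    have k2 := hd _ (alp_lt hp) ((alp_mod _).trans k)
    have k3 := hd _ (alp_lt (alp_lt hp)) (by rw [alp_mod, alp_mod, k])
    rw [alp_alp_alp p hp k, ← k2, ← k1] at k3
    calc _ = τ ^ 3 * (τ⁻¹ * (τ⁻¹ * (τ⁻¹ * θ (pq p) * τ) * τ) * τ) := by rw [k3]
      _ = _ := by simp only [pow_succ, pow_zero]; group
  have k1 := h.θinj (alp_lt h1) h1 (h.ok.diag ((alp_mod _).trans h2)) (h.ok.diag h2)
    (by rw [← hd q h1 h2, ← e]; group)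
  have k2 := h.act_fix b (h.lt U.mem) h1 (h.ok.diag h2) (e ▸ (Commute.pow_right hc 3).eq)
  rw [e, h.θsp (U.fpf q (h.ok.alp_ev h1 h2 k1) k2)]

theorem exists_tau [Finite X] (hc : Nat.card Q = 2 ^ (25 - 2 * T.length))
    (hp : LXPair Q R z (θ (pq pZ1))) (hD : ∀ p, p % 4096 = 0 → θ (pq p) ∈ R) :
    ∃ τ ∈ Q ⊔ R, Tau θ τ := by
  obtain ⟨a, o, U⟩ := h.ok.exists_udat
  have : Fact o.Prime := ⟨by rcases U.ord with rfl | rfl <;> norm_num⟩
  obtain ⟨c, b, hco⟩ := h.exists_odd U.mem (by rcases U.ord with rfl | rfl <;> decide) U.pow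
  have haz := h.act_comm b
  have has : c * θ (pq pZ1) = θ (pq pZ1) * c := by
    rw [b _ (h.ok.diag rfl), (mem_FxS_one pZ1_lt).1 (Est.mem_N U.est)]
  obtain ⟨d, h1, h2, h3, h4⟩ : ∃ d ∈ R, d * z * d⁻¹ = θ (pq pZ1) * z ∧ c * d = d * c ∧ d * d = 1 := by
    obtain ⟨d, h1, h2, h3⟩ := exists_fixed_not_mem (p := o) (R := R) (K := centralizer {z}) hco
      (hp.hR.norm (mem_centralizer_singleton_iff.2 has))
      (le_normalizer (mem_centralizer_singleton_iff.2 haz)) (by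
        have k := MonData.card_inf_cent hp.hR hp.zR hp.symm.x_not_mem
        have c6 : Nat.card R = Nat.card Q := by obtain ⟨g, rfl, -⟩ := hp.cj; exact card_conj_smul g Q
        rw [show Nat.card R - Nat.card ↥(R ⊓ centralizer {z}) = 2 ^ (24 - 2 * T.length) by
          rw [c6, hc] at k ⊢
          rcases h.ok with rfl | rfl <;> simp only [List.length] at k ⊢ <;> omega]
        intro e
        have := (Nat.prime_dvd_prime_iff_eq this.out Nat.prime_two).1 (this.out.dvd_of_dvd_pow e)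
        rcases U.ord with e | e <;> omega)
    have h4 := (hp.symm.conj_x_or h1).resolve_left h2
    rcases hp.hR.mem_iff.1 (hp.hR.sq_mem d h1) with k | k
    · exact ⟨d, h1, h4, h3, k⟩
    · refine ⟨d * z, mul_mem h1 hp.zR, by rw [← h4]; group, by
        rw [← mul_assoc, h3, mul_assoc, haz, mul_assoc], ?_⟩
      calc _ = d * z * d⁻¹ * (d * d) * z := by group
        _ = θ (pq pZ1) * (z * θ (pq pZ1)) * z := by rw [h4, k, mul_assoc _ z]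
        _ = _ := by rw [← hp.comm, ← mul_assoc, hp.hR.mul_self, one_mul, h.pre.mul_self]
  have hd : d⁻¹ = d := inv_eq_of_mul_eq_one_right h4
  have hE : ∀ k < 11, θ (pq (2 ^ (13 + k))) * d = d * θ (pq (2 ^ (13 + k))) := fun k hk => by
    obtain ⟨q, hq, k1⟩ := U.pre k hk
    have k0 := (hq.φ U.est).diag
    have k3 := b.conj (h.ok.diag hq.diag)
    rw [h.θeq (h.ok.diag (xor_diag k0 hq.diag)) k1, h.θxor (h.ok.diag k0) hq.diag, ← k3, eq_comm,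
      ← mul_inv_eq_iff_eq_mul]
    have k4 : d * (c * θ (pq q) * c⁻¹ * θ (pq q)) * d⁻¹ =
        c * (d * θ (pq q) * d⁻¹) * c⁻¹ * (d * θ (pq q) * d⁻¹) := by
      calc _ = d * c * θ (pq q) * (d * c)⁻¹ * (d * θ (pq q) * d⁻¹) := by group
        _ = _ := by rw [← h3]; group
    rw [k4]
    rcases hp.hR.comm_or h1 (hD q hq.diag) with k | k
    · rw [k, mul_inv_cancel_right]
    · rw [k, ← mul_assoc c (θ (pq pZ1)), has]
      have k5 := hp.hR.central _ (k3 ▸ hD _ k0)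
      calc _ = θ (pq pZ1) * (c * θ (pq q) * c⁻¹ * θ (pq pZ1)) * θ (pq q) := by group
        _ = _ := by rw [k5, ← mul_assoc, hp.hR.mul_self, one_mul]
  have hs := hp.hR.central d h1
  have hdiag : ∀ p < 2 ^ 25, p % 4096 = 0 →
      (θ (pq pD) * d)⁻¹ * θ (pq p) * (θ (pq pD) * d) = θ (pq (alp p)) := fun p a b =>
    (diag_induction (P := fun p => p % 4096 = 0 ∧
      (θ (pq pD) * d)⁻¹ * θ (pq p) * (θ (pq pD) * d) = θ (pq (alp p)))
      ⟨rfl, by simp [h.θ0, show alp 0 = 0 from rfl]⟩ (fun k hk x _ hx ih => ⟨xor_diag hx (pow_diag k), by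
        rw [alp_xor, h.θxor (h.ok.diag hx) (pow_diag k), h.θxor (h.ok.diag ((alp_mod _).trans hx))
          ((alp_mod _).trans (pow_diag k)), ← ih.2, conj_mul']
        congr 1
        have k1 : (θ (pq pD) * d)⁻¹ * θ (pq (2 ^ (12 + k))) * (θ (pq pD) * d) =
            d * θ (pq (φ (pq pD) (2 ^ (12 + k)))) * d⁻¹ := by
          rw [← (h.act_pq h.ok.pp_D).conj (h.ok.diag (pow_diag k)), mul_inv_rev, h.θD_inv, hd]; group
        rw [k1, φ_pq _ (Nat.pow_lt_pow_right (by norm_num) (by omega))]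
        by_cases h0 : k = 0
        · rw [h0]; exact mul_inv_eq_iff_eq_mul.2 hs
        by_cases h12 : k = 12
        · rw [h12]
          refine (congrArg (d * · * d⁻¹) h.pz).trans (h2.trans ?_)
          rw [h.zcomm (h.ok.diag rfl)]; exact h.θZ2.symm
        obtain ⟨k2, k3⟩ := (by decide : ∀ k < 13, k ≠ 0 → k ≠ 12 → Ev (2 ^ (12 + k)) ∧
          pcomm pD (2 ^ (12 + k)) = 0) k hk h0 h12
        have k4 := hE (k - 1) (by omega)
        rw [show 13 + (k - 1) = 12 + k by omega] at k4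
        rw [k2.alp, k3, Nat.zero_shiftLeft, Nat.xor_zero, ← k4, mul_inv_cancel_right]⟩) p a b).2
  refine ⟨θ (pq pD) * d, mul_mem_sup (h.θmem h.ok.pp_D) h1, hdiag, ?_, h.tau_cube U b ?_ hdiag⟩
  · calc _ = θ (pq pD) * d * (θ (pq pD) * θ (pq pD)) * d := by group
      _ = _ := by rw [h.θD, mul_one, mul_assoc, h4, mul_one]
  · rw [← mul_assoc, b _ h.ok.pp_D, U.fixD, mul_assoc, h3, mul_assoc]

end

section

variable (h : P4 C T L z Q θ)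
include h

/-- The four-group. -/
def V : Subgroup X where
  carrier := {x | ∃ v ∈ spL [pZ, pZ2], x = θ (pq v)}
  one_mem' := ⟨0, zero_mem_spL _, h.θ0.symm⟩
  mul_mem' := by
    rintro _ _ ⟨u, hu, rfl⟩ ⟨v, hv, rfl⟩
    exact ⟨_, xor_mem_spL hu hv, (h.θxor (h.ok.diag (by revert u; decide)) (by revert v; decide)).symm⟩
  inv_mem' := by
    rintro _ ⟨u, hu, rfl⟩
    exact ⟨u, hu, h.θinv (by revert u; decide)⟩

theorem z_mem_V : z ∈ h.V := ⟨pZ, by decide, h.pz.symm⟩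

theorem V_sq {v : X} (hv : v ∈ h.V) : v * v = 1 := by
  obtain ⟨u, hu, rfl⟩ := hv
  exact h.θsq (by revert u; decide)

theorem V_comm (a : Act T θ n x) (hn : n ∈ FxS [pZ1]) {v : X} (hv : v ∈ h.V) : x * v = v * x := by
  obtain ⟨u, hu, rfl⟩ := hv
  rw [a u (h.ok.diag (by revert u; decide)), φ_V hn u hu]

theorem mem_V {q : ℕ} (hq : q ∈ spL (pZ :: pZ2 :: T)) : θ (pq q) ∈ h.V := by
  have : ∃ v ∈ spL [pZ, pZ2], v % 4096 = 0 ∧ v ^^^ q ∈ spL T := by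
    revert q; rcases h.ok with rfl | rfl <;> decide +kernel
  obtain ⟨v, hv, h1, h2⟩ := this
  exact ⟨v, hv, h.θeq (h.ok.diag h1) h2⟩

theorem D_conj_V {v : X} (hv : v ∈ h.V) : θ (pq pD) * v * θ (pq pD) ∈ h.V := by
  obtain ⟨u, hu, rfl⟩ := hv
  obtain ⟨h1, h2, h3⟩ := (by decide : ∀ u ∈ spL [pZ, pZ2], u % 4096 = 0 ∧ u < 2 ^ 25 ∧
    u ^^^ pcomm pD u <<< 24 ∈ spL [pZ, pZ2]) u hu
  exact ⟨_, h3, by rw [← φ_pq _ h2, ← (h.act_pq h.ok.pp_D).conj (h.ok.diag h1), h.θD_inv]⟩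

theorem act_D (a : Act T θ n x) (hn : n ∈ FxS T) :
    Act T θ (pq pD * n * (pq pD)⁻¹) (θ (pq pD) * x * θ (pq pD)) := by
  rw [pD_inv]
  exact h.act_mul (h.act_mul (h.act_pq h.ok.pp_D) a (h.lt hn)) (h.act_pq h.ok.pp_D) (h.lt h.ok.D_mem)

variable (t : Tau θ τ)
include t

theorem τ_conj_V {v : X} (hv : v ∈ h.V) : τ⁻¹ * v * τ ∈ h.V := by
  obtain ⟨u, hu, rfl⟩ := hv
  obtain ⟨h1, h2, h3⟩ := (by decide : ∀ u ∈ spL [pZ, pZ2], u % 4096 = 0 ∧ u < 2 ^ 25 ∧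
    alp u ∈ spL [pZ, pZ2]) u hu
  exact ⟨_, h3, t.diag u h2 h1⟩

theorem τ_conj_V' {v : X} (hv : v ∈ h.V) : τ * v * τ⁻¹ ∈ h.V := by
  convert h.τ_conj_V t (h.τ_conj_V t hv) using 1
  calc _ = τ * (τ ^ 3)⁻¹ * v * (τ⁻¹ * τ ^ 3) := by rw [t.h3]; group
    _ = _ := by simp only [pow_succ, pow_zero]; group

theorem conj_NP (k : (n, m) ∈ NP) (a : Act T θ n x) (b : Act T θ m y) :
    ∃ q < 2 ^ 25, q % 4096 = 0 ∧ τ⁻¹ * x * τ = θ (pq q) * y := by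
  obtain ⟨q, h1, h2, e⟩ := h.of_comm (x := τ⁻¹ * x⁻¹ * τ * y) fun p hp k' => by
    have k1 := alp_lt (alp_lt hp)
    have k2 : alp (alp p) % 4096 = 0 := by rw [alp_mod, alp_mod, k']
    obtain ⟨k3, k4⟩ := NP_φ k k1 k2
    have k5 := t.diag _ (φ_lt _ _) k3
    rw [← k4, ← a.conj (h.ok.diag k2), alp_alp_alp p hp k', ← b.conj (h.ok.diag k')] at k5
    have k6 := t.diag _ k1 k2
    rw [alp_alp_alp p hp k'] at k6
    calc _ = τ⁻¹ * x⁻¹ * τ * (y * θ (pq p) * y⁻¹) * y := by group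
      _ = _ := by rw [← k5, ← k6]; group
  have k' : φ m q % 4096 = 0 := by
    have := NP_φ k (alp_lt (alp_lt h1)) (by rw [alp_mod, alp_mod, h2])
    rw [alp_alp_alp q h1 h2] at this
    rw [this.2, alp_mod, this.1]
  refine ⟨_, φ_lt m q, k', ?_⟩
  rw [← b q (h.ok.diag h2), ← h.θinv h2, ← e]; group

theorem conj_Est {e : GH} (he : e ∈ Est) (a : Act T θ e x) :
    ∃ v ∈ h.V, τ⁻¹ * x * τ = v * x := by
  obtain ⟨q, h1, h2, k⟩ := h.conj_NP t (NP_Est he) a a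
  refine ⟨_, h.mem_V (h.ok.tau3 h1 h2 ?_), k⟩
  have k1 := t.diag _ h1 h2
  have k2 := (alp_mod _).trans h2
  have k4 := (alp_mod _).trans k2
  have k3 : τ⁻¹ * (τ⁻¹ * (τ⁻¹ * x * τ) * τ) * τ = 1 * x := by
    calc _ = (τ ^ 3)⁻¹ * x * τ ^ 3 := by simp only [pow_succ, pow_zero]; group
      _ = _ := by rw [t.h3]; group
  rw [k, conj_mul' τ (θ (pq q)), k1, k, conj_mul' τ (θ (pq (alp q))), conj_mul' τ (θ (pq q)),
    t.diag _ (alp_lt h1) k2, k1, k, ← mul_assoc, ← mul_assoc, mul_left_inj,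
    ← h.θxor (h.ok.diag k4) k2, ← h.θxor (h.ok.diag (xor_diag k4 k2)) h2] at k3
  exact h.θone (Nat.xor_lt_two_pow (Nat.xor_lt_two_pow (alp_lt (alp_lt h1)) (alp_lt h1)) h1)
    (h.ok.diag (xor_diag (xor_diag k4 k2) h2)) k3

theorem conj_odd {e : GH} (he : e ∈ Est) (a : Act T θ e x) {o : ℕ} (ho : Odd o)
    (hx : x ^ o = 1) : τ⁻¹ * x * τ = x := by
  obtain ⟨v, hv, k⟩ := h.conj_Est t he a
  have k1 : (τ⁻¹ * x * τ) ^ o = 1 := by
    simpa [hx] using conj_pow (a := τ⁻¹) (b := x) (i := o)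
  obtain ⟨j, rfl⟩ := ho
  rw [k, Commute.mul_pow (h.V_comm a (Est.mem_N he) hv).symm, hx, mul_one, pow_succ, pow_mul, sq,
    h.V_sq hv, one_pow, one_mul] at k1
  rw [k, k1, one_mul]

theorem conj_y (a : Act T θ (el rYb) x) : ∃ v ∈ h.V, τ⁻¹ * x * τ = v * θ (pq pXb) := by
  obtain ⟨c, h1, h2, k⟩ := h.conj_NP t NP_yb a (h.act_pq h.ok.pp_b)
  refine ⟨_, h.mem_V (h.ok.fixE h1 h2 fun e he he' h5 hy hb => ?_), k⟩
  obtain ⟨d, b, hd⟩ := h.exists_odd he' (by decide) h5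
  have k1 := h.conj_odd t he b (by decide) hd
  have k2 := h.act_mul (h.act_mul b a (h.lt h.ok.Yb_mem)) (h.act_inv b (h.lt he'))
    (inv_mem (h.lt he'))
  rw [hy] at k2
  have k3 := (h.act_uniq a k2 (h.lt h.ok.Yb_mem)).resolve_right fun e =>
    h.pre.ne_one (eq_one_of_odd e (h.act_comm b) h.pre.mul_self hd)
  refine h.act_fix b (h.lt he') h1 (h.ok.diag h2) (mul_right_cancel (b := θ (pq pXb)) ?_)
  have k4 := b _ h.ok.pp_b
  rw [hb] at k4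
  rw [mul_assoc (θ (pq c)), k4, ← mul_assoc, mul_assoc d, ← k]
  calc _ = τ⁻¹ * d * τ * (τ⁻¹ * x * τ) := by rw [k1]
    _ = τ⁻¹ * (d * x * d⁻¹) * τ * (τ⁻¹ * d * τ) := by group
    _ = _ := by rw [k3, k1]

/-- The elements on which `τ` acts correctly modulo the four-group. -/
def G1 : Subgroup GH where
  carrier := {n | n ∈ FxS T ∧ ∃ m x y, ∃ v ∈ h.V, (n, m) ∈ NP ∧ Act T θ n x ∧ Act T θ m y ∧
    τ⁻¹ * x * τ = v * y}
  one_mem' := ⟨one_mem _, 1, 1, 1, 1, one_mem _, one_mem _, Act.one, Act.one, by simp⟩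
  mul_mem' := by
    rintro n n' ⟨hn, m, x, y, v, hv, k, a, b, e⟩ ⟨hn', m', x', y', v', hv', k', a', b', e'⟩
    exact ⟨mul_mem hn hn', _, _, _, _, mul_mem hv hv', NP_mul k k', h.act_mul a a' (h.lt hn'),
      h.act_mul b b' (h.lt ((h.ok.NP_mem k').1 hn')), by
        rw [conj_mul', e, e', mul_assoc v, ← mul_assoc y, h.V_comm b (NP_snd k) hv']; group⟩
  inv_mem' := by
    rintro n ⟨hn, m, x, y, v, hv, k, a, b, e⟩
    refine ⟨inv_mem hn, _, _, _, _, inv_mem hv, NP_inv k, h.act_inv a (h.lt hn),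
      h.act_inv b (h.lt ((h.ok.NP_mem k).1 hn)), ?_⟩
    rw [← mul_inv_rev y v, h.V_comm b (NP_snd k) hv, ← e]; group

variable {Y : Type*} [Group Y] (B : Am Y) (hB : B.ι.ker = zpowers cc)
include hB

theorem of_mem_G1 (hn : n ∈ h.G1 (τ := τ)) (k : (n, m) ∈ NP) (a : Act T θ n x) (b : Act T θ m y) :
    ∃ v ∈ h.V, τ⁻¹ * x * τ = v * y := by
  obtain ⟨hn, m', x', y', v, hv, k', a', b', e⟩ := hn
  have b'' : Act T θ m y' := by
    rcases NP_uniq B hB k' k with e | e <;> rw [e]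
    exacts [b', b'.cc']
  obtain ⟨u, hu, rfl⟩ : ∃ u ∈ h.V, x = u * x' := by
    rcases h.act_uniq a' a (h.lt hn) with e | e
    exacts [⟨1, one_mem _, by rw [e, one_mul]⟩, ⟨z, h.z_mem_V, e⟩]
  obtain ⟨w, hw, rfl⟩ : ∃ u ∈ h.V, y' = u * y := by
    rcases h.act_uniq b b'' (h.lt ((h.ok.NP_mem k).1 hn)) with e | e
    exacts [⟨1, one_mem _, by rw [e, one_mul]⟩, ⟨z, h.z_mem_V, e⟩]
  exact ⟨_, mul_mem (mul_mem (h.τ_conj_V t hu) hv) hw, by rw [conj_mul', e]; group⟩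

theorem conj_N (k : (n, m) ∈ NP) (hn : n ∈ FxS T) (a : Act T θ n x) (b : Act T θ m y) :
    ∃ v ∈ h.V, τ⁻¹ * x * τ = v * y := by
  have hE : ∀ e ∈ Est, e ∈ FxS T → e ∈ h.G1 (τ := τ) := fun e he he' => by
    obtain ⟨x, a⟩ := h.exists_act (h.le he')
    obtain ⟨v, hv, k⟩ := h.conj_Est t he a
    exact ⟨he', e, x, x, v, hv, NP_Est he, a, a, k⟩
  have hsw : ∀ n ∈ h.G1 (τ := τ), ∀ m, (n, m) ∈ NP → pq pD * m * (pq pD)⁻¹ ∈ h.G1 (τ := τ) :=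
    fun n hn m k => by
      have hm := (h.ok.NP_mem k).1 hn.1
      obtain ⟨x, a⟩ := h.exists_act (h.le hn.1)
      obtain ⟨y, b⟩ := h.exists_act (h.le hm)
      obtain ⟨v, hv, e⟩ := h.of_mem_G1 t B hB hn k a b
      refine ⟨mul_mem (mul_mem h.ok.D_mem hm) (inv_mem h.ok.D_mem), _, _, _, _,
        h.D_conj_V (h.τ_conj_V' t (inv_mem hv)), NP_swap B hB k, h.act_D b hm, h.act_D a hn.1, ?_⟩
      rw [show y = τ⁻¹ * (τ * v⁻¹ * τ⁻¹ * x) * τ by rw [← inv_mul_eq_iff_eq_mul] at e; rw [← e]; group,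
        swap_aux t.h2]
      calc _ = θ (pq pD) * (τ * v⁻¹ * τ⁻¹) * (θ (pq pD) * θ (pq pD)) * x * θ (pq pD) := by
            rw [h.θD]; group
        _ = _ := by group
  have hD : ∀ p, p % 4096 = 0 → pq p ∈ h.G1 (τ := τ) := fun p hp => by
    have h1 : p % 2 ^ 25 < 2 ^ 25 := Nat.mod_lt _ (by norm_num)
    have h2 : p % 2 ^ 25 % 4096 = 0 := by omega
    exact pq_mod p ▸ ⟨pq_mem_FxS_iff.2 (h.ok.diag h2), _, _, _, 1, one_mem _, NP_diag _ h1 h2,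
      h.act_pq (h.ok.diag h2), h.act_pq (h.ok.diag ((alp_mod _).trans h2)), by
        rw [t.diag _ h1 h2, one_mul]⟩
  have hy : el rYb ∈ h.G1 (τ := τ) := by
    obtain ⟨x, a⟩ := h.exists_act (h.le h.ok.Yb_mem)
    obtain ⟨v, hv, k⟩ := h.conj_y t a
    exact ⟨h.ok.Yb_mem, _, x, _, v, hv, NP_yb, a, h.act_pq h.ok.pp_b, k⟩
  have hQ := h.ok.genX (fun e he he' k hk => mul_mem (mul_mem (hE e he he') hk)
    (inv_mem (hE e he he'))) hD (pq_mem_of_mod (hD _ rfl) (conj_pq _ _ ▸ hsw _ hy _ NP_yb)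
      (by rw [φ_pq _ (by decide)]; rfl))
  obtain ⟨e, he, he', y', hy, hy', r, hr, rfl, -⟩ := h.ok.decomp hn (NP_fst k)
  exact h.of_mem_G1 t B hB (mul_mem (mul_mem (hQ r hr) (h.ok.YS_le B hB hsw hQ hy hy'))
    (hE e he he')) k a b

end

section

variable (h : P4 C T L z Q θ)
include h

theorem z2_ne : θ (pq pZ2) ≠ 1 ∧ θ (pq pZ2) ≠ z :=
  ⟨fun e => absurd (h.ok.sp_ev _ (h.θone (by decide) (h.ok.diag rfl) e)) (by decide),
    fun e => absurd (h.ok.sp_ev _ (h.θinj (by decide) (by decide) (h.ok.diag rfl) (Pp.pz T)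
      (e.trans h.pz.symm))) (by decide)⟩

theorem V_cases {v : X} (hv : v ∈ h.V) :
    (v = 1 ∨ v = z) ∨ (v * θ (pq pZ2) = 1 ∨ v * θ (pq pZ2) = z) := by
  obtain ⟨u, hu, rfl⟩ := hv
  simp only [show spL [pZ, pZ2] = [0, pZ2, pZ, pZ1] from rfl, List.mem_cons, List.not_mem_nil,
    or_false] at hu
  rcases hu with rfl | rfl | rfl | rfl
  exacts [Or.inl (Or.inl h.θ0), Or.inr (Or.inl (h.θsq rfl)), Or.inl (Or.inr h.pz),
    Or.inr (Or.inr (by rw [h.θZ1, mul_assoc, h.θsq rfl, mul_one]))]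

/-- The group of lifts. -/
def Lf : Subgroup (GH × X) where
  carrier := {y | y.1 ∈ FxS T ∧ Act T θ y.1 y.2}
  one_mem' := ⟨one_mem _, Act.one⟩
  mul_mem' ha hb := ⟨mul_mem ha.1 hb.1, h.act_mul ha.2 hb.2 (h.lt hb.1)⟩
  inv_mem' ha := ⟨inv_mem ha.1, h.act_inv ha.2 (h.lt ha.1)⟩

theorem exists_sec [Finite X] (t : Tau θ τ) {Y : Type*} [Group Y] (B : Am Y)
    (hB : B.ι.ker = zpowers cc) : ∃ ι, Sec T θ ι := by
  let f : h.Lf →* GH := (MonoidHom.fst _ _).comp h.Lf.subtype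
  have hf : f.range = FxS T := le_antisymm (by rintro _ ⟨y, rfl⟩; exact y.2.1) fun g hg =>
    (h.exists_act (h.le hg)).elim fun c a => ⟨⟨(g, c), hg, a⟩, rfl⟩
  let ζ : h.Lf := ⟨(1, z), one_mem _, mul_one z ▸ h.act_z Act.one (one_mem _)⟩
  have hζ : ζ ∈ center h.Lf := mem_center_iff.2 fun y =>
    Subtype.ext (Prod.ext ((mul_one _).trans (one_mul _).symm) (h.act_comm y.2.2))
  let K : Subgroup h.Lf :=
    { carrier := {y | ∃ m, (y.1.1, m) ∈ NP ∧ Act T θ m (τ⁻¹ * y.1.2 * τ)}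
      one_mem' := ⟨1, one_mem NP, by simpa using Act.one⟩
      mul_mem' := by
        rintro y y' ⟨m, k, a⟩ ⟨m', k', a'⟩
        exact ⟨_, NP_mul k k', (conj_mul' τ y.1.2 y'.1.2).symm ▸
          h.act_mul a a' (h.lt ((h.ok.NP_mem k').1 y'.2.1))⟩
      inv_mem' := by
        rintro y ⟨m, k, a⟩
        refine ⟨_, NP_inv k, ?_⟩
        convert h.act_inv a (h.lt ((h.ok.NP_mem k).1 y.2.1)) using 1
        change τ⁻¹ * y.1.2⁻¹ * τ = _
        group }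
  let Δ : Subgroup h.Lf :=
    { carrier := {y | y.1.1 ∈ QT T ∧ y.1.2 = θ y.1.1}
      one_mem' := ⟨one_mem _, (h.θ0.symm.trans (congrArg θ pq_zero) :)⟩
      mul_mem' := fun {a b} ha hb => ⟨mul_mem ha.1 hb.1,
        (congrArg₂ (· * ·) ha.2 hb.2).trans (h.mul _ ha.1 _ hb.1).symm⟩
      inv_mem' := fun {a} ha => ⟨inv_mem ha.1, (congrArg (·⁻¹) ha.2).trans (h.θinv' ha.1).symm⟩ }
  have hΔ : Δ.Normal := ⟨by
    rintro ⟨⟨a, x⟩, k⟩ ⟨h1, h2⟩ y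
    obtain ⟨p, -, hp, rfl⟩ := mem_QT.1 h1
    obtain rfl : x = θ (pq p) := h2
    refine ⟨?_, (y.2.2.conj hp).trans (congrArg θ (conj_pq _ _).symm)⟩
    change y.1.1 * pq p * y.1.1⁻¹ ∈ _
    rw [conj_pq]
    exact pq_mem_QT (h.ok.pp_φ (h.lt y.2.1) hp)⟩
  let d : ∀ p, Pp T p → h.Lf := fun p hp => ⟨(pq p, θ (pq p)), pq_mem_FxS_iff.2 hp, h.act_pq hp⟩
  have hd : ∀ p hp, d p hp ∈ Δ := fun p hp => ⟨pq_mem_QT hp, rfl⟩
  have h1 : ∀ y : h.Lf, f y ∈ FxS [pZ1] → y ∈ K ∨ y * ζ ∈ K := fun y hy => by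
    obtain ⟨m, k⟩ := exists_NP hy
    have hm := (h.ok.NP_mem k).1 y.2.1
    obtain ⟨c, b⟩ := h.exists_act (h.le hm)
    obtain ⟨v, hv, e⟩ := h.conj_N t B hB k y.2.1 y.2.2 b
    have key : ∀ w, w = 1 ∨ w = z → Act T θ m (w * c) := by
      rintro _ (rfl | rfl)
      exacts [(one_mul c).symm ▸ b, h.act_z b (h.lt hm)]
    refine (h.V_cases hv).imp (fun k' => ⟨m, k, e ▸ key v k'⟩) fun k' => ⟨m, ?_, ?_⟩
    · exact (mul_one y.1.1).symm ▸ k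
    · change Act T θ m (τ⁻¹ * (y.1.2 * z) * τ)
      rw [conj_mul', e, ← h.pz, t.diag _ (by decide) rfl, mul_assoc,
        h.V_comm b (NP_snd k) ⟨_, by decide, rfl⟩, ← mul_assoc]
      exact key _ k'
  have h2 : ∀ a b : h.Lf, f a ∈ FxS [pZ1] → f b ∈ FxS [pZ1] → a * b * a⁻¹ * b⁻¹ ∈ K := by
    have k : ∀ a : h.Lf, f a ∈ FxS [pZ1] → ∃ w ∈ center h.Lf, a * w ∈ K := fun a ha =>
      (h1 a ha).elim (fun k => ⟨1, one_mem _, by rwa [mul_one]⟩) fun k => ⟨ζ, hζ, k⟩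
    intro a b ha hb
    obtain ⟨v, hv, k1⟩ := k a ha
    obtain ⟨w, hw, k2⟩ := k b hb
    convert mul_mem (mul_mem (mul_mem k1 k2) (inv_mem k1)) (inv_mem k2) using 1
    calc _ = a * (b * w * a⁻¹ * w⁻¹) * b⁻¹ := by
          rw [mul_assoc b w, ← mem_center_iff.1 hw]; group
      _ = a * (v * (b * w) * v⁻¹) * a⁻¹ * (b * w)⁻¹ := by rw [← mem_center_iff.1 hv]; group
      _ = _ := by group
  have hD : ∀ p, p % 4096 = 0 → pq p ∈ (K ⊓ Δ).map f := fun p hp => by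
    have h1 : p % 2 ^ 25 < 2 ^ 25 := Nat.mod_lt _ (by norm_num)
    have h2 : p % 2 ^ 25 % 4096 = 0 := by omega
    exact ⟨d _ (h.ok.diag h2), ⟨⟨_, NP_diag _ h1 h2, (t.diag _ h1 h2).symm ▸
      h.act_pq (h.ok.diag ((alp_mod _).trans h2))⟩, hd _ (h.ok.diag h2)⟩, pq_mod p⟩
  have h3 := h.ok.genX (K := (K ⊓ Δ).map f) (by
    rintro e he he' _ ⟨y, ⟨k1, k2⟩, rfl⟩
    obtain ⟨c, rfl⟩ := hf.ge he'
    have := mul_mem (h2 c y (Est.mem_N he) (k1.elim fun _ k => NP_fst k.1)) k1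
    rw [inv_mul_cancel_right] at this
    exact ⟨c * y * c⁻¹, ⟨this, hΔ.conj_mem _ k2 _⟩, by simp⟩) hD (by
    obtain ⟨a, o, U⟩ := h.ok.exists_udat
    obtain ⟨q, hq, e⟩ := U.seed
    obtain ⟨k1, k2⟩ := List.forall_mem_cons.1 hq
    obtain ⟨c, rfl⟩ := hf.ge U.mem
    refine UBT.mod_of hD _ _ e.symm (xor_mem_of_div (hD _ rfl) ⟨_, ⟨h2 c (d q k2) (Est.mem_N U.est)
      (pq_mem_FxS.2 k1), Δ.mul_mem (hΔ.conj_mem _ (hd q k2) c) (inv_mem (hd q k2))⟩, ?_⟩)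
    rw [← conj_pq]; rfl)
  obtain ⟨K', k1, k2, k3⟩ := exists_ext_index_two (M := (monoSub.comap pr).comap f) (K := K ⊔ Δ) hζ
    (Subtype.ext (Prod.ext (mul_one _) h.pre.mul_self)) (by rw [index_comap, hf]; exact h.ok.odd_index)
    (sup_le (fun y hy => pr_of_mem_N (hy.elim fun _ k => NP_fst k.1)) fun y hy => by
      change pr y.1.1 ∈ monoSub
      rw [mem_QH'.1 hy.1.1]; exact one_mem _) (one_mem (monoSub.comap pr)) (fun e => by
      obtain ⟨a, ha, b, hb, e⟩ := mem_sup_of_normal_right.1 e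
      obtain ⟨p, -, hp, e'⟩ := mem_QT.1 hb.1
      obtain ⟨b', hb', k⟩ := h3 p (List.forall_mem_cons.2 ⟨pq_mem_FxS.1 (by
        rw [← e', show b.1.1 = a.1.1⁻¹ from eq_inv_of_mul_eq_one_right (congrArg f e)]
        exact inv_mem (ha.elim fun _ k => NP_fst k.1)), hp⟩)
      obtain rfl : b' = b := Subtype.ext (Prod.ext (k.trans e'.symm)
        (hb'.2.2.trans ((congrArg θ (k.trans e'.symm)).trans hb.2.symm)))
      obtain ⟨m, c1, c2⟩ := e ▸ mul_mem ha hb'.1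
      have c3 : Act T θ 1 (θ (pq pZ2)) := by
        change Act T θ m (τ⁻¹ * z * τ) at c2
        rw [← h.pz, t.diag _ (by decide) rfl] at c2
        rcases NP_uniq B hB c1 (one_mem NP) with e | e <;> rw [e]
        exacts [c2, c2.cc']
      exact (h.act_one c3).elim h.z2_ne.1 h.z2_ne.2) fun y hy => by
      rcases pr_mem_monoSub.1 hy with e | e
      · exact (h1 y ((mem_FxS_one pZ1_lt).2 e)).imp (fun k => mem_sup_left k) fun k => mem_sup_left k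
      · have hδ : (d _ h.ok.pp_D)⁻¹ ∈ K ⊔ Δ := mem_sup_right (inv_mem (hd _ h.ok.pp_D))
        refine (h1 (d _ h.ok.pp_D * y) ((mem_FxS_one pZ1_lt).2 (by
          rw [map_mul, φ_mul, e]; exact φ_pq _ (by decide)))).imp (fun k => ?_) fun k => ?_ <;>
          simpa [mul_assoc] using mul_mem hδ (mem_sup_left k)
  have hu : ∀ a ∈ K', ∀ b ∈ K', a.1.1 = b.1.1 → a.1.2 = b.1.2 := fun a ha b hb e => by
    refine (h.act_uniq b.2.2 (e ▸ a.2.2) (h.lt b.2.1)).resolve_right fun k => k1 ?_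
    convert mul_mem ha (inv_mem hb)
    exact Subtype.ext (Prod.ext (eq_mul_inv_of_mul_eq ((one_mul _).trans e.symm))
      (eq_mul_inv_of_mul_eq k.symm))
  have he : ∀ g, ∃ x, ∀ hg : g ∈ FxS T, ∃ a : Act T θ g x, (⟨(g, x), hg, a⟩ : h.Lf) ∈ K' := fun g => by
    by_cases hg : g ∈ FxS T
    · obtain ⟨y, rfl⟩ := hf.ge hg
      rcases k2 y with k | k
      · exact ⟨_, fun _ => ⟨y.2.2, k⟩⟩
      · refine ⟨y.1.2 * z, fun _ => ⟨mul_one (f y) ▸ (y * ζ).2.2, ?_⟩⟩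
        convert k
        exact Subtype.ext (Prod.ext (mul_one _).symm rfl)
    · exact ⟨1, fun k => absurd k hg⟩
  choose ι a hι using he
  refine ⟨ι, fun g hg g' hg' => hu _ (hι _ (mul_mem hg hg')) _ (mul_mem (hι g hg) (hι g' hg')) rfl, a,
    fun p hp => hu _ (hι _ (pq_mem_FxS_iff.2 hp)) _ (k3 Δ hΔ le_sup_right (hd p hp)) rfl, ?_⟩
  let c : h.Lf := ⟨(cc, 1), cc_mem_FxS T, act_cc⟩
  exact hu _ (hι _ (cc_mem_FxS T)) c (k3 (zpowers c) (normal_of_le_center' (zpowers_le.2 (mem_center_iff.2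
    fun y => Subtype.ext (Prod.ext (cc_comm _) ((mul_one _).trans (one_mul _).symm)))))
    (zpowers_le.2 (mem_sup_left ⟨1, NP_cc1, by simpa [c] using Act.one (T := T) (θ := θ)⟩)) (mem_zpowers c)) rfl

end

section

variable (h : P4 C T L z Q θ) (t : Tau θ τ) (s : Sec T θ ι) {Y : Type*} [Group Y] (B : Am Y)
  (hB : B.ι.ker = zpowers cc)
include h s hB

theorem of_mem_G0 (hn : n ∈ s.G0 h.ok τ) (k : (n, m) ∈ NP) : τ⁻¹ * ι n * τ = ι m := by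
  obtain ⟨hn, m', k', e⟩ := hn
  rw [e, s.eq_of ((h.ok.NP_mem k').1 hn) (NP_uniq B hB k' k)]

include t

theorem G0_sw : ∀ n ∈ s.G0 h.ok τ, ∀ m, (n, m) ∈ NP → pq pD * m * (pq pD)⁻¹ ∈ s.G0 h.ok τ :=
  fun n hn m k => by
    have hm := (h.ok.NP_mem k).1 hn.1
    refine ⟨mul_mem (mul_mem h.ok.D_mem hm) (inv_mem h.ok.D_mem), _, NP_swap B hB k, ?_⟩
    rw [s.conj h.ok.D_mem hm, s.conj h.ok.D_mem hn.1, s.pq _ h.ok.pp_D, h.θD_inv,
      ← h.of_mem_G0 s B hB hn k, swap_aux t.h2]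

theorem G0_comm {a b : GH} (ha : a ∈ FxS T) (ha' : a ∈ FxS [pZ1]) (hb : b ∈ FxS T)
    (hb' : b ∈ FxS [pZ1]) : a * b * a⁻¹ * b⁻¹ ∈ s.G0 h.ok τ := by
  obtain ⟨c, k⟩ := exists_NP ha'
  obtain ⟨d, k'⟩ := exists_NP hb'
  have hc := (h.ok.NP_mem k).1 ha
  have hd := (h.ok.NP_mem k').1 hb
  obtain ⟨v, hv, e⟩ := h.conj_N t B hB k ha (s.act _ ha) (s.act _ hc)
  obtain ⟨w, hw, e'⟩ := h.conj_N t B hB k' hb (s.act _ hb) (s.act _ hd)
  refine ⟨mul_mem (mul_mem (mul_mem ha hb) (inv_mem ha)) (inv_mem hb), _,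
    NP_mul (NP_mul (NP_mul k k') (NP_inv k)) (NP_inv k'), ?_⟩
  have := comm_central (h.V_comm (s.act _ hc) (NP_snd k) hv).symm
    (h.V_comm (s.act _ hd) (NP_snd k') hv).symm (show v * w = w * v by
      rw [← inv_eq_of_mul_eq_one_right (h.V_sq (mul_mem hv hw)), mul_inv_rev,
        inv_eq_of_mul_eq_one_right (h.V_sq hv), inv_eq_of_mul_eq_one_right (h.V_sq hw)])
    (h.V_comm (s.act _ hc) (NP_snd k) hw).symm (h.V_comm (s.act _ hd) (NP_snd k') hw).symm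
  rw [s.mul _ (mul_mem (mul_mem ha hb) (inv_mem ha)) _ (inv_mem hb), s.conj ha hb, s.inv hb,
    s.mul _ (mul_mem (mul_mem hc hd) (inv_mem hc)) _ (inv_mem hd), s.conj hc hd, s.inv hd,
    ← commutatorElement_def (ι c), ← this, ← e, ← e', commutatorElement_def]
  group

theorem G0_D (p : ℕ) (hp : p % 4096 = 0) : pq p ∈ s.G0 h.ok τ := by
  have h1 : p % 2 ^ 25 < 2 ^ 25 := Nat.mod_lt _ (by norm_num)
  have h2 : p % 2 ^ 25 % 4096 = 0 := by omega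
  exact pq_mod p ▸ ⟨pq_mem_FxS_iff.2 (h.ok.diag h2), _, NP_diag _ h1 h2, by
    rw [s.pq _ (h.ok.diag h2), s.pq _ (h.ok.diag ((alp_mod _).trans h2)), t.diag _ h1 h2]⟩

theorem G0_Q : ∀ p, Pp (pZ1 :: T) p → pq p ∈ s.G0 h.ok τ := by
  have hD := h.G0_D t s B hB
  refine h.ok.genX (fun e he he' k hk => ?_) hD ?_
  · simpa using mul_mem (h.G0_comm t s B hB he' (Est.mem_N he) hk.1
      (hk.2.elim fun _ k => NP_fst k.1)) hk
  obtain ⟨a, o, U⟩ := h.ok.exists_udat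
  obtain ⟨q, hq, e⟩ := U.seed
  obtain ⟨k1, k2⟩ := List.forall_mem_cons.1 hq
  exact UBT.mod_of hD _ _ e.symm (xor_mem_of_div (hD _ rfl) (conj_pq a q ▸
    h.G0_comm t s B hB U.mem (Est.mem_N U.est) (pq_mem_FxS_iff.2 k2) (pq_mem_FxS.2 k1)))

theorem G0_Y {y : GH} (hy : y ∈ YS) (hy' : y ∈ FxS T) : y ∈ s.G0 h.ok τ :=
  h.ok.YS_le B hB (h.G0_sw t s B hB) (h.G0_Q t s B hB) hy hy'

theorem G0_E {e : GH} (he : e ∈ Est) (he' : pr e ∈ StT T) : e ∈ s.G0 h.ok τ :=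
  h.ok.genE (K := s.G0 h.ok τ) (fun e he he' n hn k => ⟨he', e, NP_Est he,
    h.conj_odd t he (s.act e he') hn (by rw [← s.pow he', k, s.one])⟩)
    (fun p hp => h.G0_D t s B hB p hp.diag) he he'

theorem G0_N (k : T = [pT] → ∃ n ∈ s.G0 h.ok τ, φ n pT2 = pT2 ^^^ pW) (hn : n ∈ FxS T)
    (hn' : n ∈ FxS [pZ1]) : n ∈ s.G0 h.ok τ := by
  obtain ⟨e, he, he', y, hy, hy', r, hr, rfl, -⟩ := h.ok.decomp hn hn'
  refine mul_mem (mul_mem (h.G0_Q t s B hB r hr) (h.G0_Y t s B hB hy hy')) ?_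
  rcases h.ok.Est_cases he he' with c | ⟨c1, c2⟩
  · exact h.G0_E t s B hB he c
  obtain ⟨n, k1, k2⟩ := k c1
  obtain ⟨d, hd, hd', y, hy, hy', r, hr, k3, k4⟩ := h.ok.decomp k1.1
    (k1.2.elim fun _ k => NP_fst k.1)
  have k5 := k4 pT2 (by decide)
  have k6 := Ev.eq_of_xor (Ev.φ hd (by decide : Ev pT2)) (by decide : Ev (pT2 ^^^ pW)) k5
    (by rw [k2, Nat.xor_xor_cancel_left])
  have k7 := swap_of_T2 hd (h.ok.le_H hd') (by rw [← k2]; exact (Nat.xor_eq_zero_iff.1 k6).symm)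
  have k8 : d ∈ s.G0 h.ok τ := by
    have := mul_mem (inv_mem (mul_mem (h.G0_Q t s B hB r hr) (h.G0_Y t s B hB hy hy'))) k1
    rwa [k3, inv_mul_cancel_left] at this
  have := mul_mem k8 (h.G0_E t s B hB (EstS.mul_mem (EstS.inv_mem hd) he) ⟨by
    rw [map_mul, map_inv, mul_smul, c2, ← k7, inv_smul_smul], fun k => by
      rw [c1] at k; exact absurd k (by decide)⟩)
  rwa [mul_inv_cancel_left] at this

end

section
variable {Y : Type*} [Group Y] (B : Am Y) (hB : B.ι.ker = zpowers cc)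

variable (h : P4 C T L z Q θ) (t : Tau θ τ) (s : Sec T θ ι)
include h s

theorem stp_iff (hk : k ∈ FxS T) (hk' : k' ∈ FxS T) (v : X) :
    τ⁻¹ * ι ((el rN1)⁻¹ * k * el rN1) * τ = v * ι (pq pD * k' * (pq pD)⁻¹) ↔
      ι k * (ι (el rN1) * τ * θ (pq pD)) =
        ι (el rN1) * τ * θ (pq pD) * ((θ (pq pD))⁻¹ * v * θ (pq pD) * ι k') := by
  have h1 := h.ok.n1_mem
  rw [s.mul _ (mul_mem (inv_mem h1) hk) _ h1, s.mul _ (inv_mem h1) _ hk, s.inv h1,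
    s.conj h.ok.D_mem hk', s.pq _ h.ok.pp_D]
  refine ⟨fun e => ?_, fun e => ?_⟩
  · calc _ = ι (el rN1) * τ * (τ⁻¹ * ((ι (el rN1))⁻¹ * ι k * ι (el rN1)) * τ) * θ (pq pD) := by group
      _ = _ := by rw [e]; group
  · calc _ = τ⁻¹ * (ι (el rN1))⁻¹ * (ι k * (ι (el rN1) * τ * θ (pq pD))) * (θ (pq pD))⁻¹ := by group
      _ = _ := by rw [e]; group

include t

theorem rho_conj {q : ℕ} (hq : q < 2 ^ 25) (hd : q % 4096 = 0) :
    ι (el rN1) * τ * θ (pq pD) * θ (pq q) =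
      θ (pq (φ (el rN1) (alp (alp (φ (pq pD) q))))) * (ι (el rN1) * τ * θ (pq pD)) := by
  have h0 : φ (pq pD) q % 4096 = 0 := by
    rw [φ_pq _ hq]; exact xor_diag hd (by rw [Nat.shiftLeft_eq]; omega)
  have h1 : alp (alp (φ (pq pD) q)) % 4096 = 0 := by rw [alp_mod, alp_mod, h0]
  have h2 := t.diag _ (alp_lt (alp_lt (φ_lt _ _))) h1
  rw [alp_alp_alp _ (φ_lt _ _) h0] at h2
  rw [mul_assoc, h.act_pq h.ok.pp_D q (h.ok.diag hd), ← h2, ← mul_assoc (θ _) (_ * τ),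
    ← mul_assoc (θ _) _ τ, ← s.act _ h.ok.n1_mem _ (h.ok.diag h1)]
  group

theorem rho_z : ι (el rN1) * τ * θ (pq pD) * z = θ (pq pW) * (ι (el rN1) * τ * θ (pq pD)) := by
  have := h.rho_conj t s (q := pZ) (by decide) rfl
  rwa [φ_pZ, h.pz, show alp (alp pZ) = pZ1 from rfl, φ_N1_Z1] at this

theorem rho_w : ι (el rN1) * τ * θ (pq pD) * θ (pq pW) =
    θ (pq pZ1) * (ι (el rN1) * τ * θ (pq pD)) := by
  have := h.rho_conj t s (q := pW) (by decide) rfl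
  rwa [φ_pq _ (by decide), show alp (alp (pW ^^^ pcomm pD pW <<< 24)) = pW by decide,
    φ_N1_W] at this

theorem rho_z1 : ι (el rN1) * τ * θ (pq pD) * θ (pq pZ1) = z * (ι (el rN1) * τ * θ (pq pD)) := by
  have := h.rho_conj t s (q := pZ1) (by decide) rfl
  rwa [φ_pq _ (by decide), show alp (alp (pZ1 ^^^ pcomm pD pZ1 <<< 24)) = pZ by decide,
    φ_pZ, h.pz] at this

include hB

theorem stp_G0 (a : Stp k k') (hk : (el rN1)⁻¹ * k * el rN1 ∈ s.G0 h.ok τ) :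
    ι k * (ι (el rN1) * τ * θ (pq pD)) = ι (el rN1) * τ * θ (pq pD) * ι k' := by
  have h1 : k ∈ FxS T := (mul_mem_cancel_left (inv_mem h.ok.n1_mem)).1
    ((mul_mem_cancel_right h.ok.n1_mem).1 hk.1)
  simpa using (h.stp_iff s h1 (a.mem h.ok h1) 1).1 ((h.of_mem_G0 s B hB hk a).trans (one_mul _).symm)

theorem stp_Y (a : Stp k k') (hk : k ∈ FxS T) (e : pr k' = 1 ∨ pr k' = co0Neg) :
    ι k * (ι (el rN1) * τ * θ (pq pD)) = ι (el rN1) * τ * θ (pq pD) * ι k' :=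
  h.stp_G0 B hB t s a (h.G0_Y t s B hB (YS_of a (pm_conj _ e)) (Stp.fst h.ok hk))

theorem stp_Q {p : ℕ} (a : Stp (pq p) k') (hp : Pp T p) :
    ι (pq p) * (ι (el rN1) * τ * θ (pq pD)) = ι (el rN1) * τ * θ (pq pD) * ι k' := by
  have h1 := Stp.fst h.ok (pq_mem_FxS_iff.2 hp)
  have h2 := NP_fst a
  have e := conj_pq (el rN1)⁻¹ p
  rw [inv_inv] at e
  rw [e] at h1 h2
  exact h.stp_G0 B hB t s a (e ▸ h.G0_Q t s B hB _
    (List.forall_mem_cons.2 ⟨pq_mem_FxS.1 h2, pq_mem_FxS_iff.1 h1⟩))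

theorem rho_diag : ∃ q < 2 ^ 25, q % 4096 = 0 ∧ (ι (el rN1) * τ * θ (pq pD)) ^ 3 = θ (pq q) :=
  h.of_comm fun p hp hd => by
    have h0 := h.ok.diag hd
    obtain ⟨k1, k2, k3, a1, a2, a3, e⟩ := exists_chain B hB (pq_mem_FxS_iff.2
      (show Pp [pZ1, pW] p from fun u hu => pcomm_diag hd (by revert u; decide)))
    have h1 := a1.mem h.ok (pq_mem_FxS_iff.2 h0)
    have := conj_three (h.stp_Q B hB t s a1 h0) (h.stp_Y B hB t s a2 h1 (a3.pm B hB hp hd e))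
      (h.stp_Y B hB t s a3 (a2.mem h.ok h1) (pm_of e))
    rw [s.eq_of (pq_mem_FxS_iff.2 h0) e, s.pq p h0] at this
    exact this.symm

theorem rho_perp {q : ℕ} (hq : q < 2 ^ 25) (hd : q % 4096 = 0)
    (e : (ι (el rN1) * τ * θ (pq pD)) ^ 3 = θ (pq q)) {p : ℕ} (hp : Pp (pZ1 :: pW :: T) p) :
    pcomm p q = 0 ∧ ∃ k1, Stp (pq p) k1 ∧ (el rN1)⁻¹ * k1 * el rN1 ∈ s.G0 h.ok τ := by
  obtain ⟨b1, b2⟩ := List.forall_mem_cons.1 hp
  obtain ⟨b2, h0⟩ := List.forall_mem_cons.1 b2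
  obtain ⟨k1, k2, k3, a1, a2, a3, e'⟩ := exists_chain B hB (pq_mem_FxS_iff.2
    (show Pp [pZ1, pW] p from List.forall_mem_cons.2 ⟨b1, List.forall_mem_singleton.2 b2⟩))
  have h1 := a1.mem h.ok (pq_mem_FxS_iff.2 h0)
  have h2 := a2.mem h.ok h1
  have h3 := Stp.fst h.ok h1
  obtain ⟨v, hv, c⟩ := h.conj_N t B hB a2 h3 (s.act _ h3) (s.act _ ((h.ok.NP_mem a2).1 h3))
  have c2 := (h.stp_iff s h1 h2 v).1 c
  have c3 := h.stp_Y B hB t s a3 h2 (pm_of e')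
  have c1 := h.stp_Q B hB t s a1 h0
  have hz := h.rho_z t s
  have hv' := h.D_conj_V hv
  rw [s.eq_of (pq_mem_FxS_iff.2 h0) e', s.pq p h0] at c3
  rw [s.pq p h0] at c1
  rw [h.θD_inv] at c2
  generalize ι (el rN1) * τ * θ (pq pD) = ρ at *
  have c4 := conj_three c1 c2 (show _ = ρ * (ρ⁻¹ * (θ (pq pD) * v * θ (pq pD)) * ρ * θ (pq p)) by
    rw [mul_assoc, c3]; group)
  rw [e] at c4
  rcases (by have := pcomm_lt p q; omega : pcomm p q = 0 ∨ pcomm p q = 1) with k | k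
  · rw [h.θcomm h0 (h.ok.diag hd) k, mul_right_inj, eq_comm, mul_eq_right, mul_assoc,
      inv_mul_eq_one, eq_comm, mul_eq_right, ← h.θD_inv, mul_assoc, inv_mul_eq_one, h.θD_inv,
      eq_comm, mul_eq_right] at c4
    exact ⟨k, k1, a1, h3, _, a2, by rw [c, c4, one_mul]⟩
  have c5 := h.act_pq h0 q (h.ok.diag hd)
  rw [φ_pq_of_anti hq k, h.θneg (h.ok.diag hd), c4, ← h.zcomm (h.ok.diag hd), mul_assoc (θ (pq q)),
    mul_right_inj, mul_left_inj, mul_assoc, inv_mul_eq_iff_eq_mul, hz, mul_left_inj] at c5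
  obtain ⟨u, hu, c6⟩ := c5 ▸ hv'
  obtain ⟨u1, u2, u3⟩ : u < 2 ^ 25 ∧ u % 4096 = 0 ∧ pW ^^^ u ∉ spL T := by
    clear c6; revert u; rcases h.ok with rfl | rfl <;> decide
  exact absurd (h.θinj (by decide) u1 (h.ok.diag rfl) (h.ok.diag u2) c6) u3

theorem hN {n m : GH} (hn : n ∈ FxS T) (k : (n, m) ∈ NP) : τ⁻¹ * ι n * τ = ι m := by
  refine h.of_mem_G0 s B hB (h.G0_N t s B hB (fun e => ?_) hn (NP_fst k)) k
  obtain ⟨q, h1, h2, c⟩ := h.rho_diag B hB t s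
  obtain ⟨-, k1, a, b⟩ := h.rho_perp B hB t s h1 h2 c (p := 8) (by rw [e]; decide)
  exact ⟨_, b, a.swap⟩

theorem rho_cases : (ι (el rN1) * τ * θ (pq pD)) ^ 3 = 1 ∨
    (ι (el rN1) * τ * θ (pq pD)) ^ 3 = θ (pq pW) * (z * θ (pq pZ1)) := by
  obtain ⟨q, h1, h2, e⟩ := h.rho_diag B hB t s
  have h3 : q % 2 ^ 24 ∈ spL (pZ2 :: pW :: T) := mem_spL_of_perp (List.forall_mem_cons.2 ⟨by decide,
    List.forall_mem_cons.2 ⟨by decide, h.ok.lt24⟩⟩) fun p _ hp =>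
      (h.rho_perp B hB t s h1 h2 e (List.forall_mem_cons.2 ⟨(pcomm_congr (q := pZ1) (q' := pZ2)
        rfl rfl).trans (hp _ List.mem_cons_self), (List.forall_mem_cons.1 hp).2⟩)).1
  have h4 := h.rho_conj t s h1 h2
  rw [← e, ← pow_succ', pow_succ, mul_left_inj, e, φ_pq _ h1] at h4
  have h5 := h.θinj (φ_lt _ _) h1 (h.ok.pp_φ (h.lt h.ok.n1_mem) (h.ok.diag (by
    rw [alp_mod, alp_mod]; exact xor_diag h2 (by rw [Nat.shiftLeft_eq]; omega)))) (h.ok.diag h2)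
    h4.symm
  have h6 : q ∈ spL (pZ :: pZ2 :: pW :: T) := mem_spL_cons.2 (by
    rcases eq_or_neg_of_mod h1 (q := q % 2 ^ 24) (by omega) (Nat.mod_mod _ _).symm with k | k
    · exact Or.inl (k ▸ h3)
    · exact Or.inr (by rw [k, show pZ = 2 ^ 24 from rfl, Nat.xor_xor_cancel_right]; exact h3))
  refine (h.ok.rho h6 h5).imp (fun k => by rw [e, h.θsp k]) fun k => ?_
  rw [e, ← h.θeq (h.ok.diag h2) k, ← h.θZ2]
  exact h.θxor (p := pW) (q := pZ2) (h.ok.diag rfl) rfl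

theorem tri : (ι (el rN1) * τ * θ (pq pD)) ^ 3 = 1 := by
  refine (h.rho_cases B hB t s).resolve_right fun e => h.pre.ne_one ?_
  have hn := h.ok.n1_mem
  have zc : ∀ g ∈ FxS T, Commute (ι g) z := fun g hg => h.act_comm (s.act g hg)
  have zz := h.pre.mul_self
  have a1 : ι (el rN1) * ι (el rN1) = 1 := by
    rw [← s.mul _ hn _ hn, s.eq_of (one_mem _) (N1_sq.imp_right fun e => e.trans (cc_comm 1).symm),
      s.one]
  have a2 : (z * ι (el rN1) * τ * θ (pq pD)) ^ 3 = 1 := by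
    rw [mul_assoc z, mul_assoc z]
    exact cube_aux (h.rho_z t s) (h.rho_w t s) e zz (h.θsq rfl) (h.θsq rfl)
      (h.zcomm (h.ok.diag rfl)) (h.θcomm (h.ok.diag rfl) (h.ok.diag rfl) (by decide))
  obtain ⟨m, k⟩ := exists_NP n1_D_mem
  have hm := mul_mem (mul_mem hn h.ok.D_mem) (inv_mem hn)
  have hm' := (h.ok.NP_mem k).1 hm
  have hd := mul_mem (mul_mem h.ok.D_mem hm') (inv_mem h.ok.D_mem)
  have hg := mul_mem hn hd
  have a3 := braid_aux (m := ι m) (by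
    rw [mul_assoc, ← mul_assoc (ι _), (zc _ hn).eq, mul_assoc, a1, mul_one, zz]) h.θD t.h2 t.h3 a2
    (by
      have := zc _ hm
      rw [← h.hN B hB t s hm k, ← mul_inv_eq_iff_eq_mul.2 this.symm.eq, s.conj hn h.ok.D_mem,
        s.pq _ h.ok.pp_D]
      group)
  have a4 := braid_aux (m := B.ι m) (by rw [← map_mul]; rcases N1_sq with k | k <;> simp [k, B.ι_cc])
    (by rw [← map_mul, pD_sq1, map_one]) (by rw [B.τδτ, ← map_inv, pD_inv]) B.h3 B.tri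
    (by simpa using B.hN _ k)
  rw [← map_inv, ← map_mul, ← map_mul, ← map_mul, ← map_pow, ← map_one B.ι, eq_comm,
    map_eq_iff hB] at a4
  rwa [← s.pq _ h.ok.pp_D, ← s.conj h.ok.D_mem hm', mul_assoc, ← s.mul _ hn _ hd,
    (zc _ hg).symm.mul_pow, ← s.pow hg, s.eq_of (one_mem _) a4, s.one, mul_one, pow_succ, sq, zz,
    one_mul] at a3

end

end P4

/-- **The amalgam.** -/
theorem P3.exists_am [Finite X] (h' : P3 C T L z Q θ)
    (hc : Nat.card Q = 2 ^ (25 - 2 * T.length)) {Sg : Set Co0}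
    (hr : RankOK T Sg) (hS : ∀ g : FxS [pT], g.1 ∈ L → prS g ∈ Sg) {g : X} (h0 : g * z * g⁻¹ ∈ Q)
    (h0' : g * z * g⁻¹ ≠ z) {Y : Type*} [Group Y] (B : Am Y) (hB : B.ι.ker = zpowers cc) :
    ∃ S : Sys GH X, IsAm T S ∧ (∀ g ∈ FxS T, Act T θ g (S.ι g)) ∧
      (∀ p, Pp T p → S.ι (pq p) = θ (pq p)) ∧ S.τ * z * S.τ⁻¹ = θ (pq pZ1) ∧
      S.τ ∈ Q ⊔ MulAut.conj S.τ • Q := by
  have h := h'.p4 hc hr hS h0 h0'
  obtain ⟨R, hp, hD⟩ : ∃ R, LXPair Q R z (θ (pq pZ1)) ∧ ∀ p, p % 4096 = 0 → θ (pq p) ∈ R := by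
    obtain ⟨c, hc', e, hD, -⟩ := h'.move hc hr hS h0 h0'
    exact ⟨_, e ▸ h.pre.pair (h'.shift h0 h0' hc').2 (h'.shift h0 h0' hc').1, hD⟩
  obtain ⟨τ, hτ, t⟩ := h.exists_tau hc hp hD
  obtain ⟨ι, s⟩ := h.exists_sec t B hB
  have e : τ * z * τ⁻¹ = θ (pq pZ1) := by
    rw [← h.pz, ← show _ = θ (pq pZ) from t.diag pZ1 (by decide) rfl]; group
  obtain ⟨k, rfl, e'⟩ := hp.cj
  refine ⟨⟨FxS T, ι, τ, s.mul⟩, ⟨rfl, s.cc, fun n hn m _ k => h.hN B hB t s hn k, ?_, t.h3, ?_⟩,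
    s.act, s.pq, e, h.pre.conj_eq_of_conj_eq (e.trans e') ▸ hτ⟩
  · change (τ * ι _) ^ 2 = 1
    rw [s.pq _ h.ok.pp_D, sq, ← mul_assoc, t.h2, h.θD]
  · change (ι _ * τ * ι _) ^ 3 = 1
    rw [s.pq _ h.ok.pp_D, h.tri B hB t s]


end Cfsg.Lib.Mon
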