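import Cfsg.Agent.Mon.MStruct
import Cfsg.Agent.Mon.FrozenOK
import Cfsg.Agent.SporChar.Co1Inv

/-! The involutions of the Monster amalgam: every involution of `ι GH` is conjugate to `z` or `t`. -/

set_option autoImplicit false

namespace Cfsg.Lib.Mon

open Cfsg Subgroup Cfsg.Lib.Spor Cfsg.Lib.Spor.CK Cfsg.Lib.Spor.Bulk Cfsg.Lib.SporChar Kit

theorem φ_xor_mod (g : GH) (a b : ℕ) :
    φ g (a ^^^ b) % 2 ^ 24 = φ g a % 2 ^ 24 ^^^ φ g b % 2 ^ 24 := by
  rw [← pmul_mod, ← φ_pmul]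
  obtain ⟨x, hx⟩ := cls_surj (Nat.mod_lt (a ^^^ b) (by norm_num : 0 < 2 ^ 24))
  rw [φ_cls g hx.symm, φ_cls g (x := x) (by rw [pmul_mod, hx, Nat.xor_mod_two_pow])]

theorem φ_congr_mod (g : GH) {a b : ℕ} (h : a % 2 ^ 24 = b % 2 ^ 24) :
    φ g a % 2 ^ 24 = φ g b % 2 ^ 24 := by
  obtain ⟨x, hx⟩ := cls_surj (Nat.mod_lt a (by norm_num : 0 < 2 ^ 24))
  rw [φ_cls g hx.symm, φ_cls g (x := x) (by rw [hx, h])]

theorem exists_pq_inv (q : ℕ) : ∃ q', q' % 2 ^ 24 = q % 2 ^ 24 ∧ (pq q)⁻¹ = pq q' := by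
  obtain ⟨q', -, h⟩ := mem_QH.1 (QH.inv_mem (pq_mem_QH q))
  refine ⟨q', mod_eq_of_mem_zpowers ?_, h⟩
  rw [← h, ← mul_inv_rev, pq_mul, pmul_self]
  refine inv_mem ?_
  rcases Nat.le_one_iff_eq_zero_or_eq_one.1 (Nat.lt_succ_iff.1 (par_lt ((q >>> 12) &&& q))) with e | e <;>
    rw [e]
  · rw [Nat.zero_shiftLeft, pq_zero]; exact one_mem _
  · exact mem_zpowers _

/-- Certificate: the fixed classes of the tableau `F` are commutators modulo the span of `Rs`. -/
noncomputable def fixB (F : ℕ) (Qs Rs Is : List ℕ) : Bool := allR (fun k =>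
  band (Nat.blt (Is.getD k 0) (2 ^ Rs.length)) (Nat.beq (2 ^ k) ((Qs.getD k 0 ^^^ tmul 1 F (Qs.getD k 0) ^^^
    xorComb Rs (Is.getD k 0) ^^^ xorComb Qs ((2 ^ k ^^^ tk F k) % 2 ^ 24)) % 2 ^ 24))) 0 24

theorem fixB_spec {F : ℕ} {Qs Rs Is : List ℕ} (h : fixB F Qs Rs Is = true) {n : GH}
    (hF : ∀ k < 24, φ n (2 ^ k) = tk F k) {p : ℕ} (hp : φ n p % 2 ^ 24 = p % 2 ^ 24) :
    ∃ q, ∃ i < 2 ^ Rs.length, (p ^^^ q ^^^ φ n q) % 2 ^ 24 = xorComb Rs i % 2 ^ 24 := by
  have key : ∀ x < 2 ^ 24, ∃ q, ∃ i < 2 ^ Rs.length, x % 2 ^ 24 = (q ^^^ φ n q ^^^ xorComb Rs i ^^^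
      xorComb Qs ((x ^^^ φ n x) % 2 ^ 24)) % 2 ^ 24 := by
    refine bit_induction ⟨0, 0, by positivity, by simp [φ_zero, xorComb_zero]⟩ ?_
    rintro k hk x hx ⟨q, i, hi, e⟩
    have h1 := allR_zero_iff.1 h k hk
    have h2 := Nat.eq_of_beq_eq_true (band_right h1)
    rw [tmul_one hF, ← hF k hk] at h2
    refine ⟨q ^^^ Qs.getD k 0, i ^^^ Is.getD k 0,
      Nat.xor_lt_two_pow hi (by simpa using band_left h1), ?_⟩
    have h3 : (x ^^^ 2 ^ k ^^^ φ n (x ^^^ 2 ^ k)) % 2 ^ 24 =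
        (x ^^^ φ n x) % 2 ^ 24 ^^^ (2 ^ k ^^^ φ n (2 ^ k)) % 2 ^ 24 := by
      simp only [Nat.xor_mod_two_pow, φ_xor_mod]
      ac_rfl
    have h4 : 2 ^ k % 2 ^ 24 = 2 ^ k := Nat.mod_eq_of_lt (Nat.pow_lt_pow_right (by norm_num) hk)
    rw [← xor_pow_eq_add hx, h3, xorComb_xor, xorComb_xor, Nat.xor_mod_two_pow (a := x), e, h4]
    conv_lhs => rw [h2]
    simp only [Nat.xor_mod_two_pow, φ_xor_mod]
    ac_rfl
  obtain ⟨q, i, hi, e⟩ := key _ (Nat.mod_lt p (by norm_num : 0 < 2 ^ 24))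
  refine ⟨q, i, hi, ?_⟩
  have h0 : (p % 2 ^ 24 ^^^ φ n (p % 2 ^ 24)) % 2 ^ 24 = 0 := by
    rw [Nat.xor_mod_two_pow, φ_congr_mod n (Nat.mod_mod p _), hp, Nat.mod_mod, Nat.xor_self]
  rw [h0, xorComb_zero, Nat.mod_mod, Nat.xor_zero] at e
  simp only [Nat.xor_mod_two_pow] at e ⊢
  rw [e, Nat.xor_assoc _ (q % _), Nat.xor_comm _ (xorComb Rs i % _), Nat.xor_assoc, Nat.xor_self,
    Nat.xor_zero]

namespace Am

variable {X : Type*} [Group X] (A : Am X)

/-- The subgroup generated by the amalgam. -/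
def PG : Subgroup X := closure (Set.range A.ι ∪ {A.τ})

theorem ι_mem_PG (g : GH) : A.ι g ∈ A.PG := subset_closure (Or.inl ⟨g, rfl⟩)

theorem τ_mem_PG : A.τ ∈ A.PG := subset_closure (Or.inr rfl)

/-- If `x` is an involution, it is conjugate to `z` or `t`. -/
def Ok (x : X) : Prop := x * x = 1 → x ≠ 1 →
  ∃ y ∈ A.PG, y * x * y⁻¹ = A.ι (pq pZ) ∨ y * x * y⁻¹ = A.ι (pq pT)

variable {A}

theorem Ok.of_conj {x y : X} (hy : y ∈ A.PG) (h : A.Ok (y * x * y⁻¹)) : A.Ok x := fun h2 h1 => by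
  obtain ⟨u, hu, e⟩ := h (by rw [conj_mul, h2]; simp) (by rwa [Ne, conj_eq_one_iff])
  exact ⟨u * y, mul_mem hu hy, by simpa only [mul_inv_rev, mul_assoc] using e⟩

theorem Ok.of_GH {g : GH} (k : GH) (h : A.Ok (A.ι (k * g * k⁻¹))) : A.Ok (A.ι g) :=
  Ok.of_conj (A.ι_mem_PG k) (by simpa using h)

theorem Ok.of_NP {n m : GH} (e : (n, m) ∈ NP) (h : A.Ok (A.ι m)) : A.Ok (A.ι n) :=
  Ok.of_conj (inv_mem A.τ_mem_PG) (by rw [inv_inv, A.hN _ e]; exact h)

theorem ι_cc_mul (hk : A.ι.ker = zpowers cc) (g : GH) : A.ι (cc * g) = A.ι g := by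
  rw [map_mul, show A.ι cc = 1 from (hk ▸ mem_zpowers cc : cc ∈ A.ι.ker), one_mul]

theorem ok_z : A.Ok (A.ι (pq pZ)) := fun _ _ => ⟨1, one_mem _, Or.inl (by simp)⟩

theorem ok_QH (hk : A.ι.ker = zpowers cc) {g : GH} (hg : g ∈ QH) : A.Ok (A.ι g) := fun h2 h1 => by
  obtain ⟨p, hp, rfl⟩ := mem_QH.1 hg
  have h3 : pmul p p = 0 := by
    rw [← map_mul, pq_mul, ← map_one A.ι, ← pq_zero] at h2
    exact map_pq_inj hk (pmul_lt hp hp) (by norm_num) h2
  obtain ⟨x, hx⟩ := cls_surj (Nat.mod_lt p (by norm_num : 0 < 2 ^ 24))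
  obtain ⟨y, hc, hy⟩ := exists_short x
  have e : p % 2 ^ 24 = cls y := hx.symm.trans hc.cls_eq
  rcases hy with rfl | hy | hy | hy
  · rcases eq_or_neg_of_mod hp (by norm_num : 0 < 2 ^ 25) (e.trans cls_zero) with rfl | rfl
    · exact absurd (by rw [pq_zero, map_one]) h1
    · exact ok_z h2 h1
  · obtain ⟨g, -, rfl⟩ : p ∈ Orb ⊤ pT := orb_pT ▸ ⟨hp, y, hy, e⟩
    exact ⟨A.ι g⁻¹, A.ι_mem_PG _, Or.inr (by rw [← conj_pq]; simp [mul_assoc])⟩
  · exfalso
    have h4 := par_cls y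
    rw [hy, ← e, par_and_congr (a' := p >>> 12) (b' := p) (by
      simp only [Nat.shiftRight_eq_div_pow]; omega) (by omega)] at h4
    rw [pmul_self, show par (p >>> 12 &&& p) = 1 by omega] at h3
    norm_num at h3
  · obtain ⟨g, -, rfl⟩ : p ∈ Orb ⊤ pZ1 := orb_pZ1 ▸ ⟨hp, y, hy, e⟩
    refine Ok.of_GH g⁻¹ ?_ h2 h1
    rw [← conj_pq, show g⁻¹ * (g * pq pZ1 * g⁻¹) * g⁻¹⁻¹ = pq pZ1 by group]
    exact Ok.of_NP NP_z1 ok_z

variable (A) in
/-- All elements `pq p' * n` with `p'` in the class of `p` are good. -/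
def OkC (n : GH) (p : ℕ) : Prop := ∀ p', p' % 2 ^ 24 = p % 2 ^ 24 → A.Ok (A.ι (pq p' * n))

theorem OkC.congr {n : GH} {p q : ℕ} (e : p % 2 ^ 24 = q % 2 ^ 24) (h : A.OkC n q) : A.OkC n p :=
  fun p' e' => h p' (e'.trans e)

theorem OkC.stepQ {n : GH} {p : ℕ} (q : ℕ) (h : A.OkC n (p ^^^ q ^^^ φ n q)) : A.OkC n p :=
  fun p' e => by
  obtain ⟨q', e1, e2⟩ := exists_pq_inv q
  refine Ok.of_GH (pq q) ?_
  rw [e2, mul_assoc, mul_assoc, mul_pq, ← mul_assoc, ← mul_assoc, pq_mul, pq_mul]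
  refine h _ ?_
  simp only [pmul_mod, Nat.xor_mod_two_pow, e, φ_congr_mod n e1]
  ac_rfl

theorem OkC.stepH (hk : A.ι.ker = zpowers cc) {n h : GH} {p c : ℕ}
    (e : h * n = pq c * (n * h) ∨ h * n = cc * (pq c * (n * h)))
    (H : A.OkC n (φ h p ^^^ c)) : A.OkC n p := fun p' e' => by
  refine Ok.of_GH h ?_
  have h1 : A.ι (h * (pq p' * n) * h⁻¹) = A.ι (pq (pmul (φ h p') c) * n) := by
    rw [← mul_assoc h, mul_pq, mul_assoc (pq _), ← pq_mul]
    rcases e with e | e <;> rw [e]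
    · congr 1; group
    · rw [← mul_assoc (pq _) cc, cc_comm, mul_assoc cc, mul_assoc cc, ι_cc_mul hk]
      congr 1; group
  rw [h1]
  exact H _ (by rw [pmul_mod, Nat.xor_mod_two_pow, φ_congr_mod h e'])

theorem okC_of_NP (hk : A.ι.ker = zpowers cc) {n m : GH} (e : (n, m) ∈ NP) (hm : m ∈ QH) {p : ℕ}
    (hp : p % 4096 = 0) : A.OkC n p := fun p' e' => by
  rw [← pq_mod]
  exact Ok.of_NP (NP_mul (NP_diag _ (Nat.mod_lt _ (by norm_num)) (by omega)) e)
    (ok_QH hk (mul_mem (pq_mem_QH _) hm))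

theorem okC_of_sq (hk : A.ι.ker = zpowers cc) {n : GH} {p : ℕ}
    (h : pq p * n * (pq p * n) ∉ zpowers cc) : A.OkC n p := fun p' e h2 _ => by
  refine absurd ?_ h
  rw [← map_mul, ← MonoidHom.mem_ker, hk] at h2
  rcases pq_eq_or_of_mod e with e | e <;> rw [e] at h2
  · exact h2
  · rwa [show pq pZ * pq p * n * (pq pZ * pq p * n) = pq p * n * pq pZ * pq pZ * (pq p * n) by
      rw [pZ_comm (pq p * n)]; simp only [mul_assoc], mul_assoc (pq p * n) (pq pZ), pZ_mul_pZ,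
      mul_one] at h2

/-- The involutions over a conjugate of `pr1 n`. -/
theorem ok_of_fixB (hk : A.ι.ker = zpowers cc) {n : GH} (hn : n * n ∈ center GH) {F : ℕ}
    {Qs Rs Is : List ℕ} (h : fixB F Qs Rs Is = true) (hF : ∀ k < 24, φ n (2 ^ k) = tk F k)
    (H : ∀ i < 2 ^ Rs.length, A.OkC n (xorComb Rs i)) {g : GH} (hg : IsConj (pr1 n) (pr1 g)) :
    A.Ok (A.ι g) := by
  have key : ∀ g : GH, pr g = pr n → A.Ok (A.ι g) := fun g e h2 h1 => by
    obtain ⟨p, -, hp⟩ := mem_QH.1 (mem_QH'.2 (show pr (g * n⁻¹) = 1 by simp [e]))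
    obtain rfl : g = pq p * n := by rw [← hp]; group
    have h3 : pq p * n * (pq p * n) ∈ center GH := by
      rw [← map_mul, ← MonoidHom.mem_ker, hk] at h2
      exact zpowers_le.2 cc_mem_center h2
    rw [mul_assoc, ← mul_assoc n, mul_pq, mul_assoc, ← mul_assoc, pq_mul,
      (center GH).mul_mem_cancel_right hn] at h3
    have h4 : pmul p (φ n p) % 2 ^ 24 = 0 := by
      by_contra h5
      obtain ⟨k, -, hk⟩ := exists_pcomm h5
      rw [pq_comm_iff.1 (mem_center_iff.1 h3 _)] at hk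
      omega
    rw [pmul_mod, Nat.xor_eq_zero_iff] at h4
    obtain ⟨q, i, hi, e⟩ := fixB_spec h hF h4.symm
    exact OkC.stepQ q ((H i hi).congr e) p rfl h2 h1
  obtain ⟨k, e⟩ := isConj_iff.1 hg.symm
  obtain ⟨k, rfl⟩ := pr1_surj k
  refine Ok.of_GH k ?_
  rw [← map_inv, ← map_mul, ← map_mul] at e
  rcases toCo1_eq_iff.1 e with e | e
  · exact key _ e
  · rw [← ι_cc_mul hk]
    exact key _ (by rw [map_mul, e, pr_cc, ← mul_assoc, co0Neg_mul_self, one_mul])

end Am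

namespace UQ

/-- A word in `S1`, `S2`. -/
noncomputable def wEl (w : List Bool) : GH :=
  List.rec 1 (fun b _ r => el (cond b rS2 rS1) * r) w

/-- The code of a word in `S1`, `S2`. -/
noncomputable def wCd (w : List Bool) : ℕ :=
  List.rec cone (fun b _ r => cmul (ld (cond b rS2 rS1)) r) w

theorem ld_SY : ldOK rS1 = true ∧ ldOK rS2 = true ∧ ldOK rYb = true := by decide +kernel

theorem R_S1 : R (ld rS1) (el rS1) := (ld_spec ld_SY.1).2
theorem R_S2 : R (ld rS2) (el rS2) := (ld_spec ld_SY.2.1).2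
theorem R_Yb : R (ld rYb) (el rYb) := (ld_spec ld_SY.2.2).2

theorem wEl_spec (w : List Bool) : R (wCd w) (wEl w) ∧ wEl w ∈ EstS := by
  induction w with
  | nil => exact ⟨R_one, one_mem _⟩
  | cons b w ih =>
    cases b
    · exact ⟨R_S1.mul ih.1, mul_mem S1_mem.1 ih.2⟩
    · exact ⟨R_S2.mul ih.1, mul_mem S2_mem.1 ih.2⟩

/-- Words: two elements of the octad stabiliser, and one moving the octad. -/
def wA : List Bool := [true, true, false, true, true, false, true, false, true, true, false, true, false, true]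
def wB : List Bool := [false, true, true, false, true, false, true, false, true, false, true, true, false, true, false, true, false, true, false]
def wS : List Bool := [true, false, true, true, false]

/-- Tableaux of `wA`, `wB`, `N1`. -/
def tG (i : ℕ) : ℕ := List.getD [0,
  0xc00001ad00002200001000004800003260000f980003000006ba00039a000198c000001000f700673ec11bbe1886963dbb860863121700bba708185e46481b40324d510aa000004100001,
  0x7660001f30000c980002cc0000bc0002d50000db80006c80003620001330001614000001000e80bdf4377a7ab2beb87d5bdc36e0102257ef07cbf18d00064e42ffb44409880000046cc001,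
  0xcfcbdb58224ca011264ad4e869444995b14003ae3d0cbc4e86b4680012264c9c31f69684000ae74996e0d1bea1cbb6ed4830eb94eea6165c212f0401a09225007472d80567d4000046086c] i 0

/-- The correction terms. -/
def cG (i : ℕ) : ℕ := List.getD [0, 0x1001000, 0, 0] i 0

/-- `c` has tableau `tG i` and commutes with `y` up to `cG i`. -/
noncomputable def hB (c i : ℕ) : Bool := seq c (band (Nat.beq (tab c) (tG i))
  (ceq (cmul c (ld rYb)) (cPmul (cG i) (cmul (ld rYb) c))))

theorem chkA : hB (wCd wA) 1 = true := by decide +kernel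
theorem chkB : hB (wCd wB) 2 = true := by decide +kernel
theorem chkN : hB (ld rN1) 3 = true := by decide +kernel

/-- The tableau of `y`. -/
def tY : ℕ := 0x4000001000000400000100000040000010000004000001000000400000100020060000010003424006ff1001820400444100630040164010091004064801021a0043420010000004000003
/-- Representatives of the fixed classes modulo commutators. -/
def rY : List ℕ := [131072, 65536, 32768, 16384, 2268, 1084, 612, 492]
/-- Words in the three generators. -/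
def wY : ℕ := 0xe98000dc0000037000db3b8000dc0000037000ee0000e0e8000000eda40000c000000300c000000339c0e0000036c0e0000000000de40e00000de40e00000000000e8e939c3a00000000003a43a0e8db3783937839000000000000000000003783937839000003b43b000003683b000000eced000000ecdae98000000d03400003a600c000000300c0000003000390000d0340036800034003a400000390000d0000000000000000000000f9dee40300fb9ed803e983600000000000dc363983600000000000dc360003639c00e78000003600036e7400ee800000360ec003a4000ec00da4000003b000e90003b003690000e000390000e00036000360000e000390000e0e8000003a000ed368000003a0e8003b400000da000003b80d034ee00000034e70000000000ed80d0000000000000000000000000000000000000000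

/-- Apply a word of at most `n` letters; the result is diagonal up to `x_b`. -/
noncomputable def run (n : ℕ) : ℕ → ℕ → Bool := Nat.rec (fun _ _ => false) (fun _ r w p => seq p
  (Nat.rec (Nat.beq (p % 4096) 0 || Nat.beq (p % 4096) 2)
    (fun _ _ => r (w / 4) (tmul 1 (tG (w % 4)) p ^^^ cG (w % 4))) (w % 4))) n

theorem chkY : Nat.beq (tab (ld rYb)) tY = true ∧ Nat.beq (cmul (ld rYb) (ld rYb)) cone = true ∧
    fixB tY [0, 1, 0, 0, 0, 0, 0, 0, 0, 0, 0, 0, 8192, 0, 0, 0, 0, 0, 228, 40, 96, 252, 8, 108] rY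
      [0, 0, 0, 0, 0, 0, 0, 0, 128, 64, 32, 16, 0, 0, 8, 4, 2, 1, 3, 15, 6, 12, 11, 9] = true ∧
    allR (fun i => (fun p => Nat.rec (run 6 ((wY >>> (10 * i)) % 1024) p) (fun _ _ => true)
      (pmul p (tmul 1 tY p) % 2 ^ 25)) (xorComb rY i)) 0 256 = true ∧
    Nat.beq ((2 ^^^ 1 ^^^ tmul 1 tY 1) % 4096) 0 = true := by decide +kernel

/-- A lift of a dodecad sign change. -/
noncomputable def nD : GH := el rYb * (wEl wS * el rYb * (wEl wS)⁻¹)
/-- Its code. -/
noncomputable def cD : ℕ := cmul (ld rYb) (cmul (cmul (wCd wS) (ld rYb)) (cinv (wCd wS)))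

theorem R_nD : R cD nD := R_Yb.mul (((wEl_spec wS).1.mul R_Yb).mul (wEl_spec wS).1.inv)

/-- Tableaux. -/
def tD : ℕ := 0xc008001000000400001101000040000410400004000101100080480000100020060000010003ee40029390018204018821004a6840722410202c040a2d010e6b00472e8012a5a0050d395b
def tV : ℕ := 0xe3880070d0000dc4001cf50006ba00021d40038c8000c550008f680011d000036600000100039cef8280fed18204018a208a0ac9854212ff3237fdcaa0dd6c53004412d7f0a5a404ca695b

theorem chkD : (fun c => band (band (Nat.beq (tab c) tD) (Nat.beq (Co.trM (mat c)) 192))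
    (Nat.beq (tab (cmul c c)) ID)) (cPmul 0x2000 cD) = true ∧
    fixB tD [0, 0, 0, 0, 0, 0, 0, 0, 0, 0, 0, 0, 2394, 2931, 4072, 2525, 1211, 1750, 239, 1660, 783, 1446, 2740, 3087] [] [] = true := by
  decide +kernel

theorem chkV : (fun c => band (Nat.beq (tab c) tV) (Nat.beq (cmul c c) (cneg (cp pZ))))
    (cPmul 0x472 (cmul cD (ld rS1))) = true ∧
    fixB tV [0, 0, 0, 0, 0, 0, 0, 0, 0, 0, 0, 0, 1650, 2417, 264, 1460, 363, 2651, 2739, 328, 2206, 2145, 9, 866] [] [] = true := by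
  decide +kernel

theorem tb_of {c F : ℕ} {g : GH} (h : R c g) (e : Nat.beq (tab c) F = true) :
    ∀ k < 24, φ g (2 ^ k) = tk F k := Nat.eq_of_beq_eq_true e ▸ h.tab_eq

theorem exists_gen {i : ℕ} (h0 : i ≠ 0) (hi : i < 4) : ∃ h : GH, (∀ k < 24, φ h (2 ^ k) = tk (tG i) k) ∧
    (h * el rYb = pq (cG i) * (el rYb * h) ∨ h * el rYb = cc * (pq (cG i) * (el rYb * h))) := by
  have key : ∀ {c i : ℕ} {h : GH}, R c h → hB c i = true → (∀ k < 24, φ h (2 ^ k) = tk (tG i) k) ∧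
      (h * el rYb = pq (cG i) * (el rYb * h) ∨ h * el rYb = cc * (pq (cG i) * (el rYb * h))) :=
    fun hc e => by
      rw [hB, seq_eq] at e
      exact ⟨tb_of hc (band_left e), (hc.mul R_Yb).ceq ((R_Yb.mul hc).Pmul' _) (band_right e)⟩
  obtain rfl | rfl | rfl : i = 1 ∨ i = 2 ∨ i = 3 := by omega
  · exact ⟨_, key (wEl_spec _).1 chkA⟩
  · exact ⟨_, key (wEl_spec _).1 chkB⟩
  · exact ⟨_, key R_N1 chkN⟩

theorem tb_Y : ∀ k < 24, φ (el rYb) (2 ^ k) = tk tY k := tb_of R_Yb chkY.1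

theorem Yb_sq : el rYb * el rYb = 1 := (R_Yb.mul R_Yb).beq R_one chkY.2.1

variable {X : Type*} [Group X] {A : Am X}

theorem okC_run (hk : A.ι.ker = zpowers cc) (n : ℕ) : ∀ w p, run n w p = true → A.OkC (el rYb) p := by
  induction n with
  | zero => intro w p h; exact absurd h Bool.false_ne_true
  | succ n ih =>
    intro w p h
    change seq p (Nat.rec (Nat.beq (p % 4096) 0 || Nat.beq (p % 4096) 2)
      (fun _ _ => run n (w / 4) (tmul 1 (tG (w % 4)) p ^^^ cG (w % 4))) (w % 4)) = true at h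
    rw [seq_eq] at h
    have hw : w % 4 < 4 := Nat.mod_lt _ (by norm_num)
    generalize w % 4 = i at h hw
    rcases i with _ | i
    · obtain h2 | h2 : p % 4096 = 0 ∨ p % 4096 = 2 := by simpa using h
      · exact Am.okC_of_NP hk NP_yb (pq_mem_QH _) h2
      · refine Am.OkC.stepQ 1 (Am.okC_of_NP hk NP_yb (pq_mem_QH _) ?_)
        have h3 := Nat.eq_of_beq_eq_true chkY.2.2.2.2
        rw [tmul_one tb_Y] at h3
        rw [← h3, show 4096 = 2 ^ 12 from rfl] at *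
        simp only [Nat.xor_mod_two_pow, h2]
    · obtain ⟨g, hg, e⟩ := exists_gen (Nat.succ_ne_zero i) hw
      exact Am.OkC.stepH hk e (tmul_one hg p ▸ ih _ _ h)

theorem isConj_Yb : IsConj Co.F1.z (pr1 (el rYb)) := by
  show IsConj _ (toCo1 (el rYb).1.2)
  rw [Yb_snd]
  exact Co.isConj_oct (Or.inl (by
    rw [Co.gw_coe (by decide +kernel), card_maskSet]; decide +kernel))

theorem ok_oct (hk : A.ι.ker = zpowers cc) {g : GH} (hg : IsConj Co.F1.z (pr1 g)) : A.Ok (A.ι g) := by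
  refine Am.ok_of_fixB hk (Yb_sq ▸ one_mem _) chkY.2.2.1 tb_Y (fun i hi => ?_)
    (isConj_Yb.symm.trans hg)
  have h := allR_zero_iff.1 chkY.2.2.2.1 i hi
  generalize xorComb rY i = p at h
  dsimp only at h
  rw [tmul_one tb_Y] at h
  by_cases h0 : pmul p (φ (el rYb) p) % 2 ^ 25 = 0
  · rw [h0] at h
    exact okC_run hk _ _ _ h
  · refine Am.okC_of_sq hk fun h1 => h0 ?_
    rw [mul_assoc, ← mul_assoc (el rYb), mul_pq, mul_assoc, Yb_sq, mul_one, pq_mul, ← pq_mod] at h1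
    exact pq_inj (Nat.mod_lt _ (by norm_num)) (by norm_num)
      ((eq_one_of_mem_QH (pq_mem_QH _) h1).trans pq_zero.symm)

theorem ok_dod (hk : A.ι.ker = zpowers cc) {g : GH} (hg : IsConj (toCo1 Co.u0) (pr1 g)) :
    A.Ok (A.ι g) := by
  have hR := R_nD.Pmul' 0x2000
  obtain ⟨h1, h2⟩ := chkD
  have hs := (wEl_spec wS).2
  have hA : pr (pq 0x2000 * nD) ∈ Co.A0 := by
    obtain ⟨⟨σ, e⟩, -⟩ := mem_EstS.1 hs
    have : pr (el rYb) ∈ Co.A0 := by rw [pr_apply, Yb_snd]; exact Co.sg_mem _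
    rw [map_mul, pr_pq, one_mul, nD, map_mul, map_mul, map_mul, map_inv]
    exact mul_mem this (Co.conj_mem_A0 (by rw [pr_apply, e]; exact Co.perm_mem _) this)
  obtain ⟨c, hc⟩ := Co.mem_A0.1 hA
  have h12 : c.1.card = 12 := by
    have h3 := Co.tr8_sg c
    rw [hc, Co.tr8_cm, pr_apply, hR.mat_eq, Nat.eq_of_beq_eq_true (band_right (band_left h1))] at h3
    omega
  refine Am.ok_of_fixB hk (mem_center_GH.2 (of_φ_trivial fun k hk => ?_)) h2
    (tb_of hR (band_left (band_left h1))) (fun i _ => ?_)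
    ((toCo1.map_isConj (hc ▸ Co.isConj_dod h12 : IsConj Co.u0 (pr _))).symm.trans hg)
  · rw [tb_of (hR.mul hR) (band_right h1) k hk, tk_ID k hk]
  · exact Am.okC_of_NP hk (NP_mul (NP_diag 0x2000 (by norm_num) rfl) (NP_mul NP_yb (NP_mul (NP_mul
      (NP_Est hs) NP_yb) (NP_inv (NP_Est hs))))) (mul_mem (pq_mem_QH _) (mul_mem (pq_mem_QH _)
        (QH_normal.conj_mem _ (pq_mem_QH _) _))) rfl

theorem ok_v (hk : A.ι.ker = zpowers cc) {g : GH} (hg : IsConj (toCo1 Co.v0) (pr1 g)) :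
    A.Ok (A.ι g) := by
  have hR := (R_nD.mul R_S1).Pmul' 0x472
  obtain ⟨h1, h2⟩ := chkV
  have hsq := (hR.mul hR).beq (R_cp' pZ).neg (band_right h1)
  have hT := tb_of hR (band_left h1)
  generalize pq 0x472 * (nD * el rS1) = n at hsq hT
  have h3 : pr n * pr n = co0Neg := by rw [← map_mul, hsq, map_mul, pr_cc, pr_pq, mul_one]
  have h4 : IsConj Co.v0 (pr n) := by
    refine (Co.sq_cases (by rw [h3, toCo1_neg])).resolve_left ?_
    rintro ⟨a, ha, e⟩
    obtain ⟨k, e⟩ := isConj_iff.1 e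
    rw [← e, conj_mul, Co.A0_sq ha, mul_one, mul_inv_cancel] at h3
    exact cc_notMem_QH (mem_QH'.2 (pr_cc.trans h3.symm))
  refine Am.ok_of_fixB hk (hsq ▸ mul_mem cc_mem_center pZ_mem_center) h2 hT (fun i _ => ?_)
    ((toCo1.map_isConj h4).symm.trans hg)
  refine Am.okC_of_sq hk fun h5 => pZ_ne_one (eq_one_of_mem_QH (pq_mem_QH _) ?_)
  rwa [xorComb_nil, pq_zero, one_mul, hsq, (zpowers cc).mul_mem_cancel_left (mem_zpowers cc)] at h5

end UQ

variable {X : Type*} [Group X]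

theorem Am.ok_ι (A : Am X) (hk : A.ι.ker = zpowers cc) (g : GH) : A.Ok (A.ι g) := fun h2 h1 => by
  by_cases h0 : pr1 g = 1
  · rcases pr1_eq_one.1 h0 with h | h
    · exact Am.ok_QH hk (mem_QH'.2 h) h2 h1
    · have := Am.ok_QH hk (mul_cc_mem_QH h)
      rw [cc_comm, Am.ι_cc_mul hk] at this
      exact this h2 h1
  have h3 : pr1 g * pr1 g = 1 := by
    rw [← map_mul, ← MonoidHom.mem_ker, hk] at h2
    rw [← map_mul]
    rcases mem_zpowers_cc.1 h2 with e | e <;> rw [e]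
    · exact map_one _
    · exact pr1_eq_one.2 (Or.inr pr_cc)
  rcases Co.invol_cases h3 h0 with h | h | h
  · exact UQ.ok_oct hk h h2 h1
  · exact UQ.ok_dod hk h h2 h1
  · exact UQ.ok_v hk h h2 h1

/-- Every involution of `ι GH` is conjugate to `z` or `t` in the group generated by the amalgam. -/
theorem Am.invol_cases (A : Am X) (hk : A.ι.ker = zpowers cc) {g : GH} (h2 : A.ι g * A.ι g = 1)
    (h1 : A.ι g ≠ 1) : ∃ y ∈ closure (Set.range A.ι ∪ {A.τ}),
      y * A.ι g * y⁻¹ = A.ι (pq pZ) ∨ y * A.ι g * y⁻¹ = A.ι (pq pT) := A.ok_ι hk g h2 h1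

end Cfsg.Lib.Mon
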