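import Cfsg.Agent.Mon.XHp
import Cfsg.Agent.Mon.UBDE
import Cfsg.Agent.Mon.BBaby

/-! The presentation of `H` over `(N ∩ H, n1)`, and the second derived group of `N ∩ H`. -/

set_option autoImplicit false
set_option maxRecDepth 100000

namespace Cfsg.Lib.Mon.XH

open Subgroup Cfsg.Lib.Spor.Bulk Cfsg.Lib.Mon.Kit Cfsg.Lib.Mon.Cert Cfsg.Lib.Mon.B4 Cfsg.Lib.Mon.YE1
open scoped commutatorElement

local notation "𝓗" => FxS [pT]

/-- `w'`. -/
def pW' : ℕ := 0x38000

/-- commutators in `N ∩ H` -/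
noncomputable def GC : List ℕ := [C1, C2, C3, cmt A1 (ptab 2)]

/-- an element of the second derived group -/
def Q1 : ℕ := 0x55c00011d0001780000cf40000f600031c0001ce8000f120000d90003eb80018f800000100062ef6e2e3dab121c8e1bec592ba72b964beee029bbdc257acee9d2a00f97e306a8854c74001

/-- an element of the second derived group -/
def Q2 : ℕ := 0x18e00071c4001780001c7c000f8900051d40038c8001ab8000e7a00031dc0038e800000100033eaa0350d9905806c1476648c2fb903a7f181fdc4a0cad300db90700e9dc8b2ed5fd2bfd27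

theorem Q_eq : cmt C1 (wd GC 2 1 ID) = Q1 ∧ cmt C1 (wd GC 3 0x3081 ID) = Q2 ∧
    [ptab 2, C1, wd GC 2 1 ID, wd GC 3 0x3081 ID].all okI = true := by decide +kernel

/-- a walk -/
def wQ : ℕ := 0x4100000104104100004000104104104100100100104000104000104104100000104100104100000104000000004000004100000000000000100104104000104000000104004000000004100104104004000004100000104000004004104004000000000104104000100000000000104000000004004100100100000000100000000004100000000004000000000100100100000100104000100000000004000100000000100000104000000004000004100004004004004100004004000104100000000100000000100004104000100104100004104104000000004100000104000004104104000000004104000000004004100100000104000000100000100004000000004000004004000100000000100100004000000004100000000100000004000000004100000100100004000004100000104104100000000100004104000100100100000004100100000000004000000004000100000000000100100000000104100000000100000000004000000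004004000000000104100000000100100000000104000104000000100000000104004000000004100100000000100000000004100004000000004100000000100000104100100000104000004000100000100000104000100104104004000100004004104004100004104004004100000100000100000000104100004000000004100000000100100000000004000100000000100000000004100000000100004004004104000004004004100004100104000000004104100100004104000100100000100104000104004000100100104000000004000100004000000004004000000004000004004000100000000100000000100000100000000100000100000000104000000004000100004100000100000100000100000000104000000004000000004000000004000100000000100000000100000000000104000000004004000000004000000004000000000100000000000100004004100004004000100004104100000000100000000100000100100000000104004004104104004000000004004100004004000004104000000004000000000100000000004000000004000000004100100004100104000004000000004000100100104100004000100004000004000100004100000100004004000000000100000000100000000104004100000000100000000104000000100000000100000000100004100000000100004000000000100000000004000100000000100000003f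

theorem walk_Q : walk [Q1, Q2] 8193 1213 wQ pW 0 0 = 924 := by decide +kernel

theorem cyc_ok : ∀ a ∈ [(5, 3, 0x1000), (7, 6, 0x41001000), (11, 8, 0x41001001000)],
    (tmul 1 (wd [Q1, Q2] a.2.1 a.2.2 ID))^[a.1] pW = pW ∧ tmul 1 (wd [Q1, Q2] a.2.1 a.2.2 ID) pW ≠ pW := by
  decide +kernel

/-- the test for the orbit of `w` -/
def okW (d : ℕ) : Bool := shB (4096 * d ^^^ pT) && !shB (4096 * d) && decide (1 < d % 4096)

theorem card_okW : ((Finset.range 8192).filter (okW · = true)).card = 924 := by decide +kernel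

/-- the action of a word on codes -/
noncomputable def ev : List ℕ → ℕ → ℕ
  | [], p => p
  | r :: l, p => ev l (cap (ld r) (cap (ld rN1) p))

theorem ev_ok : ∀ i < 6, ev (WH.getD i []) pZ1 = pZ1 → i = 0 := by decide +kernel

theorem chkW : ((rHc :: WH.flatten).all fun r =>
    band (ldOK r) (band (fx pT (ld r)) (fx pZ1 (ld r)))) = true := by decide +kernel

theorem cap_ok : cap (ld rHc) pW = pW' ∧ cap (ld rHc) pW' = pW ^^^ 2 ^ 24 ∧ cap (ld rN1) pW' = pW' := by
  decide +kernel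

theorem q_ok : ∀ j < 22, ∃ q ∈ [2, 172], (Np q ∧ pcomm q pW = 0 ∧ pcomm q pW' = 0) ∧ pcomm q (cj j) = 1 := by
  decide +kernel

theorem cl0 : Bmp.Cl gH0 yH0 924 := UBD.cl_dfs (M := 8193) (n := 1900) (c := cH0) (by decide) (by decide +kernel)
theorem cl1 : Bmp.Cl gH1 yH1 924 := UBD.cl_dfs (M := 8193) (n := 1900) (c := cH1) (by decide) (by decide +kernel)
theorem cl2 : Bmp.Cl gH2 yH2 924 := UBD.cl_dfs (M := 8193) (n := 1900) (c := cH2) (by decide) (by decide +kernel)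
theorem cl3 : Bmp.Cl gH3 yH3 924 := UBD.cl_dfs (M := 8193) (n := 1900) (c := cH3) (by decide) (by decide +kernel)
theorem cl4 : Bmp.Cl gH4 yH4 924 := UBD.cl_dfs (M := 8193) (n := 1900) (c := cH4) (by decide) (by decide +kernel)
theorem cl5 : Bmp.Cl gH5 yH5 924 := UBD.cl_dfs (M := 8193) (n := 1900) (c := cH5) (by decide) (by decide +kernel)

variable {X : Type*} [Group X] {S : Sys GH X}

theorem cert (C : Cx PH X) (H : HH C) :
    C.S.Cert C.K (fun g => φ g PH.y) C.U 6 fun _ => [([0, 1, 2, 3, 4, 5], 924)] := by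
  intro i hi
  interval_cases i
  exacts [CovL.cons (hFL C H) (hpl0 C H) cl0 (by decide +kernel) .nil,
    CovL.cons (hFL C H) (hpl1 C H) cl1 (by decide +kernel) .nil,
    CovL.cons (hFL C H) (hpl2 C H) cl2 (by decide +kernel) .nil,
    CovL.cons (hFL C H) (hpl3 C H) cl3 (by decide +kernel) .nil,
    CovL.cons (hFL C H) (hpl4 C H) cl4 (by decide +kernel) .nil,
    CovL.cons (hFL C H) (hpl5 C H) cl5 (by decide +kernel) .nil]

theorem mem_NH_of {c : ℕ} {g : GH} (h : R c g) (e : band (fx pT c) (fx pZ1 c) = true) : g ∈ NH := by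
  rw [band_eq, Bool.and_eq_true] at e
  exact ⟨mem_H_of_cap h e.1, (mem_FxS_one pZ1_lt).2 (φ_of_cap h pZ1_lt e.2)⟩

theorem W_spec {r : ℕ} (hr : r ∈ rHc :: WH.flatten) : R (ld r) (el r) ∧ el r ∈ NH := by
  have := List.all_eq_true.1 chkW r hr
  rw [band_eq, Bool.and_eq_true] at this
  exact ⟨(ld_spec this.1).2, mem_NH_of (ld_spec this.1).2 this.2⟩

theorem WH_spec {i r : ℕ} (hr : r ∈ WH.getD i []) : R (ld r) (el r) ∧ el r ∈ NH := by
  rw [List.getD_eq_getElem?_getD] at hr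
  cases e : WH[i]? with
  | none => simp [e] at hr
  | some l =>
    rw [e] at hr
    exact W_spec (List.mem_cons_of_mem _ (List.mem_flatten.2 ⟨l, List.mem_of_getElem? e, hr⟩))

theorem R_c : R (ld rHc) (el rHc) := (W_spec List.mem_cons_self).1

theorem c_NH : el rHc ∈ NH := (W_spec List.mem_cons_self).2

theorem φ_c_W : φ (el rHc) pW = pW' := (R_c.cap_eq' _).symm.trans cap_ok.1

theorem φ_c_W' : φ (el rHc) pW' = pW ^^^ 2 ^ 24 := (R_c.cap_eq' _).symm.trans cap_ok.2.1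

theorem φ_N1_W' : φ (el rN1) pW' = pW' := (R_N1.cap_eq' _).symm.trans cap_ok.2.2

/-- The third element of the plane relation. -/
noncomputable def c2 : GH := el rN1 * ((el rHc)⁻¹ * (el rN1 * (el rHc * el rN1)))

theorem NH_H {g : GH} (h : g ∈ NH) : g ∈ 𝓗 := h.1

theorem NH_Z {g : GH} (h : g ∈ NH) : g ∈ FxS [pZ1] := h.2

theorem c2_NH : c2 ∈ NH :=
  mem_inf.2 ⟨mul_mem N1_mem_H (mul_mem (inv_mem (NH_H c_NH)) (mul_mem N1_mem_H (mul_mem c_NH.1 N1_mem_H))),
    (mem_FxS_one pZ1_lt).2 (by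
      rw [c2, φ_mul, φ_mul, φ_mul, φ_mul, φ_N1_Z1, φ_c_W, φ_N1_W', ← φ_c_W, φ_inv_φ _ (by decide), φ_N1_W])⟩

theorem conj_N1 {n : GH} (h : n ∈ NH) (h' : n ∈ FxS [pW]) : el rN1 * (n * el rN1) ∈ NH :=
  ⟨mul_mem N1_mem_H (mul_mem h.1 N1_mem_H), (mem_FxS_one pZ1_lt).2 (by
    rw [φ_mul, φ_mul, φ_N1_Z1, (mem_FxS_one (by decide)).1 h', φ_N1_W])⟩

/-- The relations of `H` over `(N ∩ H, n1)`. -/
structure LvH (S : Sys GH X) : Prop where
  L : S.L = NH
  hc : S.ι cc = 1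
  hth : ∀ n ∈ NH, n ∈ FxS [pW] → S.τ⁻¹ * S.ι n * S.τ = S.ι (el rN1 * (n * el rN1))
  h2 : S.τ * S.τ = 1
  tri : S.τ * S.ι (el rHc) * S.τ = S.ι (el rHc) * S.τ * S.ι c2

theorem cc_NH : cc ∈ NH := ⟨cc_mem_FxS _, cc_mem_FxS _⟩

theorem LvH.th (h : LvH S) {n : GH} (a : n ∈ S.L) (b : n ∈ FxS [pW]) : S.Th n (el rN1 * (n * el rN1)) :=
  ⟨a, h.L ▸ conj_N1 (h.L ▸ a) b, h.hth n (h.L ▸ a) b⟩

theorem LvH.rev (h : LvH S) : S.Rev 1 1 := ⟨S.L.one_mem, S.L.one_mem, by rw [Sys.ι_one, mul_one, h.h2]⟩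

/-- level H -/
noncomputable def LvH.cx (h : LvH S) : Cx PH X where
  S := S
  K := S.hom.range
  hcc := ⟨h.L ▸ cc_NH, S.L.one_mem, by rw [h.hc, Sys.ι_one]⟩
  hth c n k a hn e := by
    have e' : thH c k = true := e
    unfold thH at e'
    rw [seq_eq, band_eq, Bool.and_eq_true] at e'
    exact ⟨_, _, R_N1.mul (a.mul R_N1), h.th hn
      ((mem_FxS_one (by decide)).2 (φ_of_cap a (by decide) e'.1)), e'.2⟩
  hL _ _ a e := h.L ▸ mem_NH_of a e
  hK _ g a e := ⟨h.L ▸ mem_NH_of a e, ⟨g, h.L ▸ mem_NH_of a e⟩, rfl⟩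
  hp := by decide
  hy := by decide
  hrev := by
    change S.Rev (pq 0) (pq 0)
    rw [pq_zero]
    exact h.rev
  hW := rfl

theorem LvH.hH (h : LvH S) : HH h.cx :=
  ⟨⟨_, _, _, R_c, R_c, R_N1.mul (R_c.inv.mul (R_N1.mul (R_c.mul R_N1))), h.L ▸ c_NH, h.L ▸ c_NH,
    h.L ▸ c2_NH, h.tri⟩⟩

theorem orb_le : ∃ E : Finset ℕ, E.card ≤ 924 ∧ ∀ g ∈ NH, φ g pW ∈ E := by
  refine ⟨_, card_okW ▸ Finset.card_image_le (f := (4096 * ·)), fun g hg => ?_⟩
  have h1 := φ_lt g pW
  have h2 : φ g pW % 4096 = 0 := Dp.φ hg (by decide)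
  have h3 : 4096 * (φ g pW / 4096) = φ g pW := by omega
  refine Finset.mem_image.2 ⟨φ g pW / 4096, Finset.mem_filter.2 ⟨Finset.mem_range.2 (by omega), ?_⟩, h3⟩
  have k : ∀ y ∈ [0, pZ1], φ g pW % 2 ^ 24 ≠ φ g y % 2 ^ 24 := fun y hy e => by
    have := φ_congr24 g⁻¹ e
    rw [φ_inv_φ _ (by decide), φ_inv_φ _ ((by decide : ∀ y ∈ [0, pZ1], y < 2 ^ 25) y hy)] at this
    exact (by decide : ∀ y ∈ [0, pZ1], pW % 2 ^ 24 ≠ y % 2 ^ 24) y hy this
  have k1 := k 0 (by simp)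
  have k2 := k pZ1 (by simp)
  rw [φ_zero] at k1
  rw [(mem_FxS_one pZ1_lt).1 hg.2, show pZ1 % 2 ^ 24 = 4096 from rfl] at k2
  rw [okW, h3, ← φ_xor_T hg.1, shB_iff.2 ((isSh_φ _ _).2 (shB_iff.1 (by decide +kernel))),
    Bool.eq_false_iff.2 fun e => absurd (shB_iff.2 ((isSh_φ _ _).1 (shB_iff.1 e))) (by decide +kernel),
    decide_eq_true (by omega)]
  rfl

theorem LvH.row (h : LvH S) {i : ℕ} (hi : i < 6) {g : GH} (hg : g ∈ S.L) :
    ∃ j < 6, ∃ k, S.Fact S.hom.range (S.U WH i) g (S.U WH j) k := by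
  obtain ⟨E, h1, h2⟩ := orb_le
  obtain ⟨D, h3, h4⟩ := cert h.cx h.hH i hi _ List.mem_cons_self
  have e : D = E := Finset.eq_of_subset_of_card_le (fun p hp => by
    obtain ⟨x, k, j, -, hF, rfl⟩ := h4 p hp
    exact h2 x (h.L ▸ hF.1)) (h1.trans_eq h3.symm)
  obtain ⟨x, k, j, hj, hF, e'⟩ := h4 _ (e ▸ h2 g (h.L ▸ hg))
  exact ⟨j, by simp at hj; omega, Sys.fact_of_key (N := FxS [pW]) (κ := fun g => φ g pW)
    (fun _ _ _ _ => φ_eq_iff) (fun a ha hN => ⟨_, h.th ha hN⟩) hF hg e'⟩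

variable {Y : Type*} [Group Y] {A : Am Y}

theorem kap_inv {g : GH} (hg : g ∈ 𝓗) : kap A g⁻¹ = (kap A g)⁻¹ :=
  eq_inv_of_mul_eq_one_left (by rw [← kap_mul (inv_mem hg) hg, inv_mul_cancel, kap_one])

theorem fix_of_kap (hA : A.Enum) {g : GH} (hg : g ∈ 𝓗) (e : kap A g = 1) {y : ℕ} (hy : Qp y) :
    g ∈ FxS [y] := by
  have t : pq pT ∈ FxS [y] := pq_mem_FxS.2 ((pcomm_comm _ _).trans hy)
  rcases mem_closure_cc_t.1 (hA.ker_κ.le ((kap_eq hg).symm.trans e)) with e | e | e | e <;>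
    rw [show g = _ from congrArg Subtype.val e]
  exacts [one_mem _, cc_mem_FxS _, t, mul_mem t (cc_mem_FxS _)]

/-- The relations suffice. -/
theorem LvH.inj (h : LvH S) (hA : A.Enum) (π : X →* A.Baby) (hι : ∀ g ∈ NH, π (S.ι g) = kap A g)
    (hτ : π S.τ = kap A (el rN1)) {x : X} (hx : x ∈ S.M) (e : π x = 1) : ∃ g ∈ NH, S.ι g = x := by
  obtain ⟨i, hi, g, hg, k, hk⟩ := UBD.cover h.rev (by norm_num) rfl (fun _ hi _ hg => h.row hi hg) x hx
  have key : ∀ l : List ℕ, (∀ r ∈ l, R (ld r) (el r) ∧ el r ∈ NH) → ∃ u ∈ 𝓗,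
      π (S.wd (l.map el)) = kap A u ∧ ∀ p < 2 ^ 25, φ u p = ev l p := fun l hl => by
    induction l with
    | nil => exact ⟨1, one_mem _, (map_one π).trans kap_one.symm, fun _ => φ_one⟩
    | cons r l ih =>
      obtain ⟨u, a, b, c⟩ := ih fun x hx => hl x (List.mem_cons_of_mem _ hx)
      obtain ⟨d, f⟩ := hl r List.mem_cons_self
      refine ⟨u * el r * el rN1, mul_mem (mul_mem a f.1) N1_mem_H, ?_, fun p _ => ?_⟩
      · rw [kap_mul (mul_mem a f.1) N1_mem_H, kap_mul a f.1, ← b, ← hι _ f, ← hτ, ← map_mul, ← map_mul]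
        rfl
      · rw [φ_mul, φ_mul, c _ (φ_lt _ _), ev, d.cap_eq', R_N1.cap_eq']
  obtain ⟨u, a, b, c⟩ := key _ fun r => WH_spec (i := i)
  have hg' : g ∈ NH := h.L ▸ hg
  have hk' : k.1 ∈ NH := h.L ▸ k.2
  have e1 : S.ι k * (S.U WH i * S.ι g) = x := eq_mul_inv_iff_mul_eq.1 hk
  have e2 := fix_of_kap hA (mul_mem hk'.1 (mul_mem a hg'.1)) (by
    rw [kap_mul hk'.1 (mul_mem a hg'.1), kap_mul a hg'.1, ← b, ← hι _ hk', ← hι _ hg', ← map_mul, ← map_mul,
      e1, e]) (y := pZ1) (by decide)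
  obtain rfl := ev_ok i hi ((c _ pZ1_lt).symm.trans ((mem_FxS_one pZ1_lt).1
    ((mul_mem_cancel_right (NH_Z hg')).1 ((mul_mem_cancel_left (NH_Z hk')).1 e2))))
  exact ⟨k * g, mul_mem hk' hg', by rw [S.mul _ k.2 _ hg, ← e1]; exact congrArg _ (one_mul _).symm⟩

/-! ### The second derived group of `N ∩ H` -/

theorem tl_Q : TL ⁅⁅NH, NH⁆, ⁅NH, NH⁆⁆ [Q1, Q2] := by
  have o := List.all_eq_true.1 Q_eq.2.2
  have c1 : TK ⁅NH, NH⁆ C1 := C_eq.1 ▸ tk_comm (tk_AN (by simp)) (tk_AN (by simp)) (okI_of (by simp))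
    (okI_of (by simp)) le_rfl
  have t : TL ⁅NH, NH⁆ GC := TL.cons c1 <|
    TL.cons (C_eq.2.1 ▸ tk_comm (tk_AN (by simp)) ⟨_, Ca_NH, Tb.raw raw_Ca⟩ (okI_of (by simp))
      (okI_of (by simp)) le_rfl) <|
    TL.cons (C_eq.2.2 ▸ tk_comm (tk_AN (by simp)) ⟨_, Yb_NH, Tb.raw raw_Yb⟩ (okI_of (by simp))
      (okI_of (by simp)) le_rfl) <|
    TL.cons (tk_comm (tk_AN (by simp)) (TK.ptab (Np.mem (by decide))) (okI_of (by simp)) (o _ (by simp))
      le_rfl) TL.nil
  exact TL.cons (Q_eq.1 ▸ tk_comm c1 (t.wd _ _ TK.one) (o _ (by simp)) (o _ (by simp)) le_rfl) <|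
    TL.cons (Q_eq.2.1 ▸ tk_comm c1 (t.wd _ _ TK.one) (o _ (by simp)) (o _ (by simp)) le_rfl) TL.nil

theorem NH2_le : ⁅⁅NH, NH⁆, ⁅NH, NH⁆⁆ ≤ NH := (comm_le_self _).trans (comm_le_self _)

theorem NH_le {K : Subgroup GH} (h1 : ⁅⁅NH, NH⁆, ⁅NH, NH⁆⁆ ≤ K) (h2 : NH ⊓ FxS [pW] ≤ K) : NH ≤ K := by
  obtain ⟨E, a, b⟩ := orb_le
  have c : Orb ⁅⁅NH, NH⁆, ⁅NH, NH⁆⁆ pW = Orb NH pW := Set.eq_of_subset_of_ncard_le
    (fun _ ⟨g, hg, e⟩ => ⟨g, NH2_le hg, e⟩) (((Set.ncard_le_ncard (s := Orb NH pW) (t := E)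
      (fun _ ⟨g, hg, e⟩ => e ▸ b g hg) E.finite_toSet).trans ((Set.ncard_coe_finset E).trans_le a)).trans (walk_le' tl_Q (by decide) walk_Q))
    (finite_Orb _ _)
  intro g hg
  obtain ⟨k, hk, e⟩ := c.ge ⟨g, hg, rfl⟩
  exact (K.mul_mem_cancel_left (inv_mem (h1 hk))).1 (h2 (mem_inf.2
    ⟨mul_mem (inv_mem (NH2_le hk)) hg, φ_eq_iff.1 e⟩))

theorem exists_cyc {p : ℕ} (hp : p = 5 ∨ p = 7 ∨ p = 11) :
    ∃ g ∈ ⁅⁅NH, NH⁆, ⁅NH, NH⁆⁆, g ^ p ∈ FxS [pW] ∧ g ∉ FxS [pW] := by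
  obtain ⟨a, ha, rfl⟩ : ∃ a ∈ [(5, 3, 0x1000), (7, 6, 0x41001000), (11, 8, 0x41001001000)], a.1 = p := by
    rcases hp with rfl | rfl | rfl <;> simp
  obtain ⟨b, c⟩ := cyc_ok a ha
  obtain ⟨g, d, e⟩ := tl_Q.wd a.2.1 a.2.2 TK.one
  have f : ∀ n, φ (g ^ n) pW = (φ g)^[n] pW := fun n => by
    induction n with
    | zero => exact (congrArg (φ · pW) (pow_zero g)).trans (φ_one (by decide))
    | succ n ih => rw [pow_succ', φ_mul, ih, Function.iterate_succ_apply']
  rw [funext (tmul_one e)] at b c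
  exact ⟨g, d, (mem_FxS_one (by decide)).2 ((f _).trans b), fun k => c ((mem_FxS_one (by decide)).1 k)⟩

end Cfsg.Lib.Mon.XH
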