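import Cfsg.Agent.Mon.XHd

/-! Double coset enumeration for `H` over `(N ∩ H, n1)`: steps. -/

set_option autoImplicit false
set_option maxRecDepth 20000
set_option linter.unusedSectionVars false

namespace Cfsg.Lib.Mon.XH

open Cfsg.Lib.Mon.Cert

variable {X : Type*} [Group X] (C : Cx PH X) (H : HH C)
include H

theorem np0 : C.Np (e1, e0) := Cx.np (by decide +kernel)
theorem np1 : C.Np (e3, e2) := Cx.np (by decide +kernel)
theorem hNL : C.NpL NL :=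
  .cons (np0 C H) <| .cons (np1 C H) <| .nil
theorem t2 : C.Tr e5 e5 e4 := H.t.same (by decide +kernel)
theorem t3 : C.Tr e7 e6 e4 := (t2 C H).mv (np0 C H) (by decide +kernel)
theorem t4 : C.Tr e9 e8 e4 := (t2 C H).mv (np1 C H) (by decide +kernel)
theorem f0 : C.Fa 0 e10 1 e10 := Cx.define (r := rH1) rfl (by decide +kernel)
theorem f1 : C.Fa 1 e10 0 e10 := (f0 C H).rev (by decide +kernel)
theorem hs0 : C.St 0 e11 := Cx.load (by decide +kernel)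
theorem hs1 : C.St 0 e12 := Cx.load (by decide +kernel)
theorem hs2 : C.St 0 e13 := Cx.load (by decide +kernel)
theorem hpl0 : C.StL 0 pl0 :=
  (Cx.StL.cons (hs0 C H) <| Cx.StL.cons (hs1 C H) <| Cx.StL.cons (hs2 C H) <| Cx.StL.nil).pool
    [(1, 0), (0, 2), (0, 4), (0, 3), (3, 2), (1, 3), (0, 3), (2, 3), (2, 3), (1, 3), (3, 2), (3, 0), (2, 3), (1, 3), (1, 3), (0, 3), (0, 3), (3, 0), (2, 3)]
    [2, 1, 0] (by decide +kernel)
theorem f2 : C.Fa 1 e7 1 e17 :=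
  (f1 C H).tri' (hNL C H) [] (t3 C H) (f0 C H) (hpl0 C H) [2, 1, 1, 1] (by decide +kernel)
theorem hs22 : C.St 1 e18 := (f0 C H).coin (f0 C H) (hpl0 C H) [2, 2, 1, 2, 2, 1] (by decide +kernel)
theorem hs23 : C.St 1 e19 := (f0 C H).coin (f0 C H) (hpl0 C H) [0, 2, 1, 0, 2, 1] (by decide +kernel)
theorem hpl1 : C.StL 1 pl1 :=
  (Cx.StL.cons (hs22 C H) <| Cx.StL.cons (hs23 C H) <| Cx.StL.nil).pool
    [(0, 0), (2, 2), (1, 2), (2, 4), (0, 3), (2, 3), (2, 3), (3, 2), (2, 3), (3, 0), (1, 3), (0, 3), (0, 3), (1, 3), (1, 3), (2, 3), (3, 2), (3, 1), (0, 3)]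
    [2, 1, 0] (by decide +kernel)
theorem f3 : C.Fa 1 e24 1 e23 :=
  (f2 C H).tri (hNL C H) [1, 1, 1] (t4 C H) (f2 C H) (hpl1 C H) [0, 0, 0, 1, 1, 2] (by decide +kernel)
theorem f4 : C.Fa 1 e26 1 e25 :=
  (f2 C H).tri (hNL C H) [0, 1, 0, 1, 0, 1] (t4 C H) (f2 C H) (hpl1 C H) [0, 0, 2, 1] (by decide +kernel)
theorem f5 : C.Fa 1 e27 2 e10 := Cx.define (r := rH2) rfl (by decide +kernel)
theorem f6 : C.Fa 2 e10 1 e27 := (f5 C H).rev (by decide +kernel)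
theorem f8 : C.Fa 1 e28 3 e10 := Cx.define (r := rH3) rfl (by decide +kernel)
theorem f9 : C.Fa 3 e10 1 e28 := (f8 C H).rev (by decide +kernel)
theorem f12 : C.Fa 3 e30 3 e29 :=
  (f9 C H).tri' (hNL C H) [1] (t3 C H) (f8 C H) (hpl1 C H) [2, 0, 2, 2, 0] (by decide +kernel)
theorem f13 : C.Fa 1 e31 4 e10 := Cx.define (r := rH4) rfl (by decide +kernel)
theorem f14 : C.Fa 4 e10 1 e31 := (f13 C H).rev (by decide +kernel)
theorem f17 : C.Fa 3 e8 4 e32 :=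
  (f8 C H).tri (hNL C H) [] (t4 C H) (f13 C H) (hpl1 C H) [1, 0, 1] (by decide +kernel)
theorem f18 : C.Fa 4 e32 3 e8 := (f17 C H).rev (by decide +kernel)
theorem f19 : C.Fa 4 e34 4 e33 :=
  (f13 C H).tri (hNL C H) [0] (t3 C H) (f13 C H) (hpl1 C H) [0, 1] (by decide +kernel)
theorem f20 : C.Fa 4 e8 4 e35 :=
  (f13 C H).tri (hNL C H) [] (t4 C H) (f13 C H) (hpl1 C H) [2, 2, 2, 1, 2, 2] (by decide +kernel)
theorem f21 : C.Fa 4 e7 4 e36 :=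
  (f14 C H).tri' (hNL C H) [] (t3 C H) (f13 C H) (hpl1 C H) [0, 2, 2, 0, 0, 0, 0] (by decide +kernel)
theorem f22 : C.Fa 3 e31 5 e10 := Cx.define (r := rH5) rfl (by decide +kernel)
theorem f23 : C.Fa 5 e10 3 e31 := (f22 C H).rev (by decide +kernel)
theorem hs84 : C.St 3 e37 := (f8 C H).coin (f8 C H) (hpl1 C H) [1, 1, 0] (by decide +kernel)
theorem hs85 : C.St 3 e38 := (f8 C H).coin (f8 C H) (hpl1 C H) [1, 2, 2, 1, 0] (by decide +kernel)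
theorem hs86 : C.St 3 e39 := (f8 C H).coin (f8 C H) (hpl1 C H) [0, 0, 0, 0, 0] (by decide +kernel)
theorem hs87 : C.St 3 e40 := (f8 C H).coin (f8 C H) (hpl1 C H) [0, 2, 0, 0, 1, 2] (by decide +kernel)
theorem hs88 : C.St 3 e41 := (f8 C H).coin (f8 C H) (hpl1 C H) [1, 0, 1, 0, 0, 1] (by decide +kernel)
theorem hs89 : C.St 3 e42 := (f8 C H).coin (f8 C H) (hpl1 C H) [1, 2, 0, 1, 2, 1] (by decide +kernel)
theorem f10 : C.Fa 3 e44 1 e43 :=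
  (f8 C H).tri (hNL C H) [1] (t3 C H) (f2 C H) (hpl1 C H) [0, 2, 1, 2] (by decide +kernel)
theorem f11 : C.Fa 1 e43 3 e44 := (f10 C H).rev (by decide +kernel)
theorem hs182 : C.St 3 e45 := (f11 C H).coin (f8 C H) (hpl1 C H) [2, 0, 1, 1] (by decide +kernel)
theorem hpl3 : C.StL 3 pl3 :=
  (Cx.StL.cons (hs84 C H) <| Cx.StL.cons (hs85 C H) <| Cx.StL.cons (hs86 C H) <| Cx.StL.cons (hs87 C H) <| Cx.StL.cons (hs88 C H) <| Cx.StL.cons (hs89 C H) <| Cx.StL.cons (hs182 C H) <| Cx.StL.nil).pool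
    [(1, 0), (2, 3), (4, 7), (1, 6), (8, 0), (11, 10), (12, 0), (4, 6), (6, 4), (4, 6), (3, 6), (1, 6), (6, 4), (2, 5), (2, 5), (5, 2), (5, 2), (0, 4), (3, 0), (3, 2), (1, 3)]
    [2, 1, 0] (by decide +kernel)
theorem f24 : C.Fa 4 e50 5 e49 :=
  (f17 C H).tri (hNL C H) [1] (t3 C H) (f22 C H) (hpl3 C H) [0, 0] (by decide +kernel)
theorem f25 : C.Fa 5 e49 4 e50 := (f24 C H).rev (by decide +kernel)
theorem f26 : C.Fa 5 e7 5 e51 :=
  (f23 C H).tri' (hNL C H) [] (t3 C H) (f22 C H) (hpl3 C H) [2, 1, 2, 2] (by decide +kernel)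
theorem hs208 : C.St 4 e52 := (f13 C H).coin (f13 C H) (hpl1 C H) [2, 2, 2, 2] (by decide +kernel)
theorem hs209 : C.St 4 e53 := (f13 C H).coin (f13 C H) (hpl1 C H) [0, 0, 0, 0, 0] (by decide +kernel)
theorem hs210 : C.St 4 e54 := (f13 C H).coin (f13 C H) (hpl1 C H) [0, 2, 2, 1, 0, 2] (by decide +kernel)
theorem hs211 : C.St 4 e55 := (f13 C H).coin (f13 C H) (hpl1 C H) [0, 1, 2, 0, 1, 2] (by decide +kernel)
theorem hs212 : C.St 4 e56 := (f13 C H).coin (f13 C H) (hpl1 C H) [1, 2, 2, 0, 0, 2, 2] (by decide +kernel)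
theorem f15 : C.Fa 4 e5 1 e57 :=
  (f14 C H).tri' (hNL C H) [] (t2 C H) (f2 C H) (hpl1 C H) [0, 0] (by decide +kernel)
theorem f16 : C.Fa 1 e57 4 e5 := (f15 C H).rev (by decide +kernel)
theorem hs318 : C.St 4 e58 := (f16 C H).coin (f13 C H) (hpl1 C H) [0, 0, 0, 0, 1, 2] (by decide +kernel)
theorem hpl4 : C.StL 4 pl4 :=
  (Cx.StL.cons (hs208 C H) <| Cx.StL.cons (hs209 C H) <| Cx.StL.cons (hs210 C H) <| Cx.StL.cons (hs211 C H) <| Cx.StL.cons (hs212 C H) <| Cx.StL.cons (hs318 C H) <| Cx.StL.nil).pool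
    [(3, 0), (2, 5), (5, 4), (6, 7), (0, 8), (4, 10), (5, 4), (4, 5), (1, 5), (5, 3), (5, 1), (0, 5), (3, 5), (5, 2), (5, 1), (3, 5), (4, 5), (2, 3), (3, 0), (1, 3), (3, 1)]
    [2, 1, 0] (by decide +kernel)
theorem f27 : C.Fa 5 e63 5 e62 :=
  (f24 C H).tri (hNL C H) [1, 1, 1] (t4 C H) (f24 C H) (hpl4 C H) [0, 2, 1, 1] (by decide +kernel)
theorem hs43 : C.St 2 e64 := (f5 C H).coin (f5 C H) (hpl1 C H) [0] (by decide +kernel)
theorem hs44 : C.St 2 e65 := (f5 C H).coin (f5 C H) (hpl1 C H) [2] (by decide +kernel)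
theorem f7 : C.Fa 1 e67 2 e66 :=
  (f2 C H).tri (hNL C H) [] (t2 C H) (f5 C H) Cx.StL.nil [] (by decide +kernel)
theorem hs64 : C.St 2 e68 := (f7 C H).coin (f5 C H) Cx.StL.nil [] (by decide +kernel)
theorem hpl2 : C.StL 2 pl2 :=
  (Cx.StL.cons (hs43 C H) <| Cx.StL.cons (hs44 C H) <| Cx.StL.cons (hs64 C H) <| Cx.StL.nil).pool
    [(2, 0), (2, 3), (4, 0), (0, 3), (1, 3), (2, 3), (3, 1), (0, 3), (3, 0), (3, 2), (0, 3), (3, 0), (3, 0), (3, 0), (3, 0), (1, 2), (0, 2), (2, 1)]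
    [2, 1, 0] (by decide +kernel)
theorem hs342 : C.St 5 e72 := (f22 C H).coin (f22 C H) (hpl3 C H) [1, 0, 1, 1, 0, 1] (by decide +kernel)
theorem hs343 : C.St 5 e73 := (f22 C H).coin (f22 C H) (hpl3 C H) [0, 1, 0, 1, 0, 0] (by decide +kernel)
theorem hs344 : C.St 5 e74 := (f22 C H).coin (f22 C H) (hpl3 C H) [1, 2, 0, 2, 2, 0] (by decide +kernel)
theorem hs345 : C.St 5 e75 := (f22 C H).coin (f22 C H) (hpl3 C H) [1, 2, 2, 0, 0, 1, 2] (by decide +kernel)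
theorem hs384 : C.St 5 e76 := (f24 C H).coin (f24 C H) (hpl4 C H) [0, 1, 0, 2] (by decide +kernel)
theorem hpl5 : C.StL 5 pl5 :=
  (Cx.StL.cons (hs342 C H) <| Cx.StL.cons (hs343 C H) <| Cx.StL.cons (hs344 C H) <| Cx.StL.cons (hs345 C H) <| Cx.StL.cons (hs384 C H) <| Cx.StL.nil).pool
    [(0, 1), (5, 2), (4, 0), (2, 6), (8, 0), (2, 4), (4, 2), (4, 3), (0, 4), (4, 3), (3, 4), (4, 2), (4, 3), (3, 4), (1, 4), (3, 4), (4, 2), (1, 3), (0, 3), (2, 3)]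
    [2, 1, 0] (by decide +kernel)
theorem hFL : C.FaL FL :=
  .cons (f0 C H) <| .cons (f1 C H) <| .cons (f2 C H) <| .cons (f3 C H) <| .cons (f4 C H) <|
  .cons (f5 C H) <| .cons (f6 C H) <| .cons (f8 C H) <| .cons (f9 C H) <| .cons (f12 C H) <|
  .cons (f13 C H) <| .cons (f14 C H) <| .cons (f17 C H) <| .cons (f18 C H) <| .cons (f19 C H) <|
  .cons (f20 C H) <| .cons (f21 C H) <| .cons (f22 C H) <| .cons (f23 C H) <| .cons (f24 C H) <|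
  .cons (f25 C H) <| .cons (f26 C H) <| .cons (f27 C H) <| .nil

end Cfsg.Lib.Mon.XH
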