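import Cfsg.Agent.Mon.MIf
import Cfsg.Agent.Spor.CoxChk
import Cfsg.Prelude.Def_Spor_M

/-!
The Monster programme, part Y: the diagram `Y555`.  Letters: `a = 1`, `b1 c1 d1 e1 f1 = 2 .. 6`,
`b2 .. f2 = 7 .. 11`, `b3 .. f3 = 12 .. 16`.
-/

set_option autoImplicit false

namespace Cfsg.Lib.Mon.Y

open Subgroup Cfsg.Lib.Spor

/-- Adjacency in `Y555`. -/
def adj (s t : ℕ) : Bool := Nat.testBit
  0x8000000140000000a00000005000000020020000040000000a00000005000000028000000102000000200000005000000028000000140000000a0000108400000000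
  (Nat.add (Nat.mul 32 s) t)

/-- Coxeter labels on the letters in the bit set `V`. -/
def mV (V s t : ℕ) : ℕ := cond (Nat.testBit V s && Nat.testBit V t) (cond (adj s t) 3 2) 0

/-- Labels of `Y555`. -/
abbrev m5 : ℕ → ℕ → ℕ := mV 0x1fffe

/-- Labels of `Y553`. -/
abbrev m3 : ℕ → ℕ → ℕ := mV 0x7ffe

/-- The numbers of the generators of the Bimonster. -/
def lt : Cfsg.Spor.Bimonster.Gen → ℕ
  | .a => 1 | .b1 => 2 | .c1 => 3 | .d1 => 4 | .e1 => 5 | .f1 => 6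
  | .b2 => 7 | .c2 => 8 | .d2 => 9 | .e2 => 10 | .f2 => 11
  | .b3 => 12 | .c3 => 13 | .d3 => 14 | .e3 => 15 | .f3 => 16

variable {X : Type*} [Group X]

/-- The value of a word. -/
def ev (g : ℕ → X) (w : List ℕ) : X := (w.map g).prod

/-- The subgroup generated by some letters. -/
def gen (g : ℕ → X) (L : List ℕ) : Subgroup X := closure (g '' {k | k ∈ L})

/-- The letters of `Y553`. -/
def L553 : List ℕ := [1, 2, 3, 4, 5, 6, 7, 8, 9, 10, 11, 12, 13, 14]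
/-- The letters of `Y533` and `f2`. -/
def L533 : List ℕ := [1, 2, 3, 4, 5, 6, 7, 8, 9, 11, 12, 13, 14]
/-- The letters of `Y333` and `f1`, `f2`. -/
def L333 : List ℕ := [1, 2, 3, 4, 6, 7, 8, 9, 11, 12, 13, 14]

/-- The longest element of the symmetric group `S12` on the arms 1 and 2. -/
def W0 : List ℕ := [6, 5, 6, 4, 5, 6, 3, 4, 5, 6, 2, 3, 4, 5, 6, 1, 2, 3, 4, 5, 6, 7, 1, 2, 3, 4, 5, 6, 8, 7, 1, 2, 3, 4, 5, 6, 9, 8, 7, 1, 2, 3, 4, 5, 6, 10, 9, 8, 7, 1, 2, 3, 4, 5, 6, 11, 10, 9, 8, 7, 1, 2, 3, 4, 5, 6]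

/-- The interchange of the arms 1 and 2. -/
def swp (k : ℕ) : ℕ := [0, 1, 7, 8, 9, 10, 11, 2, 3, 4, 5, 6].getD k k

/-- The relations of the Monster `Y553 / ⟨f3⟩`. -/
structure YM (g : ℕ → X) : Prop where
  cox : Cox.Rel g m3
  spider : ev g [1, 2, 3, 1, 7, 8, 1, 12, 13] ^ 10 = 1
  e7 : ev g [1, 12, 2, 7, 13, 3, 14] ^ 9 = 1

/-- The relations of the Bimonster: `f3 ↦ σ`, `e3 ↦ (u, u⁻¹) σ`, `k ↦ (g k, g k) σ`. -/
structure Y5 (g : ℕ → X) (u : X) : Prop where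
  ym : YM g
  u3 : u ^ 3 = 1
  inv : ∀ k, 1 ≤ k → k ≤ 13 → g k * u * g k = u⁻¹
  d3 : (g 14 * u) ^ 3 = 1

/-- The nodes in a group with a Monster amalgam. -/
structure Nodes (A : Am X) (g : ℕ → X) (u : X) : Prop where
  y5 : Y5 g u
  t : g 11 = A.ι (pq pT)
  t2 : g 6 = A.ι (pq pT2)
  t3 : g 4 = A.ι (pq pT3)
  e1 : A.E1 ≤ gen g L333
  v4 : ∃ m, m * g 11 * m⁻¹ = g 2 * g 7 ∧ m * g 6 * m⁻¹ = g 1 * (g 2 * g 7) * g 1

/-- What is known about the Monster `M` in terms of the nodes. -/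
structure YD (M : Type) [Group M] (g : ℕ → M) (u : M) : Prop where
  y5 : Y5 g u
  finite : Finite M
  simple : IsSimpleGroup M
  t_ne : g 11 ≠ 1
  t2_ne : g 6 ≠ g 11
  top : gen g L553 = ⊤
  univ : ∀ (Z : Type) [Group Z] (h : ℕ → Z), YM h → ∃ j : M →* Z, ∀ k ∈ L553, j (g k) = h k
  centT : centralizer {g 11} = gen g L533
  centE : centralizer {g 11, g 6} = gen g L333
  swap : ∃ y, y * g 11 * y⁻¹ = g 11 ∧ y * g 6 * y⁻¹ = g 11 * g 6
  perf : commutator (centralizer {g 11}) = ⊤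
  v4 : ∃ m, m * g 11 * m⁻¹ = g 2 * g 7 ∧ m * g 6 * m⁻¹ = g 1 * (g 2 * g 7) * g 1

/-- The wreath product `X ≀ 2`: the element `(l, r) σ^s`. -/
@[ext] structure Wr (X : Type*) where
  l : X
  r : X
  s : Bool

namespace Wr

instance instMulWr : Mul (Wr X) :=
  ⟨fun x y => ⟨x.l * cond x.s y.r y.l, x.r * cond x.s y.l y.r, xor x.s y.s⟩⟩

instance instOneWr : One (Wr X) := ⟨⟨1, 1, false⟩⟩

instance instInvWr : Inv (Wr X) := ⟨fun x => ⟨(cond x.s x.r x.l)⁻¹, (cond x.s x.l x.r)⁻¹, x.s⟩⟩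

@[simp] theorem mk_mul (a b c d : X) (s t : Bool) : (⟨a, b, s⟩ * ⟨c, d, t⟩ : Wr X) =
    ⟨a * cond s d c, b * cond s c d, xor s t⟩ := rfl

theorem one_def : (1 : Wr X) = ⟨1, 1, false⟩ := rfl

@[simp] theorem mk_inv (a b : X) (s : Bool) :
    (⟨a, b, s⟩ : Wr X)⁻¹ = ⟨(cond s b a)⁻¹, (cond s a b)⁻¹, s⟩ := rfl

instance instGroupWr : Group (Wr X) := Group.ofLeftAxioms
  (by rintro ⟨a, b, _ | _⟩ ⟨c, d, _ | _⟩ ⟨e, f, s⟩ <;> simp [mul_assoc])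
  (by rintro ⟨a, b, s⟩; simp [one_def])
  (by rintro ⟨a, b, _ | _⟩ <;> simp [one_def])

end Wr

/-- The involution `(v, v⁻¹) σ`. -/
def dn (v : X) : Wr X := ⟨v, v⁻¹, true⟩

/-- The sixteen nodes in `X ≀ 2`. -/
def nd (g : ℕ → X) (u : X) (k : ℕ) : Wr X :=
  if k = 16 then dn 1 else if k = 15 then dn u else dn (g k)

end Cfsg.Lib.Mon.Y
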